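import Mathlib
import Cfsg.Prelude
import Cfsg.Agent.Lib.Grp.Cores
import Cfsg.Agent.Lib.Invol.Sylow
import Cfsg.Agent.S0205

/-!
Groups in which every involution centraliser is a 2-group.
-/

set_option autoImplicit false
set_option linter.style.haveILetI false

open scoped Pointwise

universe u

namespace Cfsg.Agent.Transfer.CIT

open Cfsg.Agent Subgroup

variable {G : Type u} [Group G]

/-- Every involution centraliser is a 2-group. -/
def IsCIT (G : Type*) [Group G] : Prop :=
  ∀ t : G, orderOf t = 2 → IsPGroup 2 (Subgroup.centralizer ({t} : Set G))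

theorem IsCIT.of_injective (h : IsCIT G) {A : Type*} [Group A] (f : A →* G) (hf : Function.Injective f) :
    IsCIT A := by
  intro t ht
  intro x
  obtain ⟨k, hk⟩ := h (f t) (by rw [orderOf_injective f hf, ht]) ⟨f x, mem_centralizer_singleton_iff.2 (by
    rw [← map_mul, ← map_mul, mem_centralizer_singleton_iff.1 x.2])⟩
  exact ⟨k, Subtype.ext (hf (by rw [SubmonoidClass.coe_pow, map_pow, OneMemClass.coe_one, map_one]
                                exact congrArg Subtype.val hk))⟩

theorem IsCIT.subgroup (h : IsCIT G) (H : Subgroup G) : IsCIT H := h.of_injective H.subtype H.subtype_injective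

theorem IsCIT.isPGroup_zpowers (h : IsCIT G) {t x : G} (ht : orderOf t = 2) (hx : Commute x t) :
    IsPGroup 2 (zpowers x) :=
  (h t ht).to_le (zpowers_le.2 (mem_centralizer_singleton_iff.2 hx.eq))

theorem IsCIT.orderOf_two_pow (h : IsCIT G) {t x : G} (ht : orderOf t = 2) (hx : Commute x t) :
    ∃ k : ℕ, orderOf x = 2 ^ k := by
  obtain ⟨k, hk⟩ := IsPGroup.iff_orderOf.1 (h.isPGroup_zpowers ht hx) ⟨x, mem_zpowers x⟩
  exact ⟨k, by rwa [orderOf_mk] at hk⟩

/-- An element of odd order commuting with an involution is trivial. -/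
theorem IsCIT.eq_one_of_odd (h : IsCIT G) {t x : G} (ht : orderOf t = 2) (hx : Commute x t)
    (ho : Odd (orderOf x)) : x = 1 := by
  obtain ⟨k, hk⟩ := h.orderOf_two_pow ht hx
  rw [hk] at ho
  rcases Nat.eq_zero_or_pos k with rfl | hk0
  · exact orderOf_eq_one_iff.1 (by simpa using hk)
  · exact absurd ho (Nat.not_odd_iff_even.2 (Nat.even_pow.2 ⟨even_two, hk0.ne'⟩))

variable [Finite G]

theorem exists_involution_mem {X : Subgroup G} (hX : IsPGroup 2 X) (hX1 : X ≠ ⊥) :
    ∃ t ∈ X, orderOf t = 2 := by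
  haveI := Fact.mk Nat.prime_two
  obtain ⟨k, hk⟩ := hX.exists_card_eq
  have hk0 : k ≠ 0 := fun e => hX1 (Subgroup.eq_bot_of_card_eq X (by simpa [e] using hk))
  exact Invol.exists_orderOf_two_mem (by rw [hk]; exact Nat.even_pow.2 ⟨even_two, hk0⟩)

theorem IsCIT.centralizer_isPGroup (h : IsCIT G) {X : Subgroup G} (hX : IsPGroup 2 X) (hX1 : X ≠ ⊥) :
    IsPGroup 2 (Subgroup.centralizer (X : Set G)) := by
  obtain ⟨t, htX, ht⟩ := exists_involution_mem hX hX1
  exact (h t ht).to_le (centralizer_le (Set.singleton_subset_iff.2 htX))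

/-- An odd element centralising a nontrivial 2-element is trivial. -/
theorem IsCIT.eq_one_of_commute (h : IsCIT G) {a x : G} {k : ℕ} (ha : orderOf a = 2 ^ k) (ha1 : a ≠ 1)
    (hx : Commute x a) (ho : Odd (orderOf x)) : x = 1 := by
  haveI := Fact.mk Nat.prime_two
  obtain ⟨i, hi, hi2⟩ := exists_involution_mem (Invol.isPGroup_zpowers ha)
    (fun e => ha1 (zpowers_eq_bot.1 e))
  obtain ⟨n, rfl⟩ := mem_zpowers_iff.1 hi
  exact h.eq_one_of_odd hi2 (hx.zpow_right n) ho

theorem isPGroup_eq_centralizer (h : IsCIT G) {t : G} (ht : orderOf t = 2) (S : Sylow 2 G)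
    (hS : ∀ s ∈ (S : Subgroup G), Commute s t) : Subgroup.centralizer ({t} : Set G) = S :=
  S.is_maximal' (h t ht) fun s hs => mem_centralizer_singleton_iff.2 (hS s hs).eq

theorem IsCIT.charTwoType (h : IsCIT G) (he : Even (Nat.card G)) : Cfsg.IsCharacteristicTwoType G := by
  haveI := Fact.mk Nat.prime_two
  refine ⟨he, fun T hT hT1 => ?_⟩
  set N := normalizer (T : Set G)
  have hTN : T ≤ N := le_normalizer
  haveI : (T.subgroupOf N).Normal := normal_in_normalizer
  have hle : T.subgroupOf N ≤ Cfsg.pCore 2 N := Grp.le_pCore inferInstance hT.comap_subtype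
  haveI : (Cfsg.pCore 2 N).Normal := Grp.pCore_isNormal
  refine Grp.le_pCore inferInstance ?_
  intro c
  obtain ⟨k, hk⟩ := h.centralizer_isPGroup hT hT1 ⟨((c : N) : G), fun x hx =>
    congrArg Subtype.val (c.2 ⟨x, hTN hx⟩ (hle hx))⟩
  exact ⟨k, Subtype.ext (Subtype.ext (by simpa using congrArg Subtype.val hk))⟩

/-- A non-abelian finite simple group has even order. -/
theorem even_card [IsSimpleGroup G] (hG : ¬ IsMulCommutative G) : Even (Nat.card G) := by
  by_contra h
  exact hG ⟨⟨IsSimpleGroup.comm_iff_isSolvable.2 (S0205.result (Nat.not_even_iff_odd.1 h))⟩⟩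

theorem pCore_eq_bot [IsSimpleGroup G] (hG : ¬ IsMulCommutative G) : Cfsg.pCore 2 G = ⊥ := by
  haveI := Fact.mk Nat.prime_two
  refine ((IsSimpleGroup.eq_bot_or_eq_top_of_normal _ Grp.pCore_isNormal)).resolve_right fun e => hG ?_
  have hp : IsPGroup 2 G := by
    have := Grp.pCore_isPGroup (G := G) (p := 2)
    rw [e] at this
    exact this.of_equiv topEquiv
  exact ⟨⟨IsSimpleGroup.comm_iff_isSolvable.2 (@IsNilpotent.to_isSolvable _ _ hp.isNilpotent)⟩⟩

theorem sylow_ne_bot [IsSimpleGroup G] (hG : ¬ IsMulCommutative G) (S : Sylow 2 G) :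
    (S : Subgroup G) ≠ ⊥ := by
  haveI := Fact.mk Nat.prime_two
  exact S.ne_bot_of_dvd_card (even_card hG).two_dvd

/-- The centraliser of the central involutions of a Sylow 2-subgroup normalises it. -/
theorem IsCIT.centralizer_omegaCenter_le (h : IsCIT G) (S : Sylow 2 G) (hS : (S : Subgroup G) ≠ ⊥) :
    Subgroup.centralizer {z : G | z ∈ (S : Subgroup G) ∧ z ^ 2 = 1 ∧
      ∀ s ∈ (S : Subgroup G), s * z = z * s} ≤ normalizer ((S : Subgroup G) : Set G) := by
  haveI := Fact.mk Nat.prime_two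
  haveI : Nontrivial (S : Subgroup G) := (nontrivial_iff_ne_bot _).2 hS
  haveI := S.isPGroup'.center_nontrivial
  obtain ⟨t, ht⟩ : ∃ t : center (S : Subgroup G), orderOf t = 2 := by
    obtain ⟨k, hk⟩ := (S.isPGroup'.to_subgroup (center (S : Subgroup G))).exists_card_eq
    have hk0 : k ≠ 0 := fun e => by
      rw [e, pow_zero] at hk
      exact absurd hk (Finite.one_lt_card (α := center (S : Subgroup G))).ne'
    exact exists_prime_orderOf_dvd_card' 2 ((dvd_pow_self 2 hk0).trans hk.symm.dvd)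
  set z : G := ((t : (S : Subgroup G)) : G) with hz
  have hz2 : orderOf z = 2 := by rw [hz, orderOf_coe, orderOf_coe, ht]
  have hzc : ∀ s ∈ (S : Subgroup G), Commute s z := fun s hs =>
    congrArg Subtype.val (mem_center_iff.1 t.2 ⟨s, hs⟩)
  intro x hx
  have hxz : x ∈ Subgroup.centralizer ({z} : Set G) := by
    rintro y rfl
    exact hx z ⟨(t : (S : Subgroup G)).2, by rw [← hz2, pow_orderOf_eq_one], fun s hs => (hzc s hs).eq⟩
  rw [isPGroup_eq_centralizer h hz2 S hzc] at hxz
  exact le_normalizer hxz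

end Cfsg.Agent.Transfer.CIT
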