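import Mathlib
import Cfsg.Agent.Lib.Transfer.CIT.Basic
import Cfsg.Agent.Lib.Transfer.Fusion
import Cfsg.Agent.Lib.Transfer.MaxClass
import Cfsg.Agent.Lib.Block.BSWRec.Dihedral
import Cfsg.Agent.S0112

/-!
Simple groups whose involution centralisers are 2-groups with a 2-local subgroup isomorphic to `S₄`.
-/

set_option autoImplicit false
set_option linter.style.haveILetI false

open scoped Pointwise

universe u

namespace Cfsg.Agent.Transfer.CIT

open Cfsg.Agent Subgroup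

/-- The four group of `S₄`. -/
def InV (x : Equiv.Perm (Fin 4)) : Prop := ∀ i, x (x i) = i ∧ (x ≠ 1 → x i ≠ i)

instance : DecidablePred InV := fun x => by unfold InV; infer_instance

theorem inV_of_closed : ∀ x : Equiv.Perm (Fin 4), x ^ 8 = 1 →
    (∀ g : Equiv.Perm (Fin 4), (x * (g * x * g⁻¹)) ^ 8 = 1) → InV x := by
  decide +kernel

theorem inV_conj : ∀ x y : Equiv.Perm (Fin 4), InV x → InV y → x ≠ 1 → y ≠ 1 →
    ∃ g : Equiv.Perm (Fin 4), g * x * g⁻¹ = y := by
  decide +kernel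

theorem inV_card : Nat.card {x : Equiv.Perm (Fin 4) // InV x} = 4 := by
  rw [Nat.card_eq_fintype_card]
  decide +kernel

theorem inV_self_centralizing : ∀ y : Equiv.Perm (Fin 4),
    (∀ v : Equiv.Perm (Fin 4), InV v → y * v = v * y) → InV y := by
  decide +kernel

/-- A nontrivial normal 2-subgroup of `S₄` is the four group. -/
theorem mem_normal_iff (P : Subgroup (Equiv.Perm (Fin 4))) [hn : P.Normal] (hP : IsPGroup 2 P)
    (h1 : P ≠ ⊥) (x : Equiv.Perm (Fin 4)) : x ∈ P ↔ InV x := by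
  haveI := Fact.mk Nat.prime_two
  have hpow : ∀ p ∈ P, p ^ 8 = 1 := by
    intro p hp
    obtain ⟨k, hk⟩ := IsPGroup.iff_orderOf.1 hP ⟨p, hp⟩
    rw [orderOf_mk] at hk
    refine orderOf_dvd_iff_pow_eq_one.1 ?_
    have hd : orderOf p ∣ 24 := by
      have := _root_.orderOf_dvd_natCard (x := p)
      rwa [Nat.card_eq_fintype_card, Fintype.card_perm, Fintype.card_fin] at this
    rw [hk] at hd ⊢
    have hk3 : k ≤ 3 := by
      by_contra h4
      have := (pow_dvd_pow 2 (show 4 ≤ k by omega)).trans hd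
      norm_num at this
    exact (pow_dvd_pow 2 hk3).trans (by norm_num)
  have hle : ∀ p ∈ P, InV p := fun p hp =>
    inV_of_closed p (hpow p hp) fun g => hpow _ (mul_mem hp (hn.conj_mem p hp g))
  refine ⟨hle x, fun hx => ?_⟩
  by_cases hx1 : x = 1
  · rw [hx1]; exact one_mem _
  obtain ⟨p, hp, hp1⟩ := P.bot_or_exists_ne_one.resolve_left h1
  obtain ⟨g, rfl⟩ := inV_conj p x (hle p hp) hx hp1 hx1
  exact hn.conj_mem p hp g

variable {G : Type u} [Group G] [Finite G]

/-- A 2-local subgroup isomorphic to `S₄` gives a self-centralising four group. -/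
theorem four_of_local {T : Subgroup G} (hT : IsPGroup 2 T) (hT1 : T ≠ ⊥)
    (e : normalizer (T : Set G) ≃* Equiv.Perm (Fin 4)) :
    Nat.card T = 4 ∧ Subgroup.centralizer (T : Set G) = T ∧ (∀ a ∈ T, a * a = 1) := by
  set N := normalizer (T : Set G)
  have hTN : T ≤ N := le_normalizer
  set P := (T.subgroupOf N).map e.toMonoidHom with hP
  haveI : (T.subgroupOf N).Normal := normal_in_normalizer
  haveI : P.Normal := Subgroup.Normal.map inferInstance _ e.surjective
  have hP2 : IsPGroup 2 P := hT.comap_subtype.map _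
  have hP1 : P ≠ ⊥ := fun h => hT1 (by
    rw [hP, map_eq_bot_iff_of_injective _ e.injective, subgroupOf_eq_bot, disjoint_iff,
      inf_eq_left.2 hTN] at h
    exact h)
  have hmem : ∀ a (ha : a ∈ N), (a ∈ T ↔ InV (e ⟨a, ha⟩)) := by
    intro a ha
    rw [← mem_normal_iff P hP2 hP1, hP]
    constructor
    · intro h; exact ⟨⟨a, ha⟩, h, rfl⟩
    · rintro ⟨b, hb, hbe⟩
      have : b = ⟨a, ha⟩ := e.injective hbe
      rw [this] at hb
      exact hb
  refine ⟨?_, le_antisymm (fun c hc => ?_) ?_, fun a ha => ?_⟩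
  · rw [← inV_card]
    refine Nat.card_congr ⟨fun a => ⟨e ⟨a, hTN a.2⟩, (hmem a (hTN a.2)).1 a.2⟩,
      fun v => ⟨(e.symm v : N), (hmem _ (e.symm v).2).2 (by simpa using v.2)⟩, fun a => ?_, fun v => ?_⟩
    · simp
    · simp
  · have hcN : c ∈ N := centralizer_le_normalizer _ hc
    refine (hmem c hcN).2 (inV_self_centralizing _ fun v hv => ?_)
    obtain ⟨⟨b, hb⟩, rfl⟩ := e.surjective v
    have := hc b ((hmem b hb).2 hv)
    rw [← map_mul, ← map_mul]
    exact congrArg e (Subtype.ext this.symm)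
  · intro a ha
    rw [mem_centralizer_iff]
    intro b hb
    have hcom : ∀ x y : Equiv.Perm (Fin 4), InV x → InV y → y * x = x * y := by decide +kernel
    have := hcom _ _ ((hmem a (hTN ha)).1 ha) ((hmem b (hTN hb)).1 hb)
    rw [← map_mul, ← map_mul] at this
    exact congrArg Subtype.val (e.injective this)
  · have hsq : ∀ x : Equiv.Perm (Fin 4), InV x → x * x = 1 := by decide +kernel
    have := hsq _ ((hmem a (hTN ha)).1 ha)
    rw [← map_mul, MulEquiv.map_eq_one_iff] at this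
    exact congrArg Subtype.val this

/-- Semidihedral Sylow 2-subgroups do not occur. -/
theorem IsCIT.not_semidihedral (h : IsCIT G) [IsSimpleGroup G] (hG : ¬ IsMulCommutative G) (S : Sylow 2 G)
    {k : ℕ} (hk : 1 ≤ k) {a b : (S : Subgroup G)} (ha : orderOf a = 2 ^ (k + 2))
    (hidx : (zpowers a).index = 2) (hb : b ∉ zpowers a) (hb2 : b * b = 1)
    (hrel : b * a * b⁻¹ = a ^ (2 ^ (k + 1) - 1)) : False := by
  classical
  haveI := Fact.mk Nat.prime_two
  haveI := normal_of_index_eq_two hidx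
  set z := a ^ 2 ^ (k + 1) with hz
  have hN2 : 2 ^ (k + 2) = 2 * 2 ^ (k + 1) := by rw [pow_succ']
  have hev : 2 ∣ 2 ^ (k + 1) := dvd_pow_self 2 (by omega)
  have hz2 : orderOf z = 2 := by
    rw [hz, orderOf_pow_of_dvd (by positivity) (by rw [ha, hN2]; exact dvd_mul_left _ _), ha, hN2,
      Nat.mul_div_cancel _ (by positivity)]
  have hzsq : z ^ 2 = 1 := orderOf_dvd_iff_pow_eq_one.1 hz2.dvd
  have hconj : ∀ i : ℕ, b * a ^ i * b⁻¹ = a ^ ((2 ^ (k + 1) - 1) * i) := fun i => by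
    rw [← conj_pow, hrel, ← pow_mul]
  -- the elements with even exponent
  set E : Set (S : Subgroup G) := {x | ∃ i : ℕ, 2 ∣ i ∧ (x = a ^ i ∨ x = a ^ i * b)} with hE
  have hshape : ∀ x, ∃ i : ℕ, x = a ^ i ∨ x = a ^ i * b := by
    intro x
    by_cases hx : x ∈ zpowers a
    · obtain ⟨i, hi⟩ := (mem_powers_iff_mem_zpowers).2 hx
      exact ⟨i, Or.inl hi.symm⟩
    · obtain ⟨i, hi⟩ := (mem_powers_iff_mem_zpowers).2
        ((mul_mem_iff_of_index_two hidx).2 (iff_of_false hx hb))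
      refine ⟨i, Or.inr ?_⟩
      simp only at hi
      rw [hi, mul_assoc, hb2, mul_one]
  have hodd : Odd (2 ^ (k + 1) - 1) := Nat.Even.sub_odd (Nat.one_le_two_pow)
    (Nat.even_pow.2 ⟨even_two, by omega⟩) odd_one
  have hba : ∀ j, b * a ^ j = a ^ ((2 ^ (k + 1) - 1) * j) * b := fun j => by
    rw [← hconj, inv_mul_cancel_right]
  let Dm : Submonoid (S : Subgroup G) :=
    { carrier := E
      one_mem' := ⟨0, dvd_zero 2, Or.inl (pow_zero a).symm⟩
      mul_mem' := by
        rintro x y ⟨i, hi, hx⟩ ⟨j, hj, hy⟩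
        rcases hx with rfl | rfl <;> rcases hy with rfl | rfl
        · exact ⟨i + j, dvd_add hi hj, Or.inl (pow_add a i j).symm⟩
        · exact ⟨i + j, dvd_add hi hj, Or.inr (by rw [pow_add, mul_assoc])⟩
        · refine ⟨i + (2 ^ (k + 1) - 1) * j, dvd_add hi (hj.mul_left _), Or.inr ?_⟩
          rw [pow_add, mul_assoc, hba, mul_assoc]
        · refine ⟨i + (2 ^ (k + 1) - 1) * j, dvd_add hi (hj.mul_left _), Or.inl ?_⟩
          rw [pow_add, mul_assoc, ← mul_assoc b, hba, mul_assoc _ b b, hb2, mul_one] }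
  have hinv' : ∀ x ∈ Dm, x⁻¹ ∈ Dm := fun x hx => by
    rw [inv_eq_of_mul_eq_one_right (show x * x ^ (orderOf x - 1) = 1 by
      rw [← pow_succ', Nat.sub_add_cancel (orderOf_pos x), pow_orderOf_eq_one])]
    exact Dm.pow_mem hx _
  let D : Subgroup (S : Subgroup G) := { Dm with inv_mem' := fun hx => hinv' _ hx }
  have haD : a ∉ D := by
    rintro ⟨i, hi, h1 | h1⟩
    · have hm := (pow_eq_pow_iff_modEq (n := 1) (m := i) (x := a)).1 (by rw [pow_one]; exact h1)
      rw [ha] at hm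
      have h2 := hm.of_dvd (dvd_pow_self 2 (by omega : k + 2 ≠ 0))
      obtain ⟨j, rfl⟩ := hi
      rw [Nat.ModEq, Nat.mul_mod_right] at h2
      omega
    · refine hb ?_
      rw [show b = (a ^ i)⁻¹ * a from eq_inv_mul_iff_mul_eq.2 h1.symm]
      exact mul_mem (inv_mem (pow_mem (mem_zpowers a) i)) (mem_zpowers a)
  have hDidx : D.index = 2 := by
    refine index_eq_two_iff.2 ⟨a, fun x => ?_⟩
    by_cases hxD : x ∈ D
    · exact Or.inr ⟨hxD, fun h => haD ((mul_mem_cancel_left hxD).1 h)⟩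
    · refine Or.inl ⟨?_, hxD⟩
      obtain ⟨i, hi⟩ := hshape x
      have hio : Odd i := Nat.not_even_iff_odd.1 fun he => hxD ⟨i, he.two_dvd, hi⟩
      rcases hi with rfl | rfl
      · exact ⟨i + 1, hio.add_one.two_dvd, Or.inl (pow_succ a i).symm⟩
      · refine ⟨i + (2 ^ (k + 1) - 1), (hio.add_odd hodd).two_dvd, Or.inr ?_⟩
        have h := hba 1
        rw [pow_one, mul_one] at h
        rw [pow_add, mul_assoc, h, mul_assoc]
  haveI : D.Normal := normal_of_index_eq_two hDidx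
  have hinvD : ∀ x : (S : Subgroup G), x * x = 1 → x ∈ D := by
    intro x hx
    obtain ⟨i, hi⟩ := hshape x
    refine ⟨i, ?_, hi⟩
    rcases hi with rfl | rfl
    · have h1 : 2 ^ (k + 2) ∣ i + i := ha ▸ orderOf_dvd_of_pow_eq_one (by rw [pow_add]; exact hx)
      rw [hN2, ← two_mul] at h1
      exact hev.trans ((Nat.mul_dvd_mul_iff_left two_pos).1 h1)
    · rw [mul_assoc, ← mul_assoc b, hba, mul_assoc _ b b, hb2, mul_one, ← pow_add] at hx
      have h1 : 2 ^ (k + 2) ∣ i + (2 ^ (k + 1) - 1) * i := ha ▸ orderOf_dvd_of_pow_eq_one hx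
      rw [show i + (2 ^ (k + 1) - 1) * i = ((2 ^ (k + 1) - 1) + 1) * i by ring,
        Nat.sub_add_cancel Nat.one_le_two_pow, hN2, mul_comm (2 ^ (k + 1)) i] at h1
      exact (Nat.mul_dvd_mul_iff_right (by positivity)).1 h1
  have hzc : ∀ x : (S : Subgroup G), Commute x z := by
    intro x
    have hbz : b * z = z * b := by
      rw [hz, hba, mul_comm, pow_mul, ← hz]
      congr 1
      obtain ⟨j, hj⟩ := hodd
      rw [hj, pow_succ, pow_mul, hzsq, one_pow, one_mul]
    have haz : ∀ i : ℕ, Commute (a ^ i) z := fun i => (Commute.refl a).pow_pow i _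
    obtain ⟨i, rfl | rfl⟩ := hshape x
    · exact haz i
    · exact (haz i).mul_left hbz
  set zG : G := (z : G) with hzG
  have hzG2 : orderOf zG = 2 := by rw [hzG, orderOf_coe, hz2]
  have hC : Subgroup.centralizer ({zG} : Set G) = (S : Subgroup G) :=
    isPGroup_eq_centralizer h hzG2 S fun s hs => congrArg Subtype.val (hzc ⟨s, hs⟩)
  have huniq : ∀ w : (S : Subgroup G), w ∈ zpowers a → orderOf w = 2 → w = z := by
    intro w hw hw2
    obtain ⟨i, rfl⟩ := (mem_powers_iff_mem_zpowers).2 hw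
    simp only at hw2 ⊢
    have h1 : 2 ^ (k + 2) ∣ i * 2 :=
      ha ▸ orderOf_dvd_of_pow_eq_one (by rw [pow_mul]; exact orderOf_dvd_iff_pow_eq_one.1 hw2.dvd)
    rw [pow_succ] at h1
    obtain ⟨j, rfl⟩ := (Nat.mul_dvd_mul_iff_right two_pos).1 h1
    rw [pow_mul, ← hz] at hw2 ⊢
    rcases Nat.even_or_odd j with ⟨l, rfl⟩ | ⟨l, rfl⟩
    · rw [← two_mul, pow_mul, hzsq, one_pow, orderOf_one] at hw2
      omega
    · rw [pow_succ, pow_mul, hzsq, one_pow, one_mul]
  have hpowz : ∀ x : (S : Subgroup G), x * x ≠ 1 → ∃ m : ℕ, orderOf x = 2 ^ m ∧ x ^ 2 ^ (m - 1) = z := by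
    intro x hx
    obtain ⟨m, hm⟩ := IsPGroup.iff_orderOf.1 S.isPGroup' x
    have hm2 : 2 ≤ m := by
      by_contra hlt
      refine hx ?_
      rw [← pow_two]
      exact orderOf_dvd_iff_pow_eq_one.1 (hm ▸ pow_dvd_pow 2 (by omega : m ≤ 1))
    refine ⟨m, hm, huniq _ ?_ ?_⟩
    · rw [show m - 1 = m - 2 + 1 by omega, pow_succ, pow_mul, pow_two]
      exact mul_self_mem_of_index_two hidx _
    · rw [orderOf_pow_of_dvd (by positivity) (hm ▸ pow_dvd_pow 2 (Nat.sub_le m 1)), hm,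
        Nat.pow_div (Nat.sub_le m 1) two_pos, show m - (m - 1) = 1 by omega, pow_one]
  have hfoc := commutator_inf_sylow_le S (K := D.map (S : Subgroup G).subtype) (fun x hx u hux => by
    refine ⟨(⟨x, hx⟩ : (S : Subgroup G))⁻¹ * ⟨u * x * u⁻¹, hux⟩, ?_, rfl⟩
    by_cases hsq : (⟨x, hx⟩ : (S : Subgroup G)) * ⟨x, hx⟩ = 1
    · have hsq' : x * x = 1 := congrArg Subtype.val hsq
      exact mul_mem (inv_mem (hinvD _ hsq)) (hinvD _ (Subtype.ext (by
        show u * x * u⁻¹ * (u * x * u⁻¹) = 1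
        rw [conj_mul, hsq', mul_one, mul_inv_cancel])))
    obtain ⟨m, hm, hmz⟩ := hpowz _ hsq
    have hsq' : (⟨u * x * u⁻¹, hux⟩ : (S : Subgroup G)) * ⟨u * x * u⁻¹, hux⟩ ≠ 1 := fun e => by
      refine hsq (Subtype.ext ?_)
      have e' : u * x * u⁻¹ * (u * x * u⁻¹) = 1 := congrArg Subtype.val e
      rw [conj_mul, conj_eq_one_iff] at e'
      exact e'
    obtain ⟨m', hm', hmz'⟩ := hpowz _ hsq'
    have hmm : m' = m := by
      rw [orderOf_mk, Invol.orderOf_conj_eq, ← orderOf_mk x hx, hm] at hm'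
      exact (Nat.pow_right_injective le_rfl hm').symm
    subst hmm
    have e1 : x ^ 2 ^ (m' - 1) = zG := congrArg Subtype.val hmz
    have e2 : (u * x * u⁻¹) ^ 2 ^ (m' - 1) = zG := congrArg Subtype.val hmz'
    rw [conj_pow, e1] at e2
    have huS : u ∈ (S : Subgroup G) := by
      rw [← hC]
      exact mem_centralizer_singleton_iff.2 (mul_inv_eq_iff_eq_mul.1 e2)
    show (⟨x, hx⟩ : (S : Subgroup G))⁻¹ * ⟨u * x * u⁻¹, hux⟩ ∈ D
    have hxu : (⟨u * x * u⁻¹, hux⟩ : (S : Subgroup G)) = ⟨u, huS⟩ * ⟨x, hx⟩ * ⟨u, huS⟩⁻¹ := rfl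
    rw [hxu, mul_mem_iff_of_index_two hDidx, inv_mem_iff]
    exact ⟨fun hmem => Normal.conj_mem inferInstance _ hmem _, fun hmem => by
      have hm := Normal.conj_mem ‹D.Normal› _ hmem (⟨u, huS⟩ : (S : Subgroup G))⁻¹
      rwa [show ∀ p q : (S : Subgroup G), p⁻¹ * (p * q * p⁻¹) * p⁻¹⁻¹ = q from fun p q => by group] at hm⟩)
  have htop : commutator G = ⊤ := (IsSimpleGroup.eq_bot_or_eq_top_of_normal _ inferInstance).resolve_left
    fun e => hG ⟨⟨fun p q => commutatorElement_eq_one_iff_mul_comm.1 (by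
      rw [← Subgroup.mem_bot, ← e]; exact commutator_mem_commutator (mem_top p) (mem_top q))⟩⟩
  rw [htop, top_inf_eq] at hfoc
  obtain ⟨d, hd, hde⟩ := hfoc a.2
  exact haD (by rwa [show d = a from Subtype.ext hde] at hd)

/-- A Sylow 2-subgroup with a self-centralising four group is dihedral. -/
theorem IsCIT.dihedral (h : IsCIT G) [IsSimpleGroup G] (hG : ¬ IsMulCommutative G) {V : Subgroup G}
    (hV : Nat.card V = 4) (hC : Subgroup.centralizer (V : Set G) = V) (hsq : ∀ a ∈ V, a * a = 1)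
    (S : Sylow 2 G) (hVS : V ≤ (S : Subgroup G)) (hne : Nat.card (S : Subgroup G) ≠ 4) :
    ∃ n : ℕ, 2 ≤ n ∧ Nonempty ((S : Subgroup G) ≃* DihedralGroup n) := by
  classical
  haveI := Fact.mk Nat.prime_two
  obtain ⟨n, hn⟩ := S.isPGroup'.exists_card_eq
  have hC' : Subgroup.centralizer ((V.subgroupOf (S : Subgroup G)) : Set (S : Subgroup G)) =
      V.subgroupOf (S : Subgroup G) := by
    ext x
    rw [mem_subgroupOf]
    nth_rewrite 2 [← hC]
    rw [mem_centralizer_iff, mem_centralizer_iff]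
    exact ⟨fun hx v hv => congrArg Subtype.val (hx ⟨v, hVS hv⟩ hv),
      fun hx v hv => Subtype.ext (hx v hv)⟩
  have hV' : Nat.card (V.subgroupOf (S : Subgroup G)) = 2 ^ 2 := by
    rw [Nat.card_congr (subgroupOfEquivOfLe hVS).toEquiv, hV]; norm_num
  have hn3 : 3 ≤ n := by
    have h1 := card_subgroup_dvd_card (V.subgroupOf (S : Subgroup G))
    rw [hV', hn, Nat.pow_dvd_pow_iff_le_right (by norm_num)] at h1
    rcases h1.lt_or_eq with h2 | h2
    · omega
    · subst h2; rw [hn] at hne; norm_num at hne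
  obtain ⟨h4, hne'⟩ := MaxClass.index_four_of_class hn3 hn (Agent.S0112.result n hn _ hV' hC')
  obtain ⟨k, a, x, ha, hidx, hx, -, ⟨h1, h2⟩ | ⟨h1, h2⟩ | ⟨hk, h1, h2⟩⟩ :=
    MaxClass.shape S.isPGroup' h4 hne'
  · exact ⟨2 ^ (k + 2), Nat.le_self_pow (by omega) 2,
      MaxClass.nonempty_dihedral (by positivity) ha hidx hx h2 h1⟩
  · exfalso
    haveI := normal_of_index_eq_two hidx
    have hx1 : x * x ≠ 1 := by
      rw [h2]
      intro e
      have h3 := orderOf_dvd_of_pow_eq_one e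
      rw [ha, Nat.pow_dvd_pow_iff_le_right (by norm_num)] at h3
      omega
    have hall : ∀ w : (S : Subgroup G), w * w = 1 → w ∈ zpowers a := by
      intro w hw
      by_contra hwn
      obtain ⟨i, hi⟩ := mem_zpowers_iff.1 ((mul_mem_iff_of_index_two hidx).2 (iff_of_false hwn hx))
      have hxa : x⁻¹ * a ^ i * x = (a ^ i)⁻¹ := by
        have h3 : x * (a ^ i)⁻¹ * x⁻¹ = a ^ i := by
          rw [← zpow_neg, ← conj_zpow, h1, inv_zpow, zpow_neg, inv_inv]
        nth_rewrite 1 [← h3]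
        group
      refine hx1 ?_
      calc x * x = (a ^ i * (a ^ i)⁻¹ * x⁻¹ * x⁻¹)⁻¹ := by
            rw [mul_inv_cancel, one_mul, mul_inv_rev, inv_inv]
        _ = (a ^ i * (x⁻¹ * a ^ i * x) * x⁻¹ * x⁻¹)⁻¹ := by rw [hxa]
        _ = (w * w)⁻¹ := by
          rw [show w = a ^ i * x⁻¹ by rw [hi, mul_inv_cancel_right]]
          group
        _ = 1 := by rw [hw, inv_one]
    have hle : V.subgroupOf (S : Subgroup G) ≤ zpowers a := fun v hv =>
      hall v (Subtype.ext (hsq _ (mem_subgroupOf.1 hv)))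
    haveI : IsCyclic (V.subgroupOf (S : Subgroup G)) :=
      isCyclic_of_injective (inclusion hle) (inclusion_injective hle)
    obtain ⟨g, hg⟩ := IsCyclic.exists_generator (α := V.subgroupOf (S : Subgroup G))
    have hg4 := orderOf_eq_card_of_forall_mem_zpowers hg
    rw [hV'] at hg4
    have hg2 : orderOf g ∣ 2 := orderOf_dvd_of_pow_eq_one (by
      rw [pow_two]; exact Subtype.ext (Subtype.ext (hsq _ (mem_subgroupOf.1 g.2))))
    rw [hg4] at hg2
    norm_num at hg2
  · exact (h.not_semidihedral hG S hk ha hidx hx h2 h1).elim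

end Cfsg.Agent.Transfer.CIT
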