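import Mathlib
import Cfsg.Agent.Lib.Transfer.CIT.Basic
import Cfsg.Agent.Lib.Transfer.TICent.Config
import Cfsg.Agent.Lib.Invol.StronglyEmbeddedCount
import Cfsg.Agent.S0200
import Cfsg.Agent.S0204
import Cfsg.Agent.S0340

/-!
Simple groups whose involution centralisers are 2-groups and which have a strongly embedded 2-local
subgroup: the Sylow 2-subgroups are TI and the group is a Zassenhaus group.
-/

set_option autoImplicit false
set_option linter.style.haveILetI false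

open scoped Pointwise

universe u

namespace Cfsg.Agent.Transfer.CIT

open Cfsg.Agent Subgroup

variable {G : Type u} [Group G] [Finite G]

/-- An element outside the 2-core inverting an odd element lifts to an involution outside the 2-core. -/
theorem IsCIT.exists_involution_notMem (h : IsCIT G) {M : Subgroup G} (Q : Subgroup M) [Q.Normal]
    (hQ : IsPGroup 2 Q) (hQ1 : Q ≠ ⊥) (hO : Cfsg.pCore 2 (M ⧸ Q) = ⊥)
    (he : Even (Nat.card (M ⧸ Q))) : ∃ u : M, orderOf u = 2 ∧ u ∉ Q := by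
  classical
  haveI := Fact.mk Nat.prime_two
  obtain ⟨ub, hub⟩ := exists_prime_orderOf_dvd_card' (G := M ⧸ Q) 2 he.two_dvd
  obtain ⟨xb, hxb1, hxbo, hinv⟩ := S0200.result ub hub fun N hN hNp hm => by
    have := Grp.le_pCore hN hNp hm
    rw [hO, mem_bot] at this
    exact Invol.ne_one_of_orderOf_two hub this
  obtain ⟨y, rfl⟩ := QuotientGroup.mk_surjective xb
  obtain ⟨g, rfl⟩ := QuotientGroup.mk_surjective ub
  -- an odd-order lift
  obtain ⟨x, hxo, hxy⟩ : ∃ x : M, Odd (orderOf x) ∧ (x : M ⧸ Q) = (y : M ⧸ Q) := by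
    obtain ⟨a, m, hm, ho⟩ : ∃ a m : ℕ, ¬ 2 ∣ m ∧ orderOf y = 2 ^ a * m :=
      Nat.exists_eq_pow_mul_and_not_dvd (orderOf_pos y).ne' 2 (by norm_num)
    have hco : (2 ^ a).Coprime (orderOf (y : M ⧸ Q)) :=
      (Nat.coprime_two_left.2 hxbo).pow_left a
    obtain ⟨e, he'⟩ := exists_pow_eq_self_of_coprime hco
    refine ⟨(y ^ 2 ^ a) ^ e, ?_, by rw [QuotientGroup.mk_pow, QuotientGroup.mk_pow, he']⟩
    have h1 : orderOf (y ^ 2 ^ a) = m := by
      rw [orderOf_pow_of_dvd (by positivity) (ho ▸ dvd_mul_right _ _), ho,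
        Nat.mul_div_cancel_left _ (by positivity)]
    refine Odd.of_dvd_nat ?_ (orderOf_pow_dvd e)
    rw [h1]
    exact Nat.odd_iff.2 (by omega)
  have hx1 : x ≠ 1 := fun e => hxb1 (by rw [← hxy, e, QuotientGroup.mk_one])
  obtain ⟨z, hz, hz2⟩ := exists_involution_mem hQ hQ1
  have hfree : ∀ q ∈ Q, Commute q x → q = 1 := by
    intro q hq hqx
    by_contra hq1
    obtain ⟨k, hk⟩ := IsPGroup.iff_orderOf.1 hQ ⟨q, hq⟩
    rw [orderOf_mk] at hk
    exact hx1 ((h.subgroup M).eq_one_of_commute hk hq1 hqx.symm hxo)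
  -- every element of the coset is a conjugate of `x`
  have hsurj : ∀ r ∈ Q, ∃ q ∈ Q, q * x * q⁻¹ = r * x := by
    let f : Q → Q := fun q => ⟨(q : M) * (x * (q : M)⁻¹ * x⁻¹),
      mul_mem q.2 (Normal.conj_mem inferInstance _ (inv_mem q.2) x)⟩
    have hf : Function.Injective f := by
      intro p q e
      have e' : (p : M) * (x * (p : M)⁻¹ * x⁻¹) = (q : M) * (x * (q : M)⁻¹ * x⁻¹) := congrArg Subtype.val e
      refine Subtype.ext ((inv_mul_eq_one.1 (hfree _ (mul_mem (inv_mem q.2) p.2) ?_)).symm)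
      show (q : M)⁻¹ * p * x = x * ((q : M)⁻¹ * p)
      calc (q : M)⁻¹ * p * x = (q : M)⁻¹ * ((p : M) * (x * (p : M)⁻¹ * x⁻¹)) * x * p := by group
        _ = x * ((q : M)⁻¹ * p) := by rw [e']; group
    intro r hr
    obtain ⟨q, hq⟩ := Finite.injective_iff_surjective.1 hf ⟨r, hr⟩
    refine ⟨q, q.2, ?_⟩
    rw [← show (q : M) * (x * (q : M)⁻¹ * x⁻¹) = r from congrArg Subtype.val hq]
    group
  have hr : x * (g * x * g⁻¹) ∈ Q := by
    rw [← QuotientGroup.eq_one_iff]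
    simp only [QuotientGroup.mk_mul, QuotientGroup.mk_inv, hxy]
    rw [hinv, mul_inv_cancel]
  obtain ⟨q, hq, hqe⟩ := hsurj ((x * (g * x * g⁻¹))⁻¹) (inv_mem hr)
  -- `q * x * q⁻¹ = (g * x * g⁻¹)⁻¹`
  have hqe' : q * x * q⁻¹ = (g * x * g⁻¹)⁻¹ := by rw [hqe]; group
  set w := q⁻¹ * g with hw
  have hwx : w * x * w⁻¹ = x⁻¹ := by
    calc w * x * w⁻¹ = q⁻¹ * (g * x * g⁻¹) * q := by rw [hw]; group
      _ = q⁻¹ * ((q * x * q⁻¹))⁻¹ * q := by rw [hqe', inv_inv]
      _ = x⁻¹ := by group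
  have hwQ : (w : M ⧸ Q) = (g : M ⧸ Q) := by
    rw [hw, QuotientGroup.mk_mul, (QuotientGroup.eq_one_iff _).2 (inv_mem hq), one_mul]
  have hw2Q : w * w ∈ Q := by
    rw [← QuotientGroup.eq_one_iff, QuotientGroup.mk_mul, hwQ]
    exact Invol.mul_self_of_orderOf_two hub
  have hw2 : w * w = 1 := hfree _ hw2Q (by
    show w * w * x = x * (w * w)
    calc w * w * x = w * (w * x * w⁻¹) * w := by group
      _ = w * x⁻¹ * w := by rw [hwx]
      _ = (w * x * w⁻¹)⁻¹ * (w * w) := by group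
      _ = x * (w * w) := by rw [hwx, inv_inv])
  have hwn : w ∉ Q := fun hmem => Invol.ne_one_of_orderOf_two hub (by
    rw [← hwQ]; exact (QuotientGroup.eq_one_iff w).2 hmem)
  exact ⟨w, Invol.orderOf_two_iff.2 ⟨hw2, fun e => hwn (e ▸ one_mem Q)⟩, hwn⟩

/-- In a maximal 2-local subgroup, the 2-core contains every 2-local parent. -/
theorem exists_core {M : Subgroup G} (hM : Cfsg.IsMaximalTwoLocal M) :
    Cfsg.pCore 2 M ≠ ⊥ ∧ normalizer (((Cfsg.pCore 2 M).map M.subtype : Subgroup G) : Set G) = M := by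
  haveI := Fact.mk Nat.prime_two
  obtain ⟨⟨T, hT, hT1, rfl⟩, hmax⟩ := hM
  set N := normalizer (T : Set G)
  have hTN : T ≤ N := le_normalizer
  haveI : (T.subgroupOf N).Normal := normal_in_normalizer
  have hle : T.subgroupOf N ≤ Cfsg.pCore 2 N := Grp.le_pCore inferInstance hT.comap_subtype
  have hne : Cfsg.pCore 2 N ≠ ⊥ := ne_bot_of_le_ne_bot (fun e => hT1 (by
    rwa [subgroupOf_eq_bot, disjoint_iff, inf_eq_left.2 hTN] at e)) hle
  refine ⟨hne, hmax _ ⟨_, Grp.pCore_isPGroup.map _, ?_, rfl⟩ fun g hg => ?_⟩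
  · rwa [Ne, map_eq_bot_iff_of_injective _ N.subtype_injective]
  · haveI : (Cfsg.pCore 2 N).Normal := Grp.pCore_isNormal
    refine mem_normalizer_fintype ?_
    rintro _ ⟨x, hx, rfl⟩
    exact ⟨_, Normal.conj_mem inferInstance x hx ⟨g, hg⟩, rfl⟩

/-- The 2-core of a strongly embedded maximal 2-local subgroup is a Sylow 2-subgroup of the group. -/
theorem IsCIT.sylow_of_embedded (h : IsCIT G) {M : Subgroup G} (hM : Cfsg.IsMaximalTwoLocal M)
    (hSE : Cfsg.IsStronglyEmbedded M) :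
    ∃ S : Sylow 2 G, normalizer ((S : Subgroup G) : Set G) = M := by
  classical
  haveI := Fact.mk Nat.prime_two
  obtain ⟨hQ1, hN⟩ := exists_core hM
  set Q := Cfsg.pCore 2 M with hQdef
  haveI : Q.Normal := Grp.pCore_isNormal
  have hQp : IsPGroup 2 Q := Grp.pCore_isPGroup
  obtain ⟨t, ht, ht2⟩ := exists_involution_mem hQp hQ1
  have hall : ∀ u : M, orderOf u = 2 → u ∈ Q := by
    intro u hu
    obtain ⟨g, hg⟩ := isConj_iff.1 (Invol.isConj_involutions hSE
      (show orderOf (t : G) = 2 by rw [orderOf_coe, ht2]) (show orderOf (u : G) = 2 by rw [orderOf_coe, hu]))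
    have hgM : g⁻¹ ∈ M := (Invol.isStronglyEmbedded_iff hSE.1 hSE.2.1).1 hSE t t.2
      (by rw [orderOf_coe, ht2]) g⁻¹ (by rw [inv_inv, hg]; exact u.2)
    have := Normal.conj_mem inferInstance t ht ⟨g, inv_mem_iff.1 hgM⟩
    rwa [show (⟨g, inv_mem_iff.1 hgM⟩ : M) * t * (⟨g, inv_mem_iff.1 hgM⟩ : M)⁻¹ = u from Subtype.ext hg] at this
  have hidx : ¬ 2 ∣ Q.index := by
    intro hd
    suffices hO : Cfsg.pCore 2 (M ⧸ Q) = ⊥ by
      obtain ⟨u, hu, hun⟩ := h.exists_involution_notMem Q hQp hQ1 hO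
        (by rwa [← Subgroup.index_eq_card, even_iff_two_dvd])
      exact hun (hall u hu)
    haveI : (Cfsg.pCore 2 (M ⧸ Q)).Normal := Grp.pCore_isNormal
    rw [eq_bot_iff]
    intro y hy
    obtain ⟨x, rfl⟩ := QuotientGroup.mk_surjective y
    refine (QuotientGroup.eq_one_iff x).2
      (Grp.le_pCore (N := (Cfsg.pCore 2 (M ⧸ Q)).comap (QuotientGroup.mk' Q)) inferInstance ?_ hy)
    exact Grp.pCore_isPGroup.comap_of_ker_isPGroup _ (by rw [QuotientGroup.ker_mk']; exact hQp)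
  set Q' := Q.map M.subtype with hQ'
  have hQ'p : IsPGroup 2 Q' := hQp.map _
  obtain ⟨S, hS⟩ := hQ'p.exists_le_sylow
  refine ⟨S, ?_⟩
  suffices e : (S : Subgroup G) = Q' by rw [e]; exact hN
  refine le_antisymm ?_ hS
  by_contra hlt
  haveI : Group.IsNilpotent (S : Subgroup G) := S.isPGroup'.isNilpotent
  have hlt' : Q'.subgroupOf S < ⊤ := lt_top_iff_ne_top.2 fun e => hlt (subgroupOf_eq_top.1 e)
  obtain ⟨y, hy, hyn⟩ := SetLike.exists_of_lt (Group.normalizerCondition_of_isNilpotent _ hlt')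
  have hyM : (y : G) ∈ M := by
    rw [← hN]
    refine mem_normalizer_fintype fun a ha => ?_
    exact (mem_normalizer_iff.1 hy ⟨a, hS ha⟩).1 ha
  refine hyn ⟨⟨y, hyM⟩, ?_, rfl⟩
  show (⟨(y : G), hyM⟩ : M) ∈ Q
  rw [← QuotientGroup.eq_one_iff]
  obtain ⟨k, hk⟩ := IsPGroup.iff_orderOf.1 S.isPGroup' y
  refine orderOf_eq_one_iff.1 (Nat.eq_one_of_dvd_coprimes
    ((Nat.prime_two.coprime_iff_not_dvd.2 hidx).pow_left k) ?_ ?_)
  · refine (orderOf_map_dvd (QuotientGroup.mk' Q) ⟨(y : G), hyM⟩).trans ?_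
    rw [orderOf_mk, orderOf_coe, hk]
  · rw [index_eq_card]; exact orderOf_dvd_natCard _

/-- The Zassenhaus configuration. -/
theorem IsCIT.cfg (h : IsCIT G) [IsSimpleGroup G] (hG : ¬ IsMulCommutative G) (S : Sylow 2 G)
    (hSE : Cfsg.IsStronglyEmbedded (normalizer ((S : Subgroup G) : Set G))) :
    ∃ t : G, TICent.Cfg t S := by
  classical
  haveI := Fact.mk Nat.prime_two
  haveI : Nontrivial (S : Subgroup G) := (nontrivial_iff_ne_bot _).2 (sylow_ne_bot hG S)
  haveI := S.isPGroup'.center_nontrivial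
  obtain ⟨z, hzc, hz2⟩ := exists_involution_mem (G := (S : Subgroup G))
    (S.isPGroup'.to_subgroup (center (S : Subgroup G))) ((nontrivial_iff_ne_bot _).1 inferInstance)
  set t : G := (z : G)
  have ht : orderOf t = 2 := by rw [orderOf_coe, hz2]
  have hcS : ∀ s ∈ (S : Subgroup G), Commute s t := fun s hs =>
    congrArg Subtype.val (mem_center_iff.1 hzc ⟨s, hs⟩)
  have hA : Fus.CTSimple.A t = (S : Subgroup G) := isPGroup_eq_centralizer h ht S hcS
  have hMt : Fus.CTSimple.M t = normalizer ((S : Subgroup G) : Set G) := by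
    show normalizer ((Fus.CTSimple.A t : Subgroup G) : Set G) = _
    rw [hA]
  have hSE' := (Invol.isStronglyEmbedded_iff hSE.1 hSE.2.1).1 hSE
  have hinv : ∀ i ∈ normalizer ((S : Subgroup G) : Set G), orderOf i = 2 → i ∈ (S : Subgroup G) :=
    fun i hi hi2 => by
      have h2 := (IsPGroup.of_card (p := 2) (n := 1) (G := zpowers i)
        (by rw [Nat.card_zpowers, hi2, pow_one])).to_sup_of_normal_right' S.isPGroup' (zpowers_le.2 hi)
      exact (S.is_maximal' h2 le_sup_right).le (mem_sup_left (mem_zpowers i))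
  have hpow : ∀ a ∈ (S : Subgroup G), a ≠ 1 → ∃ i, orderOf i = 2 ∧ ∃ n : ℤ, a ^ n = i := by
    intro a ha ha1
    obtain ⟨i, hi, hi2⟩ := exists_involution_mem (S.isPGroup'.to_le (zpowers_le.2 ha))
      (fun e => ha1 (zpowers_eq_bot.1 e))
    exact ⟨i, hi2, mem_zpowers_iff.1 hi⟩
  have tiA : ∀ g a, a ∈ (S : Subgroup G) → a ≠ 1 → g * a * g⁻¹ ∈ (S : Subgroup G) →
      g ∈ normalizer ((S : Subgroup G) : Set G) := by
    intro g a ha ha1 hg
    obtain ⟨i, hi2, n, hn⟩ := hpow a ha ha1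
    refine inv_mem_iff.1 (hSE' i (le_normalizer (hn ▸ zpow_mem ha n)) hi2 g⁻¹ ?_)
    rw [inv_inv, ← hn, ← conj_zpow]
    exact le_normalizer (zpow_mem hg n)
  refine ⟨t, ⟨ht, hA.ge, ?_, ?_, ?_, ?_, hMt ▸ hSE.1, ?_⟩⟩
  · rw [hA]; exact S.isPGroup'.isNilpotent
  · intro g a ha ha1 hg
    rw [hA] at ha hg
    rw [hMt]
    exact tiA g a ha ha1 hg
  · intro a x ha ha1 hxa
    rw [hA] at ha ⊢
    obtain ⟨i, hi2, n, hn⟩ := hpow a ha ha1
    have hxi : Commute x i := hn ▸ hxa.zpow_right n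
    have hxM : x ∈ normalizer ((S : Subgroup G) : Set G) :=
      tiA x i (hn ▸ zpow_mem ha n) (Invol.ne_one_of_orderOf_two hi2)
        (by rw [hxi.eq, mul_inv_cancel_right]; exact hn ▸ zpow_mem ha n)
    exact (S.is_maximal' ((h.isPGroup_zpowers hi2 hxi).to_sup_of_normal_right' S.isPGroup'
      (zpowers_le.2 hxM)) le_sup_right).le (mem_sup_left (mem_zpowers x))
  · intro i hi hi2 x hx
    rw [hA] at hi hx
    obtain ⟨g, hg⟩ := isConj_iff.1 (Invol.isConj_involutions hSE ht hi2)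
    have hgM := tiA g t z.2 (Invol.ne_one_of_orderOf_two ht) (hg ▸ hi)
    have hx' : g⁻¹ * x * g ∈ (S : Subgroup G) := by
      have := (mem_normalizer_iff.1 (inv_mem hgM) x).1 hx
      rwa [inv_inv] at this
    have h1 := (hcS _ hx').map (MulAut.conj g)
    rw [← hg]
    simpa [mul_assoc] using h1
  · by_contra hle
    have h1 : ((Fus.CTSimple.A t).subgroupOf (Fus.CTSimple.M t)).index = 1 :=
      le_antisymm (not_lt.1 hle) (Nat.one_le_iff_ne_zero.2 index_ne_zero_of_finite)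
    rw [index_eq_one, subgroupOf_eq_top, hMt, hA] at h1
    obtain ⟨E, hE⟩ := S0204.result (G := G) (fun hc => hG hc.commutative)
    obtain ⟨g, hgE⟩ := Invol.exists_conj_subset_sylow (IsPGroup.of_card (p := 2) (n := 2)
      (G := E) (by rw [IsKleinFour.card_four]; norm_num)) S
    have hone : ∀ i ∈ (S : Subgroup G), orderOf i = 2 → i = t := by
      intro i hi hi2
      obtain ⟨c, hc⟩ := isConj_iff.1 (Invol.isConj_involutions hSE ht hi2)
      have hcS' := h1 (tiA c t z.2 (Invol.ne_one_of_orderOf_two ht) (hc ▸ hi))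
      rw [← hc, (hcS c hcS').eq, mul_inv_cancel_right]
    have hord : ∀ e : E, e ≠ 1 → g * (e : G) * g⁻¹ = t := fun e he =>
      hone _ (hgE e e.2) (by
        rw [Invol.orderOf_conj_eq, orderOf_coe]
        exact orderOf_eq_prime (by rw [pow_two]; exact IsKleinFour.mul_self e) he)
    obtain ⟨a, b, ha, hb, hab⟩ : ∃ a b : E, a ≠ 1 ∧ b ≠ 1 ∧ a ≠ b := by
      haveI := Fintype.ofFinite E
      have hcard : 2 < Fintype.card E := by
        rw [← Nat.card_eq_fintype_card, IsKleinFour.card_four]; norm_num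
      obtain ⟨a, b, c, hab, hac, hbc⟩ := Fintype.two_lt_card_iff.1 hcard
      rcases eq_or_ne a 1 with rfl | ha
      · exact ⟨b, c, hab.symm, hac.symm, hbc⟩
      rcases eq_or_ne b 1 with rfl | hb
      · exact ⟨a, c, ha, hbc.symm, hac⟩
      exact ⟨a, b, ha, hb, hab⟩
    exact hab (Subtype.ext (mul_left_cancel (mul_right_cancel ((hord a ha).trans (hord b hb).symm))))

/-- With a strongly embedded maximal 2-local subgroup the group is known. -/
theorem IsCIT.of_embedded (h : IsCIT G) [IsSimpleGroup G] (hG : ¬ IsMulCommutative G) {M : Subgroup G}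
    (hM : Cfsg.IsMaximalTwoLocal M) (hSE : Cfsg.IsStronglyEmbedded M) :
    (∃ (F : Type) (_ : Field F) (_ : Fintype F),
      Nonempty (G ≃* Matrix.ProjectiveSpecialLinearGroup (Fin 2) F)) ∨ Cfsg.IsSuzuki G := by
  obtain ⟨S, rfl⟩ := h.sylow_of_embedded hM hSE
  obtain ⟨t, c⟩ := h.cfg hG S hSE
  exact S0340.result c.zassenhaus

end Cfsg.Agent.Transfer.CIT
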