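import Mathlib
import Cfsg.Agent.Lib.Transfer.CIT.Basic
import Cfsg.Agent.Lib.Grp.Basic
import Cfsg.Agent.Lib.Invol.InvolAction
import Cfsg.Agent.Lib.Invol.JCompBasic

/-!
Elementary abelian 2-subgroups, conjugates, and fixed-point-free odd elements in CIT groups.
-/

set_option autoImplicit false
set_option linter.style.haveILetI false

open scoped Pointwise

universe u

namespace Cfsg.Agent.Transfer.CIT

open Cfsg.Agent Subgroup

variable {G : Type u} [Group G]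

/-- An elementary abelian 2-subgroup. -/
def El (A : Subgroup G) : Prop := (∀ x ∈ A, ∀ y ∈ A, x * y = y * x) ∧ ∀ x ∈ A, x * x = 1

theorem El.inv_eq {A : Subgroup G} (h : El A) {x : G} (hx : x ∈ A) : x⁻¹ = x :=
  inv_eq_of_mul_eq_one_right (h.2 x hx)

theorem El.mono {A B : Subgroup G} (h : El A) (hB : B ≤ A) : El B :=
  ⟨fun x hx y hy => h.1 x (hB hx) y (hB hy), fun x hx => h.2 x (hB hx)⟩

theorem El.isPGroup {A : Subgroup G} (h : El A) : IsPGroup 2 A :=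
  fun x => ⟨1, Subtype.ext (by rw [pow_one, pow_two]; exact h.2 x x.2)⟩

theorem El.orderOf_eq_two {A : Subgroup G} (h : El A) {x : G} (hx : x ∈ A) (hx1 : x ≠ 1) : orderOf x = 2 :=
  Invol.orderOf_two_iff.2 ⟨h.2 x hx, hx1⟩

theorem le_normalizer_of_commute {A B : Subgroup G} (hc : ∀ a ∈ A, ∀ b ∈ B, a * b = b * a) :
    A ≤ normalizer (B : Set G) := fun a ha =>
  centralizer_le_normalizer _ (mem_centralizer_iff.2 fun b hb => (hc a ha b hb).symm)

theorem El.sup {A B : Subgroup G} (hA : El A) (hB : El B) (hc : ∀ a ∈ A, ∀ b ∈ B, a * b = b * a) :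
    El (A ⊔ B) := by
  have hmem : ∀ z ∈ A ⊔ B, ∃ a ∈ A, ∃ b ∈ B, z = a * b := by
    intro z hz
    rw [← SetLike.mem_coe, coe_mul_of_left_le_normalizer_right _ _ (le_normalizer_of_commute hc)] at hz
    obtain ⟨a, ha, b, hb, rfl⟩ := hz
    exact ⟨a, ha, b, hb, rfl⟩
  refine ⟨fun x hx y hy => ?_, fun x hx => ?_⟩
  · obtain ⟨a, ha, b, hb, rfl⟩ := hmem x hx
    obtain ⟨c, hcA, d, hd, rfl⟩ := hmem y hy
    exact (((show Commute a c from hA.1 a ha c hcA).mul_right (hc a ha d hd)).mul_left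
      ((show Commute b c from (hc c hcA b hb).symm).mul_right (hB.1 b hb d hd))).eq
  · obtain ⟨a, ha, b, hb, rfl⟩ := hmem x hx
    rw [(show Commute b a from (hc a ha b hb).symm).mul_mul_mul_comm, hA.2 a ha, hB.2 b hb, one_mul]

theorem El.zpowers {x : G} (hx : x * x = 1) : El (Subgroup.zpowers x) := by
  refine ⟨fun a ha b hb => ?_, fun a ha => ?_⟩
  · obtain ⟨i, rfl⟩ := mem_zpowers_iff.1 ha
    obtain ⟨j, rfl⟩ := mem_zpowers_iff.1 hb
    rw [← zpow_add, ← zpow_add, add_comm]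
  · obtain ⟨i, rfl⟩ := mem_zpowers_iff.1 ha
    rw [← (Commute.refl x).mul_zpow, hx, one_zpow]

/-- The conjugate subgroup. -/
def cj (x : G) (H : Subgroup G) : Subgroup G := H.map (MulAut.conj x).toMonoidHom

theorem mem_cj {x y : G} {H : Subgroup G} : y ∈ cj x H ↔ x⁻¹ * y * x ∈ H := by
  constructor
  · rintro ⟨z, hz, rfl⟩
    simpa [mul_assoc] using hz
  · intro h
    exact ⟨_, h, by simp [mul_assoc]⟩

theorem conj_mem_cj {x y : G} {H : Subgroup G} (hy : y ∈ H) : x * y * x⁻¹ ∈ cj x H := ⟨y, hy, rfl⟩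

theorem cj_mul (x y : G) (H : Subgroup G) : cj (x * y) H = cj x (cj y H) := by
  ext z
  simp [mem_cj, mul_assoc]

theorem cj_one (H : Subgroup G) : cj 1 H = H := by
  ext z
  simp [mem_cj]

theorem cj_inv_cj (x : G) (H : Subgroup G) : cj x⁻¹ (cj x H) = H := by
  rw [← cj_mul, inv_mul_cancel, cj_one]

theorem cj_mono {x : G} {H K : Subgroup G} (h : H ≤ K) : cj x H ≤ cj x K := map_mono h

theorem card_cj (x : G) (H : Subgroup G) : Nat.card (cj x H) = Nat.card H :=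
  card_map_of_injective (MulAut.conj x).injective

theorem El.cj {A : Subgroup G} (h : El A) (x : G) : El (cj x A) := by
  refine ⟨?_, ?_⟩
  · rintro _ ⟨a, ha, rfl⟩ _ ⟨b, hb, rfl⟩
    rw [← map_mul, h.1 a ha b hb, map_mul]
  · rintro _ ⟨a, ha, rfl⟩
    rw [← map_mul, h.2 a ha, map_one]

theorem mem_normalizer_of_cj_le [Finite G] {x : G} {H : Subgroup G} (h : cj x H ≤ H) :
    x ∈ normalizer (H : Set G) :=
  mem_normalizer_fintype fun _ hy => h (conj_mem_cj hy)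

theorem cj_eq_self {x : G} {H : Subgroup G} (hx : x ∈ normalizer (H : Set G)) : cj x H = H := by
  ext y
  rw [mem_cj]
  exact (mem_normalizer_iff''.1 hx y).symm

theorem mem_normalizer_iff_cj {x : G} {H : Subgroup G} : x ∈ normalizer (H : Set G) ↔ cj x H = H :=
  ⟨cj_eq_self, fun h => Invol.JComp.mem_normalizer_of_map_eq h⟩

/-- A 2-group normalising a nontrivial 2-group fixes a nontrivial element of it. -/
theorem exists_fixed_mem [Finite G] {P V : Subgroup G} (hP : IsPGroup 2 P) (hV : IsPGroup 2 V)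
    (hV1 : V ≠ ⊥) (hn : P ≤ normalizer (V : Set G)) : ∃ d ∈ V, d ≠ 1 ∧ ∀ p ∈ P, p * d = d * p := by
  haveI := Fact.mk Nat.prime_two
  refine Invol.exists_conj_fixed hP (J := (V : Set G)) (one_mem V)
    (fun q hq j hj => (mem_normalizer_iff.1 (hn hq) j).1 hj) ?_
  obtain ⟨k, hk⟩ := hV.exists_card_eq
  have hk0 : k ≠ 0 := fun e => hV1 (Subgroup.eq_bot_of_card_eq V (by simpa [e] using hk))
  rw [show Nat.card (V : Set G) = Nat.card V from rfl, hk]
  exact dvd_pow_self 2 hk0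

theorem mem_of_two_pow_odd {Q : Subgroup G} {y : G} {k m : ℕ} (hy : orderOf y = 2 ^ k) (hm : Odd m)
    (h : y ^ m ∈ Q) : y ∈ Q := by
  obtain ⟨e, he⟩ := exists_pow_eq_self_of_coprime (x := y) (n := m)
    (by rw [hy]; exact (Nat.coprime_two_right.2 hm).pow_right k)
  exact he ▸ pow_mem h e

theorem two_pow_of_pow_mem {Q : Subgroup G} [Finite G] (hQ : IsPGroup 2 Q) {x : G} {k : ℕ}
    (h : x ^ 2 ^ k ∈ Q) : ∃ n, orderOf x = 2 ^ n := by
  haveI := Fact.mk Nat.prime_two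
  obtain ⟨m, hm⟩ := hQ ⟨_, h⟩
  have h1 : x ^ 2 ^ (k + m) = 1 := by
    have := congrArg Subtype.val hm
    rw [SubmonoidClass.coe_pow, OneMemClass.coe_one, ← pow_mul, ← pow_add] at this
    exact this
  obtain ⟨n, -, hn⟩ := (Nat.dvd_prime_pow Nat.prime_two).1 (orderOf_dvd_of_pow_eq_one h1)
  exact ⟨n, hn⟩

variable [Finite G]

/-- An element centralising a nontrivial 2-element is a 2-element. -/
theorem IsCIT.two_pow_of_commute (h : IsCIT G) {V : Subgroup G} (hV : IsPGroup 2 V) {d y : G}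
    (hd : d ∈ V) (hd1 : d ≠ 1) (hc : Commute y d) : ∃ k, orderOf y = 2 ^ k := by
  have hp : IsPGroup 2 (zpowers d) := hV.to_le (zpowers_le.2 hd)
  have hy : y ∈ Subgroup.centralizer ((zpowers d : Subgroup G) : Set G) := mem_centralizer_iff.2 fun z hz => by
    obtain ⟨i, rfl⟩ := mem_zpowers_iff.1 hz
    exact ((hc.zpow_right i).eq).symm
  obtain ⟨k, hk⟩ := IsPGroup.iff_orderOf.1 (h.centralizer_isPGroup hp (fun e => hd1 (zpowers_eq_bot.1 e)))
    ⟨y, hy⟩
  exact ⟨k, by rwa [orderOf_mk] at hk⟩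

/-- Odd elements act fixed-point-freely on the 2-groups they normalise. -/
theorem IsCIT.fpf (h : IsCIT G) {Q : Subgroup G} (hQ : IsPGroup 2 Q) {x q : G} (ho : Odd (orderOf x))
    (hx1 : x ≠ 1) (hq : q ∈ Q) (hc : Commute x q) : q = 1 := by
  by_contra hq1
  obtain ⟨k, hk⟩ := h.two_pow_of_commute hQ hq hq1 hc
  exact hx1 (Invol.JComp.eq_one_of_odd_of_two ho (n := k) (by rw [← hk, pow_orderOf_eq_one]))

theorem IsCIT.exists_inv_mul_conj (h : IsCIT G) {Q : Subgroup G} (hQ : IsPGroup 2 Q) {x r : G}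
    (ho : Odd (orderOf x)) (hx1 : x ≠ 1) (hx : x ∈ normalizer (Q : Set G)) (hr : r ∈ Q) :
    ∃ q ∈ Q, q⁻¹ * (x * q * x⁻¹) = r := by
  let f : Q → Q := fun q => ⟨(q : G)⁻¹ * (x * q * x⁻¹),
    mul_mem (inv_mem q.2) ((mem_normalizer_iff.1 hx _).1 q.2)⟩
  have hf : Function.Injective f := by
    intro p q e
    have e' : (p : G)⁻¹ * (x * p * x⁻¹) = (q : G)⁻¹ * (x * q * x⁻¹) := congrArg Subtype.val e
    refine Subtype.ext (mul_inv_eq_one.1 (h.fpf hQ ho hx1 (mul_mem p.2 (inv_mem q.2)) ?_))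
    show x * (p * (q : G)⁻¹) = p * (q : G)⁻¹ * x
    calc x * (p * (q : G)⁻¹) = p * ((p : G)⁻¹ * (x * p * x⁻¹)) * x * (q : G)⁻¹ := by group
      _ = p * (q : G)⁻¹ * x := by rw [e']; group
  obtain ⟨q, hq⟩ := Finite.injective_iff_surjective.1 hf ⟨r, hr⟩
  exact ⟨q, q.2, congrArg Subtype.val hq⟩

/-- The centraliser modulo `Q` of a 2-element outside `Q` consists of 2-elements. -/
theorem IsCIT.two_pow_of_comm (h : IsCIT G) {Q : Subgroup G} (hQ : IsPGroup 2 Q) {f x : G}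
    (hfN : f ∈ normalizer (Q : Set G)) (hf : f ∉ Q) {k : ℕ} (hf2 : f ^ 2 ^ k ∈ Q)
    (hxN : x ∈ normalizer (Q : Set G)) (hc : x * f * x⁻¹ * f⁻¹ ∈ Q) : ∃ n, orderOf x = 2 ^ n := by
  haveI := Fact.mk Nat.prime_two
  obtain ⟨a, m, hm, ho, ho'⟩ := Invol.JComp.exists_two_pow_mul_odd x
  set y := x ^ 2 ^ a with hy
  have hall : ∀ i : ℕ, x ^ i * f * (x ^ i)⁻¹ * f⁻¹ ∈ Q := by
    intro i
    induction i with
    | zero => simp
    | succ i ih =>
      rw [show x ^ (i + 1) * f * (x ^ (i + 1))⁻¹ * f⁻¹ =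
        x * (x ^ i * f * (x ^ i)⁻¹ * f⁻¹) * x⁻¹ * (x * f * x⁻¹ * f⁻¹) by rw [pow_succ']; group]
      exact mul_mem ((mem_normalizer_iff.1 hxN _).1 ih) hc
  suffices hy1 : y = 1 by
    obtain ⟨n, -, hn⟩ := (Nat.dvd_prime_pow Nat.prime_two).1 (orderOf_dvd_of_pow_eq_one hy1)
    exact ⟨n, hn⟩
  by_contra hy1
  have hfp : IsPGroup 2 (zpowers f) := by
    obtain ⟨n, hn⟩ := two_pow_of_pow_mem hQ hf2
    exact Invol.isPGroup_zpowers hn
  have hP : IsPGroup 2 (zpowers f ⊔ Q : Subgroup G) :=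
    hfp.to_sup_of_normal_right' hQ (zpowers_le.2 hfN)
  obtain ⟨q, hq, hqe⟩ := h.exists_inv_mul_conj hQ (r := (y * f * y⁻¹ * f⁻¹)⁻¹) ho' hy1 (pow_mem hxN _)
    (inv_mem (hall _))
  have hfix : Commute y (q * f) := by
    show y * (q * f) = q * f * y
    calc y * (q * f) = q * (q⁻¹ * (y * q * y⁻¹)) * (y * f * y⁻¹ * f⁻¹) * f * y := by group
      _ = q * f * y := by rw [hqe]; group
  have hqf : q * f ≠ 1 := fun e => hf (by rw [eq_inv_of_mul_eq_one_right e]; exact inv_mem hq)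
  exact hqf (h.fpf hP ho' hy1 (mul_mem (mem_sup_right hq) (mem_sup_left (mem_zpowers f))) hfix)

end Cfsg.Agent.Transfer.CIT
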