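import Mathlib
import Cfsg.Agent.Lib.Transfer.CIT.Elem

/-!
Thompson replacement: an offender normalised by the central involutions of the core.
-/

set_option autoImplicit false
set_option linter.style.haveILetI false

open scoped Pointwise

universe u

namespace Cfsg.Agent.Transfer.CIT

open Cfsg.Agent Subgroup

variable {G : Type u} [Group G] [Finite G]

/-- An elementary abelian subgroup of `R` of largest order. -/
def MaxEl (R A : Subgroup G) : Prop :=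
  A ≤ R ∧ El A ∧ ∀ B : Subgroup G, B ≤ R → El B → Nat.card B ≤ Nat.card A

omit [Finite G] in
theorem maxEl_of_isMaxEl {R A : Subgroup G} (h : Invol.IsMaxEl 2 R A) : MaxEl R A := by
  refine ⟨h.1, ⟨h.2.1.1, fun x hx => by rw [← pow_two]; exact h.2.1.2 x hx⟩, fun B hB hE => ?_⟩
  exact h.2.2 B hB ⟨hE.1, fun x hx => by rw [pow_two]; exact hE.2 x hx⟩

theorem MaxEl.mem_of_commute {R A : Subgroup G} (h : MaxEl R A) {x : G} (hx : x ∈ R) (hx2 : x * x = 1)
    (hc : ∀ a ∈ A, a * x = x * a) : x ∈ A := by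
  have hE : El (A ⊔ zpowers x) := h.2.1.sup (El.zpowers hx2) fun a ha z hz => by
    obtain ⟨i, rfl⟩ := mem_zpowers_iff.1 hz
    exact ((show Commute a x from hc a ha).zpow_right i).eq
  have := Subgroup.eq_of_le_of_card_ge (H := A) le_sup_left
    (h.2.2 _ (sup_le h.1 (zpowers_le.2 hx)) hE)
  exact this ▸ mem_sup_right (mem_zpowers x)

/-- Among the offenders one is normalised by `V`. -/
theorem exists_normalized {Q V R : Subgroup G} (hVQ : V ≤ Q) (hQR : Q ≤ R) (hR : IsPGroup 2 R)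
    (hV : El V) (hRV : R ≤ normalizer (V : Set G)) (hQV : ∀ q ∈ Q, ∀ v ∈ V, q * v = v * q)
    (hex : ∃ A, MaxEl R A ∧ ¬ A ≤ Q) :
    ∃ A, MaxEl R A ∧ ¬ A ≤ Q ∧ V ≤ normalizer (A : Set G) := by
  classical
  haveI := Fact.mk Nat.prime_two
  obtain ⟨A, ⟨hA, hAQ⟩, hmax⟩ := Set.exists_max_image {A : Subgroup G | MaxEl R A ∧ ¬ A ≤ Q}
    (fun A => Nat.card ↥(A ⊓ Q)) (Set.toFinite _) hex
  refine ⟨A, hA, hAQ, ?_⟩
  by_contra hn
  have hVR : V ≤ R := hVQ.trans hQR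
  have hAV : A ≤ normalizer (V : Set G) := hA.1.trans hRV
  set NV := V ⊓ normalizer (A : Set G) with hNV
  set B := A ⊔ NV with hB
  set S := A ⊔ V with hS
  have hBS : B ≤ S := sup_le_sup_left inf_le_left _
  haveI : Group.IsNilpotent S := (hR.to_le (sup_le hA.1 hVR)).isNilpotent
  have hlt : B.subgroupOf S < ⊤ := by
    refine lt_top_iff_ne_top.2 fun e => hn fun v hv => ?_
    exact sup_le le_normalizer inf_le_right (subgroupOf_eq_top.1 e (mem_sup_right hv : v ∈ S))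
  obtain ⟨y, hy, hyn⟩ := SetLike.exists_of_lt (Group.normalizerCondition_of_isNilpotent _ hlt)
  have hyB : (y : G) ∈ normalizer (B : Set G) := mem_normalizer_fintype fun b hb =>
    (mem_normalizer_iff.1 hy ⟨b, hBS hb⟩).1 hb
  obtain ⟨a, ha, v, hv, hav⟩ : ∃ a ∈ A, ∃ v ∈ V, (y : G) = a * v := by
    have h1 : (y : G) ∈ A ⊔ V := y.2
    rw [← SetLike.mem_coe, coe_mul_of_left_le_normalizer_right _ _ hAV] at h1
    obtain ⟨a, ha, b, hb, he⟩ := h1
    exact ⟨a, ha, b, hb, he.symm⟩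
  have hvB : v ∈ normalizer (B : Set G) := by
    rw [show v = a⁻¹ * (y : G) by rw [hav]; group]
    exact mul_mem (inv_mem (le_normalizer (mem_sup_left ha : a ∈ B))) hyB
  have hvn : v ∉ B := fun hm => hyn (by
    rw [mem_subgroupOf, hav]
    exact mul_mem (mem_sup_left ha) hm)
  have hvA : v ∉ normalizer (A : Set G) := fun hm => hvn (mem_sup_right ⟨hv, hm⟩)
  set A' := cj v A with hA'
  have hA'B : A' ≤ B := fun x hx => by
    obtain ⟨b, hb, rfl⟩ := hx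
    exact (mem_normalizer_iff.1 hvB b).1 (mem_sup_left hb)
  have hBA : B ≤ normalizer (A : Set G) := sup_le le_normalizer inf_le_right
  have hAA' : A ≤ normalizer (A' : Set G) := fun b hb => by
    rw [mem_normalizer_iff_cj, hA', ← cj_mul, show b * v = v * (v⁻¹ * b * v) by group, cj_mul,
      cj_eq_self (hBA ((mem_normalizer_iff''.1 hvB b).1 (mem_sup_left hb)))]
  set D := A ⊓ A' with hD
  set P := A ⊔ A' with hP
  set V₀ := P ⊓ V with hV₀
  have hA'El : El A' := hA.2.1.cj v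
  have hDP : ∀ d ∈ D, ∀ p ∈ P, d * p = p * d := by
    intro d hd p hp
    have hle : P ≤ Subgroup.centralizer ({d} : Set G) := sup_le
      (fun x hx => mem_centralizer_singleton_iff.2 (hA.2.1.1 x hx d hd.1))
      (fun x hx => mem_centralizer_singleton_iff.2 (hA'El.1 x hx d hd.2))
    exact (mem_centralizer_singleton_iff.1 (hle hp)).symm
  have hAV₀ : A ≤ normalizer (V₀ : Set G) := fun b hb => mem_normalizer_fintype fun x hx =>
    ⟨P.mul_mem (P.mul_mem (mem_sup_left hb) hx.1) (P.inv_mem (mem_sup_left hb)),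
      (mem_normalizer_iff.1 (hAV hb) x).1 hx.2⟩
  have hPeq : A ⊔ V₀ = P := by
    refine le_antisymm (sup_le le_sup_left inf_le_left) (sup_le le_sup_left fun x hx => ?_)
    have h1 : x ∈ S := hBS (hA'B hx)
    rw [← SetLike.mem_coe, coe_mul_of_left_le_normalizer_right _ _ hAV] at h1
    obtain ⟨b, hb, w, hw, rfl⟩ := h1
    refine mul_mem (mem_sup_left hb) (mem_sup_right ⟨?_, hw⟩)
    have h2 : b⁻¹ * (b * w) ∈ P := mul_mem (mem_sup_left (inv_mem hb)) (mem_sup_right hx)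
    rwa [inv_mul_cancel_left] at h2
  have hfix : ∀ q ∈ Q, q ∈ A → q ∈ A' := fun q hq hqA => by
    refine ⟨q, hqA, ?_⟩
    show v * q * v⁻¹ = q
    rw [← hQV q hq v hv, mul_inv_cancel_right]
  have hi1 : A ⊓ V₀ = A ⊓ V := le_antisymm (inf_le_inf_left _ inf_le_right)
    fun x hx => ⟨hx.1, mem_sup_left hx.1, hx.2⟩
  have hi2 : D ⊓ V₀ = A ⊓ V := le_antisymm (fun x hx => ⟨hx.1.1, hx.2.2⟩)
    fun x hx => ⟨⟨hx.1, hfix x (hVQ hx.2) hx.1⟩, mem_sup_left hx.1, hx.2⟩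
  have hi3 : (A ⊓ Q) ⊓ V₀ = A ⊓ V := le_antisymm (fun x hx => ⟨hx.1.1, hx.2.2⟩)
    fun x hx => ⟨⟨hx.1, hVQ hx.2⟩, mem_sup_left hx.1, hx.2⟩
  have hi4 : (A ⊓ Q) ⊓ V = A ⊓ V := le_antisymm (fun x hx => ⟨hx.1.1, hx.2⟩)
    fun x hx => ⟨⟨hx.1, hVQ hx.2⟩, hx.2⟩
  have hcDV : ∀ d ∈ D, ∀ w ∈ V₀, d * w = w * d := fun d hd w hw => hDP d hd w hw.1
  have hcQV : ∀ d ∈ A ⊓ Q, ∀ w ∈ V, d * w = w * d := fun d hd w hw => hQV d hd.2 w hw
  have e1 : Nat.card P * Nat.card D = Nat.card A * Nat.card A := by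
    rw [hP, hD, Grp.card_sup_mul_card_inf hAA', hA', card_cj]
  have e2 : Nat.card P * Nat.card ↥(A ⊓ V) = Nat.card A * Nat.card V₀ := by
    rw [← hi1, ← hPeq, Grp.card_sup_mul_card_inf hAV₀]
  have e3 : Nat.card ↥(D ⊔ V₀) * Nat.card ↥(A ⊓ V) = Nat.card D * Nat.card V₀ := by
    rw [← hi2, Grp.card_sup_mul_card_inf (le_normalizer_of_commute hcDV)]
  have e4 : Nat.card ↥((A ⊓ Q) ⊔ V₀) * Nat.card ↥(A ⊓ V) = Nat.card ↥(A ⊓ Q) * Nat.card V₀ := by
    rw [← hi3, Grp.card_sup_mul_card_inf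
      (le_normalizer_of_commute fun d hd w (hw : w ∈ V₀) => hcQV d hd w hw.2)]
  have e5 : Nat.card ↥((A ⊓ Q) ⊔ V) * Nat.card ↥(A ⊓ V) = Nat.card ↥(A ⊓ Q) * Nat.card V := by
    rw [← hi4, Grp.card_sup_mul_card_inf (le_normalizer_of_commute hcQV)]
  have hpos := Nat.card_pos (α := ↥(A ⊓ V))
  have hstar : Nat.card ↥(D ⊔ V₀) = Nat.card A := by
    refine Nat.eq_of_mul_eq_mul_right (Nat.mul_pos (Nat.card_pos (α := P)) hpos) ?_
    calc Nat.card ↥(D ⊔ V₀) * (Nat.card P * Nat.card ↥(A ⊓ V))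
        = Nat.card P * (Nat.card ↥(D ⊔ V₀) * Nat.card ↥(A ⊓ V)) := by ring
      _ = (Nat.card P * Nat.card D) * Nat.card V₀ := by rw [e3]; ring
      _ = Nat.card A * (Nat.card P * Nat.card ↥(A ⊓ V)) := by rw [e1, e2]; ring
  have hstarR : D ⊔ V₀ ≤ R := sup_le (inf_le_left.trans hA.1) (inf_le_right.trans hVR)
  have hstarM : MaxEl R (D ⊔ V₀) := ⟨hstarR,
    (hA.2.1.mono inf_le_left).sup (hV.mono inf_le_right) hcDV, fun X hX hXe => hstar ▸ hA.2.2 X hX hXe⟩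
  have hDA : Nat.card D ≠ Nat.card A := by
    intro e
    have h1 : D = A := Subgroup.eq_of_le_of_card_ge inf_le_left e.ge
    have h2 : A ≤ A' := h1 ▸ inf_le_right
    exact hvA (mem_normalizer_iff_cj.2 (Subgroup.eq_of_le_of_card_ge h2 (card_cj v A).le).symm)
  have hgt : Nat.card ↥(A ⊓ V) < Nat.card V₀ := by
    by_contra hle
    refine hDA (le_antisymm (Subgroup.card_le_of_le inf_le_left) ?_)
    have := hstar ▸ e3
    nlinarith [Nat.card_pos (α := D)]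
  have hin : D ⊔ V₀ ≤ Q := by
    by_contra hout
    have h1 : Nat.card ↥((D ⊔ V₀) ⊓ Q) ≤ Nat.card ↥(A ⊓ Q) := hmax _ ⟨hstarM, hout⟩
    have h2 : Nat.card ↥((A ⊓ Q) ⊔ V₀) ≤ Nat.card ↥((D ⊔ V₀) ⊓ Q) := Subgroup.card_le_of_le
      (sup_le (fun x hx => ⟨mem_sup_left ⟨hx.1, hfix x hx.2 hx.1⟩, hx.2⟩)
        (fun x hx => ⟨mem_sup_right hx, hVQ hx.2⟩))
    nlinarith [Nat.card_pos (α := ↥(A ⊓ Q))]
  have hDeq : D = A ⊓ Q := le_antisymm (le_inf inf_le_left (le_sup_left.trans hin))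
    fun x hx => ⟨hx.1, hfix x hx.2 hx.1⟩
  have hVV : V₀ = V := by
    refine Subgroup.eq_of_le_of_card_ge inf_le_right ?_
    have h1 := hA.2.2 ((A ⊓ Q) ⊔ V) (sup_le (inf_le_left.trans hA.1) hVR)
      ((hA.2.1.mono inf_le_left).sup hV hcQV)
    rw [hstar, hDeq] at e3
    have h3 := Nat.mul_le_mul_right (Nat.card ↥(A ⊓ V)) h1
    rw [e5, e3] at h3
    exact Nat.le_of_mul_le_mul_left h3 Nat.card_pos
  exact hvn ((sup_le le_sup_left hA'B : P ≤ B) ((hVV.symm ▸ hv : v ∈ V₀).1))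

end Cfsg.Agent.Transfer.CIT
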