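import Mathlib
import Cfsg.Agent.Lib.Transfer.CIT.Replace
import Cfsg.Agent.S0200

/-!
An offender of a 2-local parabolic in a CIT group: commutators with the central involutions of the core,
and the centraliser of its fixed subgroup.
-/

set_option autoImplicit false
set_option linter.style.haveILetI false
set_option linter.unusedSectionVars false

open scoped Pointwise

universe u

namespace Cfsg.Agent.Transfer.CIT

open Cfsg.Agent Subgroup

variable {G : Type u} [Group G] [Finite G]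

/-- A parabolic `L` with core `Q`, central involutions `V` of the core and an offender `A` normalised by `V`. -/
structure Off (L Q V R A : Subgroup G) : Prop where
  hQ : IsPGroup 2 Q
  hR : IsPGroup 2 R
  QR : Q ≤ R
  RL : R ≤ L
  LQ : L ≤ normalizer (Q : Set G)
  LV : L ≤ normalizer (V : Set G)
  core : ∀ N : Subgroup G, N ≤ L → L ≤ normalizer (N : Set G) → IsPGroup 2 N → N ≤ Q
  VQ : V ≤ Q
  hV : El V
  V1 : V ≠ ⊥
  cenV : ∀ q ∈ Q, ∀ v ∈ V, q * v = v * q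
  max : MaxEl R A
  notle : ¬ A ≤ Q
  VA : V ≤ normalizer (A : Set G)

/-- The commutator map of `a` on the elementary abelian group `V`. -/
noncomputable def comHom {V : Subgroup G} (hV : El V) (a : G) (ha : a ∈ normalizer (V : Set G)) : V →* V :=
  MonoidHom.mk' (fun v => ⟨a * v * a⁻¹ * (v : G)⁻¹,
      mul_mem ((mem_normalizer_iff.1 ha _).1 v.2) (inv_mem v.2)⟩) fun v w => Subtype.ext (by
    show a * ((v : G) * w) * a⁻¹ * ((v : G) * w)⁻¹ = a * v * a⁻¹ * (v : G)⁻¹ * (a * w * a⁻¹ * (w : G)⁻¹)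
    have h1 : (v : G)⁻¹ * (a * w * a⁻¹) = a * w * a⁻¹ * (v : G)⁻¹ :=
      hV.1 _ (inv_mem v.2) _ ((mem_normalizer_iff.1 ha _).1 w.2)
    have h2 : ((v : G) * w)⁻¹ = (v : G)⁻¹ * (w : G)⁻¹ := by
      rw [mul_inv_rev, hV.1 _ (inv_mem w.2) _ (inv_mem v.2)]
    calc a * ((v : G) * w) * a⁻¹ * ((v : G) * w)⁻¹
        = a * v * a⁻¹ * (a * w * a⁻¹ * (v : G)⁻¹) * (w : G)⁻¹ := by rw [h2]; group
      _ = a * v * a⁻¹ * (v : G)⁻¹ * (a * w * a⁻¹ * (w : G)⁻¹) := by rw [← h1]; group)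

theorem comHom_apply {V : Subgroup G} (hV : El V) (a : G) (ha : a ∈ normalizer (V : Set G)) (v : V) :
    ((comHom hV a ha v : V) : G) = a * v * a⁻¹ * (v : G)⁻¹ := rfl

theorem card_ker_mul_card_range {M N : Type*} [Group M] [Group N] (f : M →* N) :
    Nat.card f.ker * Nat.card f.range = Nat.card M := by
  rw [← Subgroup.index_ker, card_mul_index]

theorem mem_comHom_ker {V : Subgroup G} (hV : El V) (a : G) (ha : a ∈ normalizer (V : Set G)) (v : V) :
    v ∈ (comHom hV a ha).ker ↔ a * (v : G) = v * a := by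
  rw [MonoidHom.mem_ker, Subtype.ext_iff, comHom_apply, OneMemClass.coe_one, mul_inv_eq_one,
    mul_inv_eq_iff_eq_mul]

theorem card_comHom_ker {V : Subgroup G} (hV : El V) (a : G) (ha : a ∈ normalizer (V : Set G)) :
    Nat.card (comHom hV a ha).ker = Nat.card ↥(V ⊓ Subgroup.centralizer ({a} : Set G)) := by
  have e : (comHom hV a ha).ker = (V ⊓ Subgroup.centralizer ({a} : Set G)).subgroupOf V := by
    ext v
    rw [mem_comHom_ker, mem_subgroupOf, mem_inf, mem_centralizer_singleton_iff]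
    exact ⟨fun h => ⟨v.2, h.symm⟩, fun h => h.2.symm⟩
  rw [e, Nat.card_congr (subgroupOfEquivOfLe inf_le_left).toEquiv]

/-- An element with square acting trivially has its commutators among its fixed points. -/
theorem comHom_fixed {V : Subgroup G} (hV : El V) {a : G} (ha : a ∈ normalizer (V : Set G)) {v : G}
    (hv : v ∈ V) (h2 : a * a * v = v * (a * a)) :
    a * (a * v * a⁻¹ * v⁻¹) = a * v * a⁻¹ * v⁻¹ * a := by
  rw [hV.inv_eq hv]
  calc a * (a * v * a⁻¹ * v) = a * a * v * (a * a)⁻¹ * (a * v * a⁻¹) * a := by group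
    _ = v * (a * v * a⁻¹) * a := by rw [h2, mul_inv_cancel_right]
    _ = a * v * a⁻¹ * v * a := by rw [hV.1 v hv _ ((mem_normalizer_iff.1 ha _).1 hv)]

namespace Off

variable {L Q V R A : Subgroup G}

/-- The action of the parabolic on `V`. -/
noncomputable def act (o : Off L Q V R A) : L →* MulAut V :=
  (V.normalizerMonoidHom).comp (Subgroup.inclusion o.LV)

theorem act_apply (o : Off L Q V R A) (x : L) (v : V) : ((o.act x v : V) : G) = x * v * (x : G)⁻¹ := rfl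

theorem act_eq_iff (o : Off L Q V R A) {x y : L} :
    o.act x = o.act y ↔ ∀ v ∈ V, (x : G) * v * (x : G)⁻¹ = y * v * (y : G)⁻¹ := by
  constructor
  · intro e v hv
    rw [← o.act_apply x ⟨v, hv⟩, e, o.act_apply]
  · intro e
    ext v
    exact e v v.2

theorem AL (o : Off L Q V R A) : A ≤ L := o.max.1.trans o.RL

theorem QL (o : Off L Q V R A) : Q ≤ L := o.QR.trans o.RL

theorem AQL (o : Off L Q V R A) : A ⊔ Q ≤ L := sup_le o.AL o.QL

theorem AQR (o : Off L Q V R A) : A ⊔ Q ≤ R := sup_le o.max.1 o.QR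

variable (h : IsCIT G) (o : Off L Q V R A)

include h o

theorem mem_core {x : G} (hx : x ∈ L) (hc : ∀ v ∈ V, x * v = v * x) : x ∈ Q := by
  refine o.core (L ⊓ Subgroup.centralizer (V : Set G)) inf_le_left (fun g hg => ?_)
    ((h.centralizer_isPGroup o.hV.isPGroup o.V1).to_le inf_le_right)
    ⟨hx, mem_centralizer_iff.2 fun v hv => (hc v hv).symm⟩
  refine mem_normalizer_fintype fun y hy => ⟨L.mul_mem (L.mul_mem hg hy.1) (L.inv_mem hg), ?_⟩
  refine mem_centralizer_iff.2 fun v hv => ?_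
  have h1 := mem_centralizer_iff.1 hy.2 _ ((mem_normalizer_iff''.1 (o.LV hg) v).1 hv)
  calc v * (g * y * g⁻¹) = g * (g⁻¹ * v * g * y) * g⁻¹ := by group
    _ = g * (y * (g⁻¹ * v * g)) * g⁻¹ := by rw [h1]
    _ = g * y * g⁻¹ * v := by group

theorem act_eq_one {x : L} : o.act x = 1 ↔ (x : G) ∈ Q := by
  rw [← map_one o.act, act_eq_iff]
  refine ⟨fun e => o.mem_core h x.2 fun v hv => ?_, fun hx v hv => ?_⟩
  · have := e v hv
    rw [OneMemClass.coe_one, one_mul, inv_one, mul_one] at this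
    exact mul_inv_eq_iff_eq_mul.1 this
  · rw [OneMemClass.coe_one, one_mul, inv_one, mul_one, o.cenV _ hx v hv, mul_inv_cancel_right]

theorem act_eq_act {x y : L} : o.act x = o.act y ↔ (y : G)⁻¹ * x ∈ Q := by
  have := o.act_eq_one h (x := y⁻¹ * x)
  rw [map_mul, map_inv, inv_mul_eq_one, eq_comm] at this
  simpa using this

theorem act_sq {a : G} (ha : a ∈ L) (ha2 : a * a ∈ Q) : o.act ⟨a, ha⟩ * o.act ⟨a, ha⟩ = 1 := by
  rw [← map_mul, o.act_eq_one h]; exact ha2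

/-- An involution of the quotient by the core moves to one with odd product. -/
theorem exists_odd_product {a : G} (ha : a ∈ L) (hna : a ∉ Q) (ha2 : a * a ∈ Q) :
    ∃ x ∈ L, ∀ k : ℕ, orderOf (a * (x * a * x⁻¹)) ≠ 2 ^ k := by
  haveI : (Q.subgroupOf L).Normal := normal_subgroupOf_of_le_normalizer o.LQ
  set p := QuotientGroup.mk' (Q.subgroupOf L)
  have hp1 : ∀ y : L, p y = 1 ↔ (y : G) ∈ Q := fun y =>
    (QuotientGroup.eq_one_iff y).trans mem_subgroupOf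
  have ht : orderOf (p ⟨a, ha⟩) = 2 :=
    Invol.orderOf_two_iff.2 ⟨by rw [← map_mul, hp1]; exact ha2, fun e => hna ((hp1 _).1 e)⟩
  obtain ⟨y, hy1, hyo, hinv⟩ := S0200.result _ ht fun N hN hNp hm => hna (by
    have hc : IsPGroup 2 (N.comap p) := hNp.comap_of_ker_isPGroup _ (by
      rw [QuotientGroup.ker_mk']; exact o.hQ.comap_subtype)
    refine o.core ((N.comap p).map L.subtype) (map_subtype_le _) (fun g hg => ?_) (hc.map _)
      ⟨⟨a, ha⟩, hm, rfl⟩
    refine mem_normalizer_fintype ?_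
    rintro _ ⟨z, hz, rfl⟩
    exact ⟨⟨g, hg⟩ * z * ⟨g, hg⟩⁻¹, (hN.comap p).conj_mem z hz _, rfl⟩)
  obtain ⟨x, rfl⟩ := QuotientGroup.mk'_surjective (Q.subgroupOf L) y
  refine ⟨x, x.2, fun k hk => hy1 ?_⟩
  set t := p ⟨a, ha⟩
  change p x ≠ 1 at hy1
  change Odd (orderOf (p x)) at hyo
  change t * p x * t⁻¹ = (p x)⁻¹ at hinv
  have himg : p (⟨a, ha⟩ * (x * ⟨a, ha⟩ * x⁻¹)) = (p x ^ 2)⁻¹ := by
    have htt : t⁻¹ = t := Invol.inv_of_orderOf_two ht
    rw [map_mul, map_mul, map_mul, map_inv]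
    calc t * (p x * t * (p x)⁻¹) = t * p x * t⁻¹ * (p x)⁻¹ := by rw [htt]; group
      _ = (p x ^ 2)⁻¹ := by rw [hinv]; group
  have h2 : (p x ^ 2) ^ 2 ^ k = 1 := by
    rw [← inv_eq_one, ← inv_pow, ← himg, ← map_pow]
    refine (hp1 _).2 ?_
    show (a * ((x : G) * a * (x : G)⁻¹)) ^ 2 ^ k ∈ Q
    rw [← hk, pow_orderOf_eq_one]
    exact one_mem Q
  rw [← pow_mul, ← pow_succ'] at h2
  exact Invol.JComp.eq_one_of_odd_of_two hyo h2

theorem centralizer_sq_le {X : Subgroup G} (hX : IsPGroup 2 X) (hLX : L ≤ normalizer (X : Set G))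
    {a : G} (ha : a ∈ L) (hna : a ∉ Q) (ha2 : a * a ∈ Q) :
    Nat.card ↥(X ⊓ Subgroup.centralizer ({a} : Set G)) * Nat.card ↥(X ⊓ Subgroup.centralizer ({a} : Set G))
      ≤ Nat.card X := by
  obtain ⟨x, hx, hxo⟩ := o.exists_odd_product h ha hna ha2
  set C := X ⊓ Subgroup.centralizer ({a} : Set G)
  rw [← Nat.card_prod]
  refine Nat.card_le_card_of_injective
    (fun p : C × C => (⟨(p.1 : G) * (x * p.2 * x⁻¹),
      mul_mem p.1.2.1 ((mem_normalizer_iff.1 (hLX hx) _).1 p.2.2.1)⟩ : X)) fun p q e => ?_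
  have e' : (p.1 : G) * (x * p.2 * x⁻¹) = q.1 * (x * q.2 * x⁻¹) := congrArg Subtype.val e
  set z := (q.1 : G)⁻¹ * p.1 with hz
  have hz' : z = x * ((q.2 : G) * (p.2 : G)⁻¹) * x⁻¹ := by
    calc z = (q.1 : G)⁻¹ * ((p.1 : G) * (x * p.2 * x⁻¹)) * (x * (p.2 : G)⁻¹ * x⁻¹) := by rw [hz]; group
      _ = x * ((q.2 : G) * (p.2 : G)⁻¹) * x⁻¹ := by rw [e']; group
  have hzC : z ∈ C := mul_mem (inv_mem q.1.2) p.1.2
  have h1 : Commute a z := (mem_centralizer_singleton_iff.1 hzC.2).symm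
  have h2 : Commute (x * a * x⁻¹) z := by
    rw [hz']
    have h3 : Commute a ((q.2 : G) * (p.2 : G)⁻¹) :=
      (mem_centralizer_singleton_iff.1 (mul_mem q.2.2 (inv_mem p.2.2) : _ ∈ C).2).symm
    exact (Commute.conj_iff x).2 h3
  have hz1 : z = 1 := by
    by_contra hz1
    obtain ⟨k, hk⟩ := h.two_pow_of_commute hX hzC.1 hz1 (h1.mul_left h2)
    exact hxo k hk
  have e1 : (p.1 : G) = q.1 := (inv_mul_eq_one.1 (hz ▸ hz1)).symm
  refine Prod.ext (Subtype.ext e1) (Subtype.ext ?_)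
  rw [e1] at e'
  exact mul_left_cancel (mul_right_cancel (mul_left_cancel e'))

theorem W_ne_bot : A ⊓ V ≠ ⊥ := by
  obtain ⟨d, hd, hd1, hc⟩ := exists_fixed_mem o.max.2.1.isPGroup o.hV.isPGroup o.V1 (o.AL.trans o.LV)
  have hdA := o.max.mem_of_commute (o.QR (o.VQ hd)) (o.hV.2 d hd) hc
  exact fun e => hd1 (mem_bot.1 (e ▸ (⟨hdA, hd⟩ : d ∈ A ⊓ V)))

theorem comm_W {a w : G} (ha : a ∈ A ⊔ Q) (hw : w ∈ A ⊓ V) : a * w = w * a :=
  mem_centralizer_singleton_iff.1 ((sup_le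
    (fun x hx => mem_centralizer_singleton_iff.2 (o.max.2.1.1 x hx w hw.1))
    (fun x hx => mem_centralizer_singleton_iff.2 (o.cenV x hx w hw.2)) :
      A ⊔ Q ≤ Subgroup.centralizer ({w} : Set G)) ha)

theorem com_mem {a v : G} (ha : a ∈ A) (hv : v ∈ V) : a * v * a⁻¹ * v⁻¹ ∈ A ⊓ V :=
  ⟨by rw [show a * v * a⁻¹ * v⁻¹ = a * (v * a⁻¹ * v⁻¹) by group]
      exact A.mul_mem ha ((mem_normalizer_iff.1 (o.VA hv) _).1 (inv_mem ha)),
    V.mul_mem ((mem_normalizer_iff.1 (o.LV (o.AL ha)) _).1 hv) (inv_mem hv)⟩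

theorem basic {a : G} (ha : a ∈ A) (hna : a ∉ Q) :
    Nat.card V = Nat.card ↥(A ⊓ V) * Nat.card ↥(A ⊓ V) ∧
      V ⊓ Subgroup.centralizer ({a} : Set G) = A ⊓ V ∧
      ∀ w ∈ A ⊓ V, ∃ v ∈ V, a * v * a⁻¹ * v⁻¹ = w := by
  set W := A ⊓ V
  set C := V ⊓ Subgroup.centralizer ({a} : Set G)
  set f := comHom o.hV a (o.LV (o.AL ha)) with hf
  have hWC : W ≤ C := fun w hw => ⟨hw.2, mem_centralizer_singleton_iff.2 (o.max.2.1.1 w hw.1 a ha)⟩
  have hrange : f.range.map V.subtype ≤ W := by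
    rintro _ ⟨_, ⟨v, rfl⟩, rfl⟩
    exact o.com_mem h ha v.2
  have h1 : Nat.card f.range ≤ Nat.card W := by
    rw [← card_map_of_injective V.subtype_injective]
    exact Subgroup.card_le_of_le hrange
  have h2 : Nat.card C * Nat.card f.range = Nat.card V := by
    rw [← card_comHom_ker o.hV a (o.LV (o.AL ha)), ← hf, card_ker_mul_card_range]
  have h3 : Nat.card W ≤ Nat.card C := Subgroup.card_le_of_le hWC
  have h4 := o.centralizer_sq_le h o.hV.isPGroup o.LV (o.AL ha) hna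
    (by rw [o.max.2.1.2 a ha]; exact one_mem Q)
  have hposC := Nat.card_pos (α := C)
  have h5 : Nat.card C ≤ Nat.card f.range := Nat.le_of_mul_le_mul_left (h4.trans_eq h2.symm) hposC
  have hCW : Nat.card C = Nat.card W := le_antisymm (h5.trans h1) h3
  have hfW : Nat.card f.range = Nat.card W := le_antisymm h1 (hCW ▸ h5)
  refine ⟨by rw [← h2, hCW, hfW], (Subgroup.eq_of_le_of_card_ge hWC hCW.le).symm, fun w hw => ?_⟩
  have : f.range.map V.subtype = W :=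
    Subgroup.eq_of_le_of_card_ge hrange (by rw [card_map_of_injective V.subtype_injective, hfW])
  obtain ⟨_, ⟨v, rfl⟩, e⟩ := this.symm ▸ hw
  exact ⟨v, v.2, e⟩

theorem card_V : Nat.card V = Nat.card ↥(A ⊓ V) * Nat.card ↥(A ⊓ V) := by
  obtain ⟨a, ha, hna⟩ := SetLike.not_le_iff_exists.1 o.notle
  exact (o.basic h ha hna).1

theorem fixed_mem {a v : G} (ha : a ∈ A) (hna : a ∉ Q) (hv : v ∈ V) (hc : a * v = v * a) : v ∈ A ⊓ V :=
  (o.basic h ha hna).2.1 ▸ ⟨hv, mem_centralizer_singleton_iff.2 hc.symm⟩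

theorem exists_notMem : ∃ v ∈ V, v ∉ A ⊓ V := by
  by_contra hc
  push Not at hc
  have h1 := o.card_V h
  have h2 : Nat.card V ≤ Nat.card ↥(A ⊓ V) := Subgroup.card_le_of_le hc
  have h3 := (one_lt_card_iff_ne_bot _).2 (o.W_ne_bot h)
  nlinarith

/-- The offender maps onto the fixed subgroup by commutation with any other element of `V`. -/
theorem offender_data {v₀ : G} (hv₀ : v₀ ∈ V) (hn : v₀ ∉ A ⊓ V) :
    Nat.card A = Nat.card ↥(A ⊓ V) * Nat.card ↥(A ⊓ Q) ∧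
      ∀ w ∈ A ⊓ V, ∃ a ∈ A, a * v₀ * a⁻¹ * v₀⁻¹ = w := by
  set W := A ⊓ V
  let g : A →* W := MonoidHom.mk' (fun a => ⟨(a : G) * v₀ * (a : G)⁻¹ * v₀⁻¹, o.com_mem h a.2 hv₀⟩)
    fun a b => Subtype.ext (by
      show (a : G) * b * v₀ * ((a : G) * b)⁻¹ * v₀⁻¹ =
        (a : G) * v₀ * (a : G)⁻¹ * v₀⁻¹ * ((b : G) * v₀ * (b : G)⁻¹ * v₀⁻¹)
      have hm := o.com_mem h b.2 hv₀
      have h1 := o.max.2.1.1 a a.2 _ hm.1
      have h2 := o.hV.1 _ hm.2 _ (o.com_mem h a.2 hv₀).2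
      calc (a : G) * b * v₀ * ((a : G) * b)⁻¹ * v₀⁻¹
          = (a : G) * ((b : G) * v₀ * (b : G)⁻¹ * v₀⁻¹) * v₀ * (a : G)⁻¹ * v₀⁻¹ := by group
        _ = ((b : G) * v₀ * (b : G)⁻¹ * v₀⁻¹) * ((a : G) * v₀ * (a : G)⁻¹ * v₀⁻¹) := by rw [h1]; group
        _ = _ := h2)
  have hker : g.ker = (A ⊓ Q).subgroupOf A := by
    ext a
    rw [MonoidHom.mem_ker, Subtype.ext_iff, mem_subgroupOf, OneMemClass.coe_one]
    show (a : G) * v₀ * (a : G)⁻¹ * v₀⁻¹ = 1 ↔ _
    rw [mul_inv_eq_one, mul_inv_eq_iff_eq_mul]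
    refine ⟨fun e => ⟨a.2, ?_⟩, fun e => o.cenV _ e.2 v₀ hv₀⟩
    by_contra hna
    exact hn (o.fixed_mem h a.2 hna hv₀ e)
  have h1 : Nat.card ↥(A ⊓ Q) * Nat.card g.range = Nat.card A := by
    rw [← card_ker_mul_card_range g, hker, Nat.card_congr (subgroupOfEquivOfLe inf_le_left).toEquiv]
  have hc : ∀ d ∈ A ⊓ Q, ∀ v ∈ V, d * v = v * d := fun d hd v hv => o.cenV d hd.2 v hv
  have h2 := o.max.2.2 ((A ⊓ Q) ⊔ V) (sup_le (inf_le_left.trans o.max.1) (o.VQ.trans o.QR))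
    ((o.max.2.1.mono inf_le_left).sup o.hV hc)
  have hi : (A ⊓ Q) ⊓ V = W :=
    le_antisymm (fun x hx => ⟨hx.1.1, hx.2⟩) fun x hx => ⟨⟨hx.1, o.VQ hx.2⟩, hx.2⟩
  have h3 : Nat.card ↥((A ⊓ Q) ⊔ V) * Nat.card W = Nat.card ↥(A ⊓ Q) * Nat.card V := by
    rw [← hi, Grp.card_sup_mul_card_inf (le_normalizer_of_commute hc)]
  have hposW := Nat.card_pos (α := W)
  have hposQ := Nat.card_pos (α := ↥(A ⊓ Q))
  have hle : Nat.card W ≤ Nat.card g.range := by
    refine Nat.le_of_mul_le_mul_left (Nat.le_of_mul_le_mul_right ?_ hposW) hposQ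
    calc Nat.card ↥(A ⊓ Q) * Nat.card W * Nat.card W = Nat.card ↥((A ⊓ Q) ⊔ V) * Nat.card W := by
          rw [h3, o.card_V h, mul_assoc]
      _ ≤ Nat.card ↥(A ⊓ Q) * Nat.card g.range * Nat.card W := by
          rw [h1]; exact Nat.mul_le_mul_right _ h2
  have htop : g.range = ⊤ := eq_top_of_le_card _ hle
  refine ⟨?_, fun w hw => ?_⟩
  · rw [← h1, htop, card_top, mul_comm]
  · obtain ⟨a, ha⟩ := MonoidHom.range_eq_top.1 htop ⟨w, hw⟩
    exact ⟨a, a.2, congrArg Subtype.val ha⟩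

/-- An element of `AQ` acts on `V` as an element of `A`. -/
theorem exists_rep {u : G} (hu : u ∈ A ⊔ Q) :
    ∃ a ∈ A, a⁻¹ * u ∈ Q ∧ ∀ v ∈ V, u * v * u⁻¹ = a * v * a⁻¹ := by
  rw [← SetLike.mem_coe, coe_mul_of_left_le_normalizer_right _ _ (o.AL.trans o.LQ)] at hu
  obtain ⟨a, ha, q, hq, rfl⟩ := hu
  refine ⟨a, ha, by rw [inv_mul_cancel_left]; exact hq, fun v hv => ?_⟩
  calc a * q * v * (a * q)⁻¹ = a * (q * v * q⁻¹) * a⁻¹ := by group
    _ = a * v * a⁻¹ := by rw [o.cenV q hq v hv, mul_inv_cancel_right]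

theorem fixed_mem' {u v : G} (hu : u ∈ A ⊔ Q) (hnu : u ∉ Q) (hv : v ∈ V) (hc : u * v = v * u) :
    v ∈ A ⊓ V := by
  obtain ⟨a, ha, haq, hact⟩ := o.exists_rep h hu
  refine o.fixed_mem h ha (fun hm => hnu ?_) hv ?_
  · rw [show u = a * (a⁻¹ * u) by group]; exact mul_mem hm haq
  · have := hact v hv
    rw [hc, mul_inv_cancel_right] at this
    exact mul_inv_eq_iff_eq_mul.1 this.symm

/-- An involution modulo the core centralising the fixed subgroup lies in `AQ`. -/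
theorem mem_of_sq {u : G} (hu : u ∈ L) (hu2 : u * u ∈ Q) (hW : ∀ w ∈ A ⊓ V, u * w = w * u) :
    u ∈ A ⊔ Q := by
  set W := A ⊓ V
  -- such an element moves `V` into `W`
  have key : ∀ y ∈ L, y * y ∈ Q → y ∉ Q → (∀ w ∈ W, y * w = w * y) →
      V ⊓ Subgroup.centralizer ({y} : Set G) = W := by
    intro y hy hy2 hyn hyW
    have h1 := o.centralizer_sq_le h o.hV.isPGroup o.LV hy hyn hy2
    refine (Subgroup.eq_of_le_of_card_ge (H := W) (K := V ⊓ Subgroup.centralizer ({y} : Set G))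
      (fun w hw => ⟨hw.2, mem_centralizer_singleton_iff.2 (hyW w hw).symm⟩) ?_).symm
    rw [o.card_V h] at h1
    exact Nat.mul_self_le_mul_self_iff.1 h1
  by_cases hun : u ∈ Q
  · exact mem_sup_right hun
  have hC := key u hu hu2 hun hW
  obtain ⟨v₀, hv₀, hv₀W⟩ := o.exists_notMem h
  have hcom : ∀ v ∈ V, u * v * u⁻¹ * v⁻¹ ∈ W := fun v hv => hC ▸
    ⟨V.mul_mem ((mem_normalizer_iff.1 (o.LV hu) _).1 hv) (inv_mem hv),
      mem_centralizer_singleton_iff.2 (comHom_fixed o.hV (o.LV hu) hv (o.cenV _ hu2 v hv)).symm⟩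
  obtain ⟨a, ha, hae⟩ := (o.offender_data h hv₀ hv₀W).2 _ (hcom v₀ hv₀)
  set z := a⁻¹ * u with hz
  have hzL : z ∈ L := mul_mem (inv_mem (o.AL ha)) hu
  have hzW : ∀ w ∈ W, z * w = w * z := fun w hw =>
    (((show Commute a w from o.max.2.1.1 a ha w hw.1).inv_left).mul_left (hW w hw)).eq
  have hz0 : z * v₀ = v₀ * z := by
    have e : u * v₀ * u⁻¹ = a * v₀ * a⁻¹ := mul_right_cancel hae.symm
    calc z * v₀ = a⁻¹ * (u * v₀ * u⁻¹) * u := by rw [hz]; group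
      _ = v₀ * z := by rw [e, hz]; group
  have hz2 : z * z ∈ Q := o.mem_core h (mul_mem hzL hzL) fun v hv => by
    set c₁ := u * v * u⁻¹ * v⁻¹ with hc₁
    set c₂ := a⁻¹ * v * a * v⁻¹ with hc₂
    have hc2W : c₂ ∈ W := by
      have := o.com_mem h (inv_mem ha) hv
      rwa [inv_inv] at this
    have hd : z * v * z⁻¹ = c₁ * c₂ * v := by
      have h1 : a⁻¹ * c₁ = c₁ * a⁻¹ :=
        ((show Commute a c₁ from o.max.2.1.1 a ha _ (hcom v hv).1).inv_left).eq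
      calc z * v * z⁻¹ = a⁻¹ * c₁ * (v * a) := by rw [hz, hc₁]; group
        _ = c₁ * c₂ * v := by rw [h1, hc₂]; group
    have hd' : c₁ * c₂ ∈ W := mul_mem (hcom v hv) hc2W
    have hd'' : z * (c₁ * c₂) * z⁻¹ = c₁ * c₂ := by rw [hzW _ hd', mul_inv_cancel_right]
    refine mul_inv_eq_iff_eq_mul.1 ?_
    calc z * z * v * (z * z)⁻¹ = z * (z * v * z⁻¹) * z⁻¹ := by group
      _ = z * (c₁ * c₂ * v) * z⁻¹ := by rw [hd]
      _ = (z * (c₁ * c₂) * z⁻¹) * (z * v * z⁻¹) := by group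
      _ = c₁ * c₂ * (c₁ * c₂) * v := by rw [hd'', hd]; group
      _ = v := by rw [o.hV.2 _ hd'.2, one_mul]
  have hzQ : z ∈ Q := by
    by_contra hzn
    apply hv₀W
    show v₀ ∈ W
    rw [← key z hzL hz2 hzn hzW]
    exact ⟨hv₀, mem_centralizer_singleton_iff.2 hz0.symm⟩
  rw [show u = a * z by rw [hz, mul_inv_cancel_left]]
  exact mul_mem (mem_sup_left ha) (mem_sup_right hzQ)

/-- The centraliser in the parabolic of the fixed subgroup is `AQ`. -/
theorem mem_of_commute_W {x : G} (hx : x ∈ L) (hW : ∀ w ∈ A ⊓ V, x * w = w * x) : x ∈ A ⊔ Q := by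
  obtain ⟨⟨d, hd⟩, hd1'⟩ := Subgroup.ne_bot_iff_exists_ne_one.1 (o.W_ne_bot h)
  have hd1 : d ≠ 1 := fun e => hd1' (Subtype.ext e)
  obtain ⟨k, hk⟩ := h.two_pow_of_commute o.hV.isPGroup hd.2 hd1 (hW d hd)
  -- descend along the powers of two
  suffices key : ∀ u ∈ L, (∀ w ∈ A ⊓ V, u * w = w * u) → u * u ∈ A ⊔ Q → u ∈ A ⊔ Q by
    have hall : ∀ i ≤ k, x ^ 2 ^ (k - i) ∈ A ⊔ Q := by
      intro i
      induction i with
      | zero => intro _; rw [Nat.sub_zero, ← hk, pow_orderOf_eq_one]; exact one_mem _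
      | succ i ih =>
        intro hi
        refine key _ (pow_mem hx _) (fun w hw => ((show Commute x w from hW w hw).pow_left _).eq) ?_
        rw [← pow_add, ← two_mul, ← pow_succ', show k - (i + 1) + 1 = k - i by omega]
        exact ih (by omega)
    simpa using hall k le_rfl
  intro u hu huW hu2
  by_cases hu2Q : u * u ∈ Q
  · exact o.mem_of_sq h hu hu2Q huW
  exfalso
  obtain ⟨a, ha, haq, hact⟩ := o.exists_rep h hu2
  have hna : a ∉ Q := fun hm => hu2Q (by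
    rw [show u * u = a * (a⁻¹ * (u * u)) by group]; exact mul_mem hm haq)
  set δ := comHom o.hV u (o.LV hu) with hδ
  set Wt := (A ⊓ V).subgroupOf V
  have hWker : Wt ≤ δ.ker := fun v hv => (mem_comHom_ker o.hV u (o.LV hu) v).2 (huW _ hv)
  have hδδ : ∀ v : V, ((δ (δ v) : V) : G) = a * v * a⁻¹ * (v : G)⁻¹ := by
    intro v
    rw [hδ, comHom_apply, comHom_apply, ← hact v v.2]
    have hvi : (v : G)⁻¹ = v := o.hV.inv_eq v.2
    set p := u * (v : G) * u⁻¹ with hp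
    have hpV : p ∈ V := (mem_normalizer_iff.1 (o.LV hu) _).1 v.2
    have hq : p⁻¹ = p := o.hV.inv_eq hpV
    calc u * (p * (v : G)⁻¹) * u⁻¹ * (p * (v : G)⁻¹)⁻¹
        = u * p * u⁻¹ * (u * (v : G)⁻¹ * u⁻¹ * (v : G)) * p⁻¹ := by group
      _ = u * p * u⁻¹ * (p * v) * p := by rw [hvi, hq]
      _ = u * p * u⁻¹ * (v * (p * p)) := by rw [o.hV.1 p hpV v v.2]; group
      _ = u * p * u⁻¹ * v := by rw [o.hV.2 p hpV, mul_one]
      _ = u * u * v * (u * u)⁻¹ * (v : G)⁻¹ := by rw [hp, hvi]; group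
  have himage : δ.range.map δ = Wt := by
    refine le_antisymm ?_ ?_
    · rintro _ ⟨_, ⟨v, rfl⟩, rfl⟩
      rw [mem_subgroupOf, hδδ]
      exact o.com_mem h ha v.2
    · intro w hw
      obtain ⟨v, hv, e⟩ := (o.basic h ha hna).2.2 _ hw
      exact ⟨_, ⟨⟨v, hv⟩, rfl⟩, Subtype.ext ((hδδ _).trans e)⟩
  set E := δ.range ⊔ Wt
  have hEimage : E.map δ = Wt := by
    rw [Subgroup.map_sup, himage, (map_eq_bot_iff Wt).2 hWker, sup_bot_eq]
  have hWcard : Nat.card Wt = Nat.card ↥(A ⊓ V) :=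
    Nat.card_congr (subgroupOfEquivOfLe inf_le_right).toEquiv
  obtain ⟨v₀, hv₀, hv₀W⟩ := o.exists_notMem h
  have hEtop : E ≠ ⊤ := by
    intro e
    have hr : δ.range = Wt := by rw [← hEimage, e, MonoidHom.range_eq_map]
    have h1 : E = Wt := by simp [E, hr]
    exact hv₀W (show (⟨v₀, hv₀⟩ : V) ∈ Wt by rw [← h1, e]; exact mem_top _)
  have hlt : Nat.card E < Nat.card V := by
    refine lt_of_le_of_ne (Nat.card_le_card_of_injective _ E.subtype_injective) fun e => hEtop ?_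
    exact eq_top_of_card_eq _ e
  have hsum := card_ker_mul_card_range (δ.comp E.subtype)
  have hrg : (δ.comp E.subtype).range = Wt := by
    rw [MonoidHom.range_comp, range_subtype, hEimage]
  have hkerle : Nat.card Wt ≤ Nat.card (δ.comp E.subtype).ker := by
    rw [← Nat.card_congr (subgroupOfEquivOfLe (le_sup_right : Wt ≤ E)).toEquiv]
    exact Subgroup.card_le_of_le fun e he => by
      rw [MonoidHom.mem_ker]; exact hWker (mem_subgroupOf.1 he)
  have h9 := o.card_V h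
  rw [hrg] at hsum
  rw [hWcard] at hsum hkerle
  nlinarith [Nat.card_pos (α := ↥(A ⊓ V))]

end Off

end Cfsg.Agent.Transfer.CIT
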