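import Mathlib
import Cfsg.Agent.Lib.Transfer.CIT.Offender

/-!
The conjugates of the fixed subgroup of an offender form a spread of `V`, and the quotient of the parabolic
by its core is sharply described on it.
-/

set_option autoImplicit false
set_option linter.style.haveILetI false
set_option linter.unusedSectionVars false

open scoped Pointwise

universe u

namespace Cfsg.Agent.Transfer.CIT

open Cfsg.Agent Subgroup

variable {G : Type u} [Group G] [Finite G] {L Q V R A : Subgroup G}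

namespace Off

variable (h : IsCIT G) (o : Off L Q V R A)

include h o

theorem mem_norm_AQ_of {x : G} (hx : x ∈ L) (hW : x ∈ normalizer ((A ⊓ V : Subgroup G) : Set G)) :
    x ∈ normalizer ((A ⊔ Q : Subgroup G) : Set G) := by
  refine mem_normalizer_fintype fun u hu => o.mem_of_commute_W h
    (mul_mem (mul_mem hx (o.AQL hu)) (inv_mem hx)) fun w hw => ?_
  have h1 := o.comm_W h hu ((mem_normalizer_iff''.1 hW w).1 hw)
  calc x * u * x⁻¹ * w = x * (u * (x⁻¹ * w * x)) * x⁻¹ := by group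
    _ = x * ((x⁻¹ * w * x) * u) * x⁻¹ := by rw [h1]
    _ = w * (x * u * x⁻¹) := by group

theorem mem_norm_W_of {x : G} (hx : x ∈ L) (hN : x ∈ normalizer ((A ⊔ Q : Subgroup G) : Set G)) :
    x ∈ normalizer ((A ⊓ V : Subgroup G) : Set G) := by
  obtain ⟨a, ha, hna⟩ := SetLike.not_le_iff_exists.1 o.notle
  refine mem_normalizer_fintype fun w hw =>
    o.fixed_mem h ha hna ((mem_normalizer_iff.1 (o.LV hx) w).1 hw.2) ?_
  have h1 := o.comm_W h ((mem_normalizer_iff''.1 hN a).1 (mem_sup_left ha)) hw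
  calc a * (x * w * x⁻¹) = x * (x⁻¹ * a * x * w) * x⁻¹ := by group
    _ = x * (w * (x⁻¹ * a * x)) * x⁻¹ := by rw [h1]
    _ = x * w * x⁻¹ * a := by group

theorem AQ_le_norm_W : A ⊔ Q ≤ normalizer ((A ⊓ V : Subgroup G) : Set G) :=
  fun u hu => mem_norm_W_of h o (o.AQL hu) (le_normalizer hu)

theorem cj_W_le_V {x : G} (hx : x ∈ L) : cj x (A ⊓ V) ≤ V :=
  (cj_mono inf_le_right).trans (cj_eq_self (o.LV hx)).le

/-- The offender normalises only one conjugate of the fixed subgroup. -/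
theorem eq_of_normalizes {x : G} (hx : x ∈ L) (hn : A ≤ normalizer ((cj x (A ⊓ V) : Subgroup G) : Set G)) :
    cj x (A ⊓ V) = A ⊓ V := by
  by_cases hle : cj x (A ⊓ V) ≤ A ⊓ V
  · exact Subgroup.eq_of_le_of_card_ge hle (card_cj x _).ge
  obtain ⟨w₀, hw₀, hw₀W⟩ := SetLike.not_le_iff_exists.1 hle
  refine (Subgroup.eq_of_le_of_card_ge (fun w hw => ?_) (card_cj x _).le).symm
  obtain ⟨a, ha, rfl⟩ := (o.offender_data h (o.cj_W_le_V h hx hw₀) hw₀W).2 w hw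
  exact (cj x (A ⊓ V)).mul_mem ((mem_normalizer_iff.1 (hn ha) _).1 hw₀) (inv_mem hw₀)

theorem cj_inv_normalizes {x : G} (hle : cj x A ≤ normalizer ((A ⊓ V : Subgroup G) : Set G)) :
    A ≤ normalizer ((cj x⁻¹ (A ⊓ V) : Subgroup G) : Set G) := by
  intro a ha
  rw [mem_normalizer_iff_cj, ← cj_mul, show a * x⁻¹ = x⁻¹ * (x * a * x⁻¹) by group, cj_mul,
    cj_eq_self (hle (conj_mem_cj ha))]

/-- A 2-subgroup containing `AQ` normalises the fixed subgroup. -/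
theorem le_norm_W {P : Subgroup G} (hPL : P ≤ L) (hP : IsPGroup 2 P) (hAQ : A ⊔ Q ≤ P) :
    P ≤ normalizer ((A ⊓ V : Subgroup G) : Set G) := by
  haveI := Fact.mk Nat.prime_two
  set N₁ := P ⊓ normalizer ((A ⊓ V : Subgroup G) : Set G)
  haveI : Group.IsNilpotent P := hP.isNilpotent
  by_contra hn
  have hlt : N₁.subgroupOf P < ⊤ := lt_top_iff_ne_top.2 fun e =>
    hn fun y hy => (subgroupOf_eq_top.1 e hy).2
  obtain ⟨g, hg, hgn⟩ := SetLike.exists_of_lt (Group.normalizerCondition_of_isNilpotent _ hlt)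
  refine hgn (mem_subgroupOf.2 ⟨g.2, ?_⟩)
  have hgA : cj (g : G) A ≤ normalizer ((A ⊓ V : Subgroup G) : Set G) := by
    rintro _ ⟨a, ha, rfl⟩
    have haN : a ∈ N₁ := ⟨hAQ (mem_sup_left ha), o.AQ_le_norm_W h (mem_sup_left ha)⟩
    exact ((mem_normalizer_iff.1 hg ⟨a, hAQ (mem_sup_left ha)⟩).1 haN).2
  have h1 := o.eq_of_normalizes h (inv_mem (hPL g.2)) (o.cj_inv_normalizes h hgA)
  have h2 := (normalizer ((A ⊓ V : Subgroup G) : Set G)).inv_mem (mem_normalizer_iff_cj.2 h1)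
  rwa [inv_inv] at h2

theorem isPGroup_cen {d : G} (hd : d ∈ A ⊓ V) (hd1 : d ≠ 1) :
    IsPGroup 2 ↥(L ⊓ Subgroup.centralizer ({d} : Set G)) :=
  (h d (o.hV.orderOf_eq_two hd.2 hd1)).to_le inf_le_right

/-- Distinct conjugates of the fixed subgroup meet trivially. -/
theorem eq_of_meet {x : G} (hx : x ∈ L) {d : G} (hd : d ∈ A ⊓ V) (hd1 : d ≠ 1) (hdx : d ∈ cj x (A ⊓ V)) :
    cj x (A ⊓ V) = A ⊓ V := by
  set P := L ⊓ Subgroup.centralizer ({d} : Set G)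
  have hAQ : A ⊔ Q ≤ P := fun u hu => ⟨o.AQL hu, mem_centralizer_singleton_iff.2 (o.comm_W h hu hd)⟩
  have hxA : cj x A ≤ P := by
    rintro _ ⟨a, ha, rfl⟩
    refine ⟨L.mul_mem (L.mul_mem hx (o.AL ha)) (L.inv_mem hx), mem_centralizer_singleton_iff.2 ?_⟩
    show x * a * x⁻¹ * d = d * (x * a * x⁻¹)
    have h1 := o.comm_W h (mem_sup_left ha : a ∈ A ⊔ Q) (mem_cj.1 hdx)
    calc x * a * x⁻¹ * d = x * (a * (x⁻¹ * d * x)) * x⁻¹ := by group
      _ = x * ((x⁻¹ * d * x) * a) * x⁻¹ := by rw [h1]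
      _ = d * (x * a * x⁻¹) := by group
  have h1 := o.eq_of_normalizes h (inv_mem hx) (o.cj_inv_normalizes h
    (hxA.trans (o.le_norm_W h inf_le_left (o.isPGroup_cen h hd hd1) hAQ)))
  calc cj x (A ⊓ V) = cj x (cj x⁻¹ (A ⊓ V)) := by rw [h1]
    _ = A ⊓ V := by rw [← cj_mul, mul_inv_cancel, cj_one]

/-- An element of `AQ` outside the core fixes only one conjugate of the fixed subgroup. -/
theorem eq_of_fixes {x u : G} (hx : x ∈ L) (hu : u ∈ A ⊔ Q) (hnu : u ∉ Q)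
    (hn : u ∈ normalizer ((cj x (A ⊓ V) : Subgroup G) : Set G)) : cj x (A ⊓ V) = A ⊓ V := by
  have hne : cj x (A ⊓ V) ≠ ⊥ := by
    rw [← one_lt_card_iff_ne_bot, card_cj, one_lt_card_iff_ne_bot]
    exact o.W_ne_bot h
  have hel : El (cj x (A ⊓ V)) := (o.hV.mono inf_le_right).cj x
  obtain ⟨d, hd, hd1, hc⟩ := exists_fixed_mem (o.hR.to_le ((zpowers_le.2 hu).trans o.AQR)) hel.isPGroup hne
    (zpowers_le.2 hn)
  exact o.eq_of_meet h hx (o.fixed_mem' h hu hnu (o.cj_W_le_V h hx hd) (hc u (mem_zpowers u))) hd1 hd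

theorem exists_other : ∃ x ∈ L, cj x (A ⊓ V) ≠ A ⊓ V := by
  by_contra hc
  push Not at hc
  refine o.notle (le_sup_left.trans (o.core (A ⊔ Q) o.AQL (fun x hx => ?_) (o.hR.to_le o.AQR)))
  exact o.mem_norm_AQ_of h hx (mem_normalizer_iff_cj.2 (hc x hx))

theorem disjoint_W {x : G} (hx : x ∈ L) (hne : cj x (A ⊓ V) ≠ A ⊓ V) : (A ⊓ V) ⊓ cj x (A ⊓ V) = ⊥ := by
  rw [eq_bot_iff]
  intro d hd
  by_contra hd1
  exact hne (o.eq_of_meet h hx hd.1 (fun e => hd1 (mem_bot.2 e)) hd.2)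

theorem decomp_V {x : G} (hx : x ∈ L) (hne : cj x (A ⊓ V) ≠ A ⊓ V) {v : G} (hv : v ∈ V) :
    ∃ w ∈ A ⊓ V, ∃ w' ∈ cj x (A ⊓ V), v = w * w' := by
  set W := A ⊓ V
  let f : W × cj x W → V := fun p => ⟨(p.1 : G) * p.2, mul_mem p.1.2.2 (o.cj_W_le_V h hx p.2.2)⟩
  have hf : Function.Injective f := by
    intro p q e
    have e' : (p.1 : G) * p.2 = q.1 * q.2 := congrArg Subtype.val e
    have h1 : (q.1 : G)⁻¹ * p.1 = q.2 * (p.2 : G)⁻¹ := by
      calc (q.1 : G)⁻¹ * p.1 = (q.1 : G)⁻¹ * ((p.1 : G) * p.2) * (p.2 : G)⁻¹ := by group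
        _ = q.2 * (p.2 : G)⁻¹ := by rw [e']; group
    have h2 : (q.1 : G)⁻¹ * p.1 ∈ W ⊓ cj x W :=
      ⟨W.mul_mem (inv_mem q.1.2) p.1.2, h1 ▸ (cj x W).mul_mem q.2.2 (inv_mem p.2.2)⟩
    rw [o.disjoint_W h hx hne, mem_bot] at h2
    exact Prod.ext (Subtype.ext (inv_mul_eq_one.1 h2).symm)
      (Subtype.ext (mul_inv_eq_one.1 (h1 ▸ h2)).symm)
  obtain ⟨p, hp⟩ := (hf.bijective_of_nat_card_le (by rw [Nat.card_prod, card_cj, o.card_V h])).2 ⟨v, hv⟩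
  exact ⟨p.1, p.1.2, p.2, p.2.2, (congrArg Subtype.val hp).symm⟩

theorem cover {x : G} (hx : x ∈ L) (hne : cj x (A ⊓ V) ≠ A ⊓ V) {v : G} (hv : v ∈ V) (hn : v ∉ A ⊓ V) :
    ∃ a ∈ A, v ∈ cj (a * x) (A ⊓ V) := by
  obtain ⟨w, hw, w', hw', rfl⟩ := o.decomp_V h hx hne hv
  have hw'n : w' ∉ A ⊓ V := fun hm => hn (mul_mem hw hm)
  obtain ⟨a, ha, e⟩ := (o.offender_data h (o.cj_W_le_V h hx hw') hw'n).2 w hw
  refine ⟨a, ha, ?_⟩
  rw [cj_mul, ← e]
  exact ⟨w', hw', by simp [MulAut.conj_apply, mul_assoc]⟩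

theorem orbit {x : G} (hx : x ∈ L) (hne : cj x (A ⊓ V) ≠ A ⊓ V) {y : G} (hy : y ∈ L) :
    cj y (A ⊓ V) = A ⊓ V ∨ ∃ a ∈ A, cj y (A ⊓ V) = cj (a * x) (A ⊓ V) := by
  obtain ⟨⟨d, hd⟩, hd1'⟩ := Subgroup.ne_bot_iff_exists_ne_one.1 (o.W_ne_bot h)
  have hd1 : y * d * y⁻¹ ≠ 1 := fun e => hd1' (Subtype.ext (conj_eq_one_iff.1 e))
  have hmem : y * d * y⁻¹ ∈ cj y (A ⊓ V) := conj_mem_cj hd
  by_cases hW : y * d * y⁻¹ ∈ A ⊓ V
  · exact Or.inl (o.eq_of_meet h hy hW hd1 hmem)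
  obtain ⟨a, ha, hm⟩ := o.cover h hx hne (o.cj_W_le_V h hy hmem) hW
  refine Or.inr ⟨a, ha, ?_⟩
  set z := a * x with hz
  have hzL : z ∈ L := mul_mem (o.AL ha) hx
  have h2 := o.eq_of_meet h (d := z⁻¹ * (y * d * y⁻¹) * z) (mul_mem (inv_mem hzL) hy : z⁻¹ * y ∈ L)
    (mem_cj.1 hm)
    (fun e => hd1 (by
      have := congrArg (fun t => z * t * z⁻¹) e
      simpa [mul_assoc] using this))
    (by rw [mem_cj]; simpa [mul_assoc] using hd)
  calc cj y (A ⊓ V) = cj z (cj (z⁻¹ * y) (A ⊓ V)) := by rw [← cj_mul, mul_inv_cancel_left]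
    _ = cj z (A ⊓ V) := by rw [h2]

/-- An element fixing `W` differs by an element of `A` from one fixing a second conjugate. -/
theorem decomp_N {x : G} (hx : x ∈ L) (hne : cj x (A ⊓ V) ≠ A ⊓ V) {y : G} (hy : y ∈ L)
    (hyW : y ∈ normalizer ((A ⊓ V : Subgroup G) : Set G)) :
    ∃ a ∈ A, a⁻¹ * y ∈ L ∧ a⁻¹ * y ∈ normalizer ((A ⊓ V : Subgroup G) : Set G) ∧
      a⁻¹ * y ∈ normalizer ((cj x (A ⊓ V) : Subgroup G) : Set G) := by
  rcases o.orbit h hx hne (mul_mem hy hx) with e | ⟨a, ha, e⟩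
  · refine absurd ?_ hne
    calc cj x (A ⊓ V) = cj y⁻¹ (cj (y * x) (A ⊓ V)) := by rw [← cj_mul, inv_mul_cancel_left]
      _ = A ⊓ V := by rw [e, cj_eq_self (inv_mem hyW)]
  · refine ⟨a, ha, mul_mem (inv_mem (o.AL ha)) hy,
      mul_mem (inv_mem (o.AQ_le_norm_W h (mem_sup_left ha))) hyW, ?_⟩
    rw [mem_normalizer_iff_cj, ← cj_mul, mul_assoc, cj_mul, e, ← cj_mul, inv_mul_cancel_left]

theorem exists_commuting {f : G} (hf : f ∈ L) (hfW : f ∈ normalizer ((A ⊓ V : Subgroup G) : Set G))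
    (hf2 : f * f ∈ Q) :
    ∃ u : L, (u : G) ∈ A ⊔ Q ∧ (u : G) ∉ Q ∧ Commute (o.act ⟨f, hf⟩) (o.act u) := by
  obtain ⟨a, ha, hna⟩ := SetLike.not_le_iff_exists.1 o.notle
  set F := o.act ⟨f, hf⟩ with hF
  set a' : L := ⟨a, o.AL ha⟩ with ha'
  set b' : L := ⟨f, hf⟩ * a' * ⟨f, hf⟩⁻¹ with hb'
  have hFF : F * F = 1 := o.act_sq h hf hf2
  have hb : (b' : G) ∈ A ⊔ Q :=
    (mem_normalizer_iff.1 (o.mem_norm_AQ_of h hf hfW) a).1 (mem_sup_left ha)
  obtain ⟨c, hc, -, hact⟩ := o.exists_rep h hb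
  have hBC : o.act b' = o.act ⟨c, o.AL hc⟩ := o.act_eq_iff.2 hact
  have hAB : Commute (o.act a') (o.act b') := by
    rw [hBC]
    show o.act a' * o.act ⟨c, _⟩ = o.act ⟨c, _⟩ * o.act a'
    rw [← map_mul, ← map_mul]
    exact congrArg o.act (Subtype.ext (o.max.2.1.1 a ha c hc))
  have hB : o.act b' = F * o.act a' * F⁻¹ := by rw [hb', map_mul, map_mul, map_inv]
  by_cases hp : ((a' * b' : L) : G) ∈ Q
  · refine ⟨a', mem_sup_left ha, hna, ?_⟩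
    have hAA : o.act a' * o.act a' = 1 := o.act_sq h _ (by rw [o.max.2.1.2 a ha]; exact one_mem Q)
    have hAB1 : o.act a' * o.act b' = 1 := by rw [← map_mul, o.act_eq_one h]; exact hp
    have e : o.act b' = o.act a' := mul_left_cancel (hAB1.trans hAA.symm)
    rw [e] at hB
    exact (eq_mul_inv_iff_mul_eq.1 hB).symm
  · refine ⟨a' * b', mul_mem (mem_sup_left ha) hb, hp, ?_⟩
    have hFi : F⁻¹ = F := inv_eq_of_mul_eq_one_right hFF
    show F * o.act (a' * b') = o.act (a' * b') * F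
    rw [map_mul]
    calc F * (o.act a' * o.act b') = (F * o.act a' * F⁻¹) * (F * F) * o.act a' * F⁻¹ := by
          rw [hB]; group
      _ = o.act b' * o.act a' * F := by rw [← hB, hFF, mul_one, hFi]
      _ = o.act a' * o.act b' * F := by rw [hAB.eq]

/-- No involution modulo the core fixes two conjugates of the fixed subgroup. -/
theorem mem_core_of_sq {x : G} (hx : x ∈ L) (hne : cj x (A ⊓ V) ≠ A ⊓ V) {f : G} (hf : f ∈ L)
    (hfW : f ∈ normalizer ((A ⊓ V : Subgroup G) : Set G))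
    (hfW' : f ∈ normalizer ((cj x (A ⊓ V) : Subgroup G) : Set G)) (hf2 : f * f ∈ Q) : f ∈ Q := by
  by_contra hfn
  obtain ⟨u₁, hu₁, hu₁n, hc₁⟩ := o.exists_commuting h hf hfW hf2
  have hfx : x⁻¹ * f * x ∈ L := mul_mem (mul_mem (inv_mem hx) hf) hx
  obtain ⟨u₂, hu₂, hu₂n, hc₂⟩ := o.exists_commuting h hfx
    (by rw [mem_normalizer_iff_cj, mul_assoc, cj_mul, cj_mul, cj_eq_self hfW', cj_inv_cj])
    (by
      rw [show x⁻¹ * f * x * (x⁻¹ * f * x) = x⁻¹ * (f * f) * x by group]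
      exact (mem_normalizer_iff''.1 (o.LQ hx) _).1 hf2)
  set X : L := ⟨x, hx⟩ with hX
  set P := ((Subgroup.centralizer ({o.act ⟨f, hf⟩} : Set (MulAut V))).comap o.act).map L.subtype with hP
  have hPg : IsPGroup 2 P := by
    refine IsPGroup.iff_orderOf.2 ?_
    rintro ⟨z, hz⟩
    rw [orderOf_mk]
    obtain ⟨y, hy, rfl⟩ := hz
    have he : o.act (y * ⟨f, hf⟩ * y⁻¹ * ⟨f, hf⟩⁻¹) = 1 := by
      rw [map_mul, map_mul, map_mul, map_inv, map_inv, mem_centralizer_singleton_iff.1 hy,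
        mul_inv_cancel_right, mul_inv_cancel]
    exact h.two_pow_of_comm o.hQ (o.LQ hf) hfn (k := 1) (by rw [pow_one, pow_two]; exact hf2) (o.LQ y.2)
      ((o.act_eq_one h).1 he)
  have hPV : P ≤ normalizer (V : Set G) := fun y hy => o.LV (map_subtype_le _ hy)
  obtain ⟨d, hd, hd1, hc⟩ := exists_fixed_mem hPg o.hV.isPGroup o.V1 hPV
  have hm1 : (u₁ : G) ∈ P := ⟨u₁, mem_centralizer_singleton_iff.2 hc₁.eq.symm, rfl⟩
  have hm2 : ((X * u₂ * X⁻¹ : L) : G) ∈ P := by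
    refine ⟨X * u₂ * X⁻¹, mem_centralizer_singleton_iff.2 ?_, rfl⟩
    have e1 : o.act ⟨x⁻¹ * f * x, hfx⟩ = (o.act X)⁻¹ * o.act ⟨f, hf⟩ * o.act X := by
      rw [← map_inv, ← map_mul, ← map_mul]; rfl
    rw [e1] at hc₂
    rw [map_mul, map_mul, map_inv]
    have h3 := hc₂.eq
    calc o.act X * o.act u₂ * (o.act X)⁻¹ * o.act ⟨f, hf⟩
        = o.act X * (o.act u₂ * ((o.act X)⁻¹ * o.act ⟨f, hf⟩ * o.act X)) * (o.act X)⁻¹ := by group
      _ = o.act ⟨f, hf⟩ * (o.act X * o.act u₂ * (o.act X)⁻¹) := by rw [← h3]; group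
  have hd2 : x⁻¹ * d * x ∈ A ⊓ V := by
    refine o.fixed_mem' h hu₂ hu₂n ((mem_normalizer_iff''.1 (o.LV hx) d).1 hd) ?_
    have h3 : x * u₂ * x⁻¹ * d = d * (x * u₂ * x⁻¹) := hc _ hm2
    calc (u₂ : G) * (x⁻¹ * d * x) = x⁻¹ * (x * u₂ * x⁻¹ * d) * x := by group
      _ = x⁻¹ * d * x * u₂ := by rw [h3]; group
  have hbot := o.disjoint_W h hx hne
  exact hd1 (mem_bot.1 (hbot ▸ (⟨o.fixed_mem' h hu₁ hu₁n hd (hc _ hm1), mem_cj.2 hd2⟩ :
    d ∈ (A ⊓ V) ⊓ cj x (A ⊓ V))))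

/-- A 2-element fixing two conjugates lies in the core. -/
theorem mem_core_of_two {x : G} (hx : x ∈ L) (hne : cj x (A ⊓ V) ≠ A ⊓ V) {f : G} (hf : f ∈ L)
    (hfW : f ∈ normalizer ((A ⊓ V : Subgroup G) : Set G))
    (hfW' : f ∈ normalizer ((cj x (A ⊓ V) : Subgroup G) : Set G)) {k : ℕ} (hk : orderOf f = 2 ^ k) :
    f ∈ Q := by
  suffices hall : ∀ i ≤ k, f ^ 2 ^ (k - i) ∈ Q by simpa using hall k le_rfl
  intro i
  induction i with
  | zero => intro _; rw [Nat.sub_zero, ← hk, pow_orderOf_eq_one]; exact one_mem _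
  | succ i ih =>
    intro hi
    refine o.mem_core_of_sq h hx hne (pow_mem hf _) (pow_mem hfW _) (pow_mem hfW' _) ?_
    rw [← pow_add, ← two_mul, ← pow_succ', show k - (i + 1) + 1 = k - i by omega]
    exact ih (by omega)

/-- The Sylow subgroup is `AQ`. -/
theorem R_eq : R = A ⊔ Q := by
  refine le_antisymm (fun y hy => ?_) o.AQR
  obtain ⟨x, hx, hne⟩ := o.exists_other h
  obtain ⟨a, ha, h1, h2, h3⟩ := o.decomp_N h hx hne (o.RL hy) (o.le_norm_W h o.RL o.hR o.AQR hy)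
  obtain ⟨k, hk⟩ := IsPGroup.iff_orderOf.1 o.hR ⟨a⁻¹ * y, mul_mem (inv_mem (o.max.1 ha)) hy⟩
  rw [orderOf_mk] at hk
  rw [show y = a * (a⁻¹ * y) by group]
  exact mul_mem (mem_sup_left ha) (mem_sup_right (o.mem_core_of_two h hx hne h1 h2 h3 hk))

theorem exists_conj_other {x : G} (hx : x ∈ L) (hne : cj x (A ⊓ V) ≠ A ⊓ V) {a b : G} (ha : a ∈ A)
    (hna : a ∉ Q) (hb : b ∈ A) (hnb : b ∉ Q) :
    ∃ z : L, o.act z * o.act ⟨a, o.AL ha⟩ * (o.act z)⁻¹ =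
      o.act ⟨x * b * x⁻¹, mul_mem (mul_mem hx (o.AL hb)) (inv_mem hx)⟩ := by
  set c : L := ⟨x * b * x⁻¹, mul_mem (mul_mem hx (o.AL hb)) (inv_mem hx)⟩ with hc
  set a' : L := ⟨a, o.AL ha⟩ with ha'
  have hAA : o.act a' * o.act a' = 1 := o.act_sq h _ (by rw [o.max.2.1.2 a ha]; exact one_mem Q)
  have hCC : o.act c * o.act c = 1 := o.act_sq h _ (by
    rw [show x * b * x⁻¹ * (x * b * x⁻¹) = x * (b * b) * x⁻¹ by group, o.max.2.1.2 b hb, mul_one,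
      mul_inv_cancel]
    exact one_mem Q)
  set Y := o.act (a' * c) with hY
  have hAi : (o.act a')⁻¹ = o.act a' := inv_eq_of_mul_eq_one_right hAA
  have hinvA : o.act a' * Y * (o.act a')⁻¹ = Y⁻¹ := by
    rw [hAi, hY, map_mul, mul_inv_rev, inv_eq_of_mul_eq_one_right hCC, hAi,
      ← mul_assoc, hAA, one_mul]
  rcases Nat.even_or_odd (orderOf Y) with ⟨n, hn⟩ | ⟨n, hn⟩
  · exfalso
    set Z := Y ^ n with hZ
    have hpos := orderOf_pos Y
    have hZ2 : Z * Z = 1 := by rw [hZ, ← pow_add, ← hn, pow_orderOf_eq_one]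
    have hZ1 : Z ≠ 1 := fun e => by
      have := Nat.le_of_dvd (by omega) (orderOf_dvd_of_pow_eq_one e)
      omega
    have hcomA : Commute (o.act a') Z := by
      show o.act a' * Z = Z * o.act a'
      have h2 : o.act a' * Z * (o.act a')⁻¹ = Z⁻¹ := by rw [hZ, ← conj_pow, hinvA, inv_pow]
      rw [inv_eq_of_mul_eq_one_right hZ2] at h2
      exact mul_inv_eq_iff_eq_mul.1 h2
    have hcomC : Commute (o.act c) Z := by
      have e : o.act c = (o.act a')⁻¹ * Y := by rw [hY, map_mul, inv_mul_cancel_left]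
      rw [e]
      exact hcomA.inv_left.mul_left (Commute.self_pow Y n)
    set z := (a' * c) ^ n with hz
    have hzZ : o.act z = Z := by rw [hz, map_pow]
    have hzn : (z : G) ∉ Q := fun e => hZ1 (by rw [← hzZ]; exact (o.act_eq_one h).2 e)
    have hzsq : (z : G) * z ∈ Q := (o.act_eq_one h (x := z * z)).1 (by rw [map_mul, hzZ, hZ2])
    have hfix : ∀ u y : L, Commute (o.act u) (o.act y) →
        ∀ S : Subgroup G, S ≤ V → cj (u : G) S = S → cj (u : G) (cj (y : G) S) = cj (y : G) S := by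
      intro u y huy S hS hu
      have e : o.act (u * y) = o.act (y * u) := by rw [map_mul, map_mul, huy.eq]
      have e' : ∀ s ∈ S, (u : G) * y * s * ((u : G) * y)⁻¹ = (y : G) * u * s * ((y : G) * u)⁻¹ :=
        fun s hs => o.act_eq_iff.1 e s (hS hs)
      rw [← cj_mul]
      conv_rhs => rw [← hu, ← cj_mul]
      ext t
      constructor
      · rintro ⟨s, hs, rfl⟩; exact ⟨s, hs, (e' s hs).symm⟩
      · rintro ⟨s, hs, rfl⟩; exact ⟨s, hs, e' s hs⟩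
    have hW1 : cj (z : G) (A ⊓ V) = A ⊓ V := by
      refine o.eq_of_fixes h z.2 (mem_sup_left ha) hna (mem_normalizer_iff_cj.2 ?_)
      exact hfix a' z (hzZ ▸ hcomA) _ inf_le_right
        (cj_eq_self (o.AQ_le_norm_W h (mem_sup_left ha)))
    have hcW : cj (c : G) (cj x (A ⊓ V)) = cj x (A ⊓ V) := by
      rw [← cj_mul, show (c : G) * x = x * b by simp [hc], cj_mul,
        cj_eq_self (o.AQ_le_norm_W h (mem_sup_left hb))]
    have hW2 : cj (z : G) (cj x (A ⊓ V)) = cj x (A ⊓ V) := by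
      have h1 := hfix c z (hzZ ▸ hcomC) _ (o.cj_W_le_V h hx) hcW
      have h2 : cj (x⁻¹ * z * x) (A ⊓ V) = A ⊓ V := by
        refine o.eq_of_fixes h (mul_mem (mul_mem (inv_mem hx) z.2) hx) (mem_sup_left hb) hnb
          (mem_normalizer_iff_cj.2 ?_)
        have e : (c : G) = x * b * x⁻¹ := rfl
        have h3 : cj ((c : G) * ((z : G) * x)) (A ⊓ V) = cj ((z : G) * x) (A ⊓ V) := by
          rw [cj_mul (c : G), cj_mul (z : G) x, h1]
        rw [← cj_mul, show b * (x⁻¹ * (z : G) * x) = x⁻¹ * ((c : G) * ((z : G) * x)) by rw [e]; group,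
          cj_mul, h3, ← cj_mul, ← mul_assoc]
      calc cj (z : G) (cj x (A ⊓ V)) = cj x (cj (x⁻¹ * z * x) (A ⊓ V)) := by
            rw [← cj_mul, ← cj_mul]; congr 1; group
        _ = cj x (A ⊓ V) := by rw [h2]
    exact hzn (o.mem_core_of_sq h hx hne z.2 (mem_normalizer_iff_cj.2 hW1) (mem_normalizer_iff_cj.2 hW2) hzsq)
  · refine ⟨(a' * c) ^ n, ?_⟩
    rw [map_pow, ← hY]
    have h1 : ∀ i : ℕ, o.act a' * (Y ^ i)⁻¹ = Y ^ i * o.act a' := fun i => by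
      have h2 : o.act a' * (Y ^ i)⁻¹ * (o.act a')⁻¹ = Y ^ i := by
        rw [← conj_inv, ← conj_pow, hinvA, inv_pow, inv_inv]
      exact mul_inv_eq_iff_eq_mul.1 h2
    calc Y ^ n * o.act a' * (Y ^ n)⁻¹ = Y ^ n * (o.act a' * (Y ^ n)⁻¹) := mul_assoc _ _ _
      _ = Y ^ (2 * n + 1) * (Y⁻¹ * o.act a') := by rw [h1, pow_succ, two_mul, pow_add]; group
      _ = o.act c := by
        rw [← hn, pow_orderOf_eq_one, one_mul, hY, map_mul, mul_inv_rev,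
          inv_eq_of_mul_eq_one_right hCC, hAi, mul_assoc, hAA, mul_one]

/-- The stabiliser of two conjugates is transitive on the offender modulo the core. -/
theorem exists_trans {x : G} (hx : x ∈ L) (hne : cj x (A ⊓ V) ≠ A ⊓ V) {a b : G} (ha : a ∈ A)
    (hna : a ∉ Q) (hb : b ∈ A) (hnb : b ∉ Q) :
    ∃ k : L, (k : G) ∈ normalizer ((A ⊓ V : Subgroup G) : Set G) ∧
      (k : G) ∈ normalizer ((cj x (A ⊓ V) : Subgroup G) : Set G) ∧
      o.act k * o.act ⟨a, o.AL ha⟩ * (o.act k)⁻¹ = o.act ⟨b, o.AL hb⟩ := by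
  obtain ⟨za, hza⟩ := o.exists_conj_other h hx hne ha hna hb hnb
  obtain ⟨zb, hzb⟩ := o.exists_conj_other h hx hne hb hnb hb hnb
  set y := zb⁻¹ * za with hy
  set a' : L := ⟨a, o.AL ha⟩
  set b' : L := ⟨b, o.AL hb⟩ with hb'
  have hyab : o.act y * o.act a' * (o.act y)⁻¹ = o.act b' := by
    rw [hy, map_mul, map_inv]
    calc (o.act zb)⁻¹ * o.act za * o.act a' * ((o.act zb)⁻¹ * o.act za)⁻¹
        = (o.act zb)⁻¹ * (o.act za * o.act a' * (o.act za)⁻¹) * o.act zb := by group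
      _ = o.act b' := by rw [hza, ← hzb]; group
  have he : o.act (y⁻¹ * b' * y) = o.act a' := by
    rw [map_mul, map_mul, map_inv, ← hyab]; group
  have hfix : cj ((y⁻¹ * b' * y : L) : G) (A ⊓ V) = A ⊓ V := by
    have hA := cj_eq_self (o.AQ_le_norm_W h (mem_sup_left ha))
    conv_rhs => rw [← hA]
    ext t
    constructor
    · rintro ⟨s, hs, rfl⟩; exact ⟨s, hs, (o.act_eq_iff.1 he s hs.2).symm⟩
    · rintro ⟨s, hs, rfl⟩; exact ⟨s, hs, o.act_eq_iff.1 he s hs.2⟩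
  have hyW : cj (y : G) (A ⊓ V) = A ⊓ V := by
    refine o.eq_of_fixes h y.2 (mem_sup_left hb) hnb (mem_normalizer_iff_cj.2 ?_)
    conv_rhs => rw [← hfix]
    rw [← cj_mul, ← cj_mul]
    congr 1
    simp [hb', mul_assoc]
  obtain ⟨a₁, ha₁, hkL, hk1, hk2⟩ := o.decomp_N h hx hne y.2 (mem_normalizer_iff_cj.2 hyW)
  refine ⟨⟨a₁⁻¹ * y, hkL⟩, hk1, hk2, ?_⟩
  have e : (⟨a₁⁻¹ * y, hkL⟩ : L) = (⟨a₁, o.AL ha₁⟩ : L)⁻¹ * y := Subtype.ext rfl
  have hcomm : Commute (o.act ⟨a₁, o.AL ha₁⟩) (o.act b') := by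
    show _ * _ = _ * _
    rw [← map_mul, ← map_mul]
    exact congrArg o.act (Subtype.ext (o.max.2.1.1 a₁ ha₁ b hb))
  rw [e, map_mul, map_inv]
  calc (o.act ⟨a₁, _⟩)⁻¹ * o.act y * o.act a' * ((o.act ⟨a₁, _⟩)⁻¹ * o.act y)⁻¹
      = (o.act ⟨a₁, _⟩)⁻¹ * (o.act y * o.act a' * (o.act y)⁻¹) * o.act ⟨a₁, _⟩ := by group
    _ = o.act b' := by rw [hyab, mul_assoc, ← hcomm.eq, inv_mul_cancel_left]

/-- An element of the stabiliser of two conjugates with a fixed point on `W` lies in the core. -/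
theorem mem_core_of_fixed {x : G} (hx : x ∈ L) (hne : cj x (A ⊓ V) ≠ A ⊓ V) {k : G} (hk : k ∈ L)
    (hkW : k ∈ normalizer ((A ⊓ V : Subgroup G) : Set G))
    (hkW' : k ∈ normalizer ((cj x (A ⊓ V) : Subgroup G) : Set G)) {d : G} (hd : d ∈ A ⊓ V) (hd1 : d ≠ 1)
    (hc : k * d = d * k) : k ∈ Q := by
  obtain ⟨i, hi⟩ := h.two_pow_of_commute o.hV.isPGroup hd.2 hd1 hc
  exact o.mem_core_of_two h hx hne hk hkW hkW' hi

/-- The stabiliser of two conjugates is transitive on the nonidentity elements of `W`. -/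
theorem exists_trans_W {x : G} (hx : x ∈ L) (hne : cj x (A ⊓ V) ≠ A ⊓ V) {w₀ w : G} (hw₀ : w₀ ∈ A ⊓ V)
    (hw₀1 : w₀ ≠ 1) (hw : w ∈ A ⊓ V) (hw1 : w ≠ 1) :
    ∃ k ∈ L, k ∈ normalizer ((A ⊓ V : Subgroup G) : Set G) ∧
      k ∈ normalizer ((cj x (A ⊓ V) : Subgroup G) : Set G) ∧ k * w₀ * k⁻¹ = w := by
  classical
  set W := A ⊓ V
  obtain ⟨v₀, hv₀, hv₀W⟩ := o.exists_notMem h
  obtain ⟨a₀, ha₀, hna₀⟩ := SetLike.not_le_iff_exists.1 o.notle
  choose fa hfa hfe using (o.offender_data h hv₀ hv₀W).2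
  have hfn : ∀ (u : G) (hu : u ∈ W), u ≠ 1 → fa u hu ∉ Q := fun u hu hu1 hm => hu1 (by
    rw [← hfe u hu, o.cenV _ hm v₀ hv₀, mul_inv_cancel_right, mul_inv_cancel])
  have hk : ∀ u : {u : G // u ∈ W ∧ u ≠ 1}, ∃ k : L, (k : G) ∈ normalizer (W : Set G) ∧
      (k : G) ∈ normalizer ((cj x W : Subgroup G) : Set G) ∧
      o.act k * o.act ⟨a₀, o.AL ha₀⟩ * (o.act k)⁻¹ = o.act ⟨fa u u.2.1, o.AL (hfa u u.2.1)⟩ := fun u =>
    o.exists_trans h hx hne ha₀ hna₀ (hfa u u.2.1) (hfn u u.2.1 u.2.2)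
  choose fk hk1 hk2 hk3 using hk
  let g : {u : G // u ∈ W ∧ u ≠ 1} → {u : G // u ∈ W ∧ u ≠ 1} := fun u =>
    ⟨(fk u : G) * w₀ * (fk u : G)⁻¹, (mem_normalizer_iff.1 (hk1 u) w₀).1 hw₀,
      fun e => hw₀1 (conj_eq_one_iff.1 e)⟩
  have hg : Function.Injective g := by
    intro u v e
    have e' : (fk u : G) * w₀ * (fk u : G)⁻¹ = fk v * w₀ * (fk v : G)⁻¹ := congrArg Subtype.val e
    have hQ' : ((fk v)⁻¹ * fk u : G) ∈ Q := by
      refine o.mem_core_of_fixed h hx hne (mul_mem (inv_mem (fk v).2) (fk u).2)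
        (mul_mem (inv_mem (hk1 v)) (hk1 u)) (mul_mem (inv_mem (hk2 v)) (hk2 u)) hw₀ hw₀1 ?_
      calc (fk v : G)⁻¹ * fk u * w₀ = (fk v : G)⁻¹ * ((fk u : G) * w₀ * (fk u : G)⁻¹) * fk u := by group
        _ = w₀ * ((fk v : G)⁻¹ * fk u) := by rw [e']; group
    have e2 : o.act (fk u) = o.act (fk v) := (o.act_eq_act h).2 hQ'
    have e3 := hk3 u
    rw [e2, hk3 v] at e3
    refine Subtype.ext ?_
    have h1 : fa v v.2.1 * v₀ * (fa v v.2.1)⁻¹ = fa u u.2.1 * v₀ * (fa u u.2.1)⁻¹ :=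
      o.act_eq_iff.1 e3 v₀ hv₀
    rw [← hfe u u.2.1, ← hfe v v.2.1, h1]
  obtain ⟨u, hu⟩ := Finite.injective_iff_surjective.1 hg ⟨w, hw, hw1⟩
  exact ⟨fk u, (fk u).2, hk1 u, hk2 u, congrArg Subtype.val hu⟩

end Off

end Cfsg.Agent.Transfer.CIT
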