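import Mathlib
import Cfsg.Agent.Lib.Transfer.CIT.Spread

/-!
An element of order three in an offender configuration, and the structure of the core it forces.
-/

set_option autoImplicit false
set_option linter.style.haveILetI false
set_option linter.unusedSectionVars false

open scoped Pointwise

universe u

namespace Cfsg.Agent.Transfer.CIT

open Cfsg.Agent Subgroup

variable {G : Type u} [Group G] [Finite G] {L Q V R A : Subgroup G}

theorem swap_mem_normalizer {t k : G} {S S' : Subgroup G} (ht : t * t = 1) (htS : cj t S' = S)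
    (htS' : cj t S = S') (hk : k ∈ normalizer (S' : Set G)) : t * k * t⁻¹ ∈ normalizer (S : Set G) := by
  rw [mem_normalizer_iff_cj, cj_mul, cj_mul, inv_eq_of_mul_eq_one_right ht, htS', cj_eq_self hk, htS]

namespace Off

variable (h : IsCIT G) (o : Off L Q V R A)

include h o

/-- A conjugate of an element of the offender exchanges two given conjugates of the fixed subgroup. -/
theorem exists_swap {x : G} (hx : x ∈ L) (hne : cj x (A ⊓ V) ≠ A ⊓ V) :
    ∃ z ∈ L, ∃ a ∈ A, a ∉ Q ∧ cj (z * a * z⁻¹) (A ⊓ V) = cj x (A ⊓ V) ∧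
      cj (z * a * z⁻¹) (cj x (A ⊓ V)) = A ⊓ V := by
  set W := A ⊓ V
  obtain ⟨a, ha, hna⟩ := SetLike.not_le_iff_exists.1 o.notle
  have haW := o.AQ_le_norm_W h (mem_sup_left ha : a ∈ A ⊔ Q)
  have haa := o.max.2.1.2 a ha
  set W3 := cj a (cj x W) with hW3
  have h31 : W3 ≠ cj x W := fun e =>
    hne (o.eq_of_fixes h hx (mem_sup_left ha) hna (mem_normalizer_iff_cj.2 e))
  have haW3 : cj a W3 = cj x W := by rw [hW3, ← cj_mul, haa, cj_one]
  have h2L : x⁻¹ * a * x ∈ L := mul_mem (mul_mem (inv_mem hx) (o.AL ha)) hx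
  have e2 : cj (x⁻¹ * a * x) W = cj x⁻¹ W3 := by rw [hW3, cj_mul, cj_mul]
  rcases o.orbit h hx hne h2L with e | ⟨a₁, ha₁, e⟩
  · exfalso
    apply h31
    rw [e2] at e
    have e' := congrArg (cj x) e
    rw [← cj_mul, mul_inv_cancel, cj_one] at e'
    exact e'
  rw [e2] at e
  refine ⟨a₁⁻¹ * x⁻¹, mul_mem (inv_mem (o.AL ha₁)) (inv_mem hx), a, ha, hna, ?_⟩
  set z := a₁⁻¹ * x⁻¹ with hz
  have hz1 : cj z (cj x W) = W := by
    rw [← cj_mul, hz, inv_mul_cancel_right, cj_eq_self (inv_mem (o.AQ_le_norm_W h (mem_sup_left ha₁)))]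
  have hz3 : cj z W3 = cj x W := by
    rw [hz, cj_mul, e, ← cj_mul, inv_mul_cancel_left]
  have hzW : cj z⁻¹ W = cj x W := by
    conv_lhs => rw [← hz1]
    rw [cj_inv_cj]
  have hzW' : cj z⁻¹ (cj x W) = W3 := by
    conv_lhs => rw [← hz3]
    rw [cj_inv_cj]
  refine ⟨?_, ?_⟩
  · rw [cj_mul, hzW, cj_mul, ← hW3, hz3]
  · rw [cj_mul, hzW', cj_mul, haW3, hz1]

/-- The basic element of order three. -/
theorem exists_triangle {x : G} (hx : x ∈ L) (hne : cj x (A ⊓ V) ≠ A ⊓ V) :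
    ∃ z ∈ L, ∃ a₀ ∈ A, ∃ a ∈ A, a₀ ∉ Q ∧ a ∉ Q ∧
      cj (z * a₀ * z⁻¹) (A ⊓ V) = cj x (A ⊓ V) ∧ cj (z * a₀ * z⁻¹) (cj x (A ⊓ V)) = A ⊓ V ∧
      (∀ y ∈ A ⊓ V, a * ((z * a₀ * z⁻¹) * y * (z * a₀ * z⁻¹)⁻¹) * a⁻¹ =
        y * ((z * a₀ * z⁻¹) * y * (z * a₀ * z⁻¹)⁻¹)) ∧
      (a * (z * a₀ * z⁻¹)) ^ 3 = 1 ∧ a * (z * a₀ * z⁻¹) ≠ 1 := by
  set W := A ⊓ V
  obtain ⟨z, hz, a₀, ha₀, hna₀, htW, htW'⟩ := o.exists_swap h hx hne
  set t := z * a₀ * z⁻¹ with ht
  have htL : t ∈ L := mul_mem (mul_mem hz (o.AL ha₀)) (inv_mem hz)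
  have htt : t * t = 1 := by
    rw [ht, show z * a₀ * z⁻¹ * (z * a₀ * z⁻¹) = z * (a₀ * a₀) * z⁻¹ by group, o.max.2.1.2 a₀ ha₀,
      mul_one, mul_inv_cancel]
  have hza : cj t (cj z W) = cj z W := by
    rw [← cj_mul, ht, inv_mul_cancel_right, cj_mul, cj_eq_self (o.AQ_le_norm_W h (mem_sup_left ha₀))]
  have hzW : cj z W ≠ W := fun e => hne (by rw [e, htW] at hza; exact hza)
  have hzW' : cj z W ≠ cj x W := fun e => hne (by rw [e, htW'] at hza; exact hza.symm)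
  obtain ⟨a, ha, hae⟩ := (o.orbit h hx hne hz).resolve_left hzW
  have hna : a ∉ Q := fun hm => hzW' (by
    rw [hae, cj_mul]
    refine cj_eq_self (mem_normalizer_fintype fun s hs => ?_)
    show a * s * a⁻¹ ∈ cj x W
    rw [o.cenV a hm s (o.cj_W_le_V h hx hs), mul_inv_cancel_right]
    exact hs)
  have hdis := o.disjoint_W h hz hzW
  have tri : ∀ y ∈ W, a * (t * y * t⁻¹) * a⁻¹ = y * (t * y * t⁻¹) := by
    intro y hy
    set p := t * y * t⁻¹ with hp
    have hpW' : p ∈ cj x W := htW ▸ conj_mem_cj hy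
    have hpV : p ∈ V := o.cj_W_le_V h hx hpW'
    have hcom : y * p = p * y := o.hV.1 y hy.2 p hpV
    have htp : t * p * t⁻¹ = y := by
      rw [hp, show t * (t * y * t⁻¹) * t⁻¹ = t * t * y * (t * t)⁻¹ by group, htt, one_mul, inv_one, mul_one]
    have hfix : y * p ∈ cj z W := by
      rw [mem_cj]
      refine o.fixed_mem h ha₀ hna₀ ((mem_normalizer_iff''.1 (o.LV hz) _).1 (mul_mem hy.2 hpV)) ?_
      have h1 : t * (y * p) * t⁻¹ = y * p := by
        calc t * (y * p) * t⁻¹ = t * y * t⁻¹ * (t * p * t⁻¹) := by group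
          _ = y * p := by rw [htp, ← hp, hcom]
      calc a₀ * (z⁻¹ * (y * p) * z) = z⁻¹ * (t * (y * p) * t⁻¹) * t * z := by rw [ht]; group
        _ = z⁻¹ * (y * p) * z * a₀ := by rw [h1, ht]; group
    set c := a * p * a⁻¹ * p⁻¹ with hc
    have hcW : c ∈ W := o.com_mem h ha hpV
    have hap : c * p ∈ cj z W := by
      rw [hc, inv_mul_cancel_right, hae, cj_mul]
      exact conj_mem_cj hpW'
    have hyc : y * c⁻¹ ∈ W ⊓ cj z W := by
      refine ⟨W.mul_mem hy (inv_mem hcW), ?_⟩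
      have := (cj z W).mul_mem hfix (inv_mem hap)
      rwa [show y * p * (c * p)⁻¹ = y * c⁻¹ by group] at this
    rw [hdis, mem_bot, mul_inv_eq_one] at hyc
    calc a * p * a⁻¹ = c * p := by rw [hc, inv_mul_cancel_right]
      _ = y * p := by rw [← hyc]
  refine ⟨z, hz, a₀, ha₀, a, ha, hna₀, hna, htW, htW', tri, ?_⟩
  set s := a * t with hs
  have hsL : s ∈ L := mul_mem (o.AL ha) htL
  have hSW : ∀ y ∈ W, s * y * s⁻¹ = y * (t * y * t⁻¹) := fun y hy => by
    rw [hs, ← tri y hy]; group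
  have hSp : ∀ y ∈ W, s * (t * y * t⁻¹) * s⁻¹ = y := fun y hy => by
    calc s * (t * y * t⁻¹) * s⁻¹ = a * (t * t * y * (t * t)⁻¹) * a⁻¹ := by rw [hs]; group
      _ = a * y * a⁻¹ := by rw [htt, one_mul, inv_one, mul_one]
      _ = y := by rw [o.max.2.1.1 a ha y hy.1, mul_inv_cancel_right]
  have hcube : s ^ 3 ∈ Q := by
    refine o.mem_core h (pow_mem hsL 3) fun v hv => ?_
    obtain ⟨w, hw, w', hw', rfl⟩ := o.decomp_V h hx hne hv
    have hy : t⁻¹ * w' * t ∈ W := by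
      rw [← mem_cj, htW]; exact hw'
    set y := t⁻¹ * w' * t with hy'
    have hw'e : w' = t * y * t⁻¹ := by rw [hy']; group
    have hfix : ∀ y ∈ W, s ^ 3 * y * (s ^ 3)⁻¹ = y ∧ s ^ 3 * (t * y * t⁻¹) * (s ^ 3)⁻¹ = t * y * t⁻¹ := by
      intro y hy
      set p := t * y * t⁻¹ with hp
      have hc : y * p = p * y := o.hV.1 y hy.2 p (o.cj_W_le_V h hx (htW ▸ conj_mem_cj hy))
      have h1 : s * (y * p) * s⁻¹ = p := by
        calc s * (y * p) * s⁻¹ = s * y * s⁻¹ * (s * p * s⁻¹) := by group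
          _ = p := by rw [hSW y hy, hSp y hy, ← hp, hc, mul_assoc, o.hV.2 y hy.2, mul_one]
      constructor
      · calc s ^ 3 * y * (s ^ 3)⁻¹ = s * (s * (s * y * s⁻¹) * s⁻¹) * s⁻¹ := by
              rw [pow_succ, pow_two]; group
          _ = y := by rw [hSW y hy, ← hp, h1, hSp y hy]
      · calc s ^ 3 * p * (s ^ 3)⁻¹ = s * (s * (s * p * s⁻¹) * s⁻¹) * s⁻¹ := by
              rw [pow_succ, pow_two]; group
          _ = p := by rw [hSp y hy, hSW y hy, ← hp, h1]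
    obtain ⟨h1, -⟩ := hfix w hw
    obtain ⟨-, h2⟩ := hfix y hy
    rw [← hw'e] at h2
    refine mul_inv_eq_iff_eq_mul.1 ?_
    calc s ^ 3 * (w * w') * (s ^ 3)⁻¹ = s ^ 3 * w * (s ^ 3)⁻¹ * (s ^ 3 * w' * (s ^ 3)⁻¹) := by group
      _ = w * w' := by rw [h1, h2]
  have hsn : s ∉ Q := by
    intro hm
    obtain ⟨⟨y, hy⟩, hy1'⟩ := Subgroup.ne_bot_iff_exists_ne_one.1 (o.W_ne_bot h)
    have hy1 : y ≠ 1 := fun e => hy1' (Subtype.ext e)
    have h1 := hSW y hy
    rw [o.cenV s hm y hy.2, mul_inv_cancel_right] at h1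
    exact hy1 (conj_eq_one_iff.1 (left_eq_mul.1 h1))
  have hs1 : s ≠ 1 := fun e => hsn (e ▸ one_mem Q)
  refine ⟨?_, hs1⟩
  by_contra hu
  obtain ⟨k, m, -, -, hodd⟩ := Invol.JComp.exists_two_pow_mul_odd s
  rcases eq_or_ne (s ^ 2 ^ k) 1 with e | e
  · obtain ⟨n, -, hn⟩ := (Nat.dvd_prime_pow Nat.prime_two).1 (orderOf_dvd_of_pow_eq_one e)
    exact hsn (mem_of_two_pow_odd hn (by decide : Odd 3) hcube)
  · exact hu (h.fpf o.hQ hodd e hcube (Commute.pow_pow_self s _ _))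

/-- The offender meets the core only in the fixed subgroup. -/
theorem inf_core : A ⊓ Q = A ⊓ V := by
  obtain ⟨x, hx, hne⟩ := o.exists_other h
  obtain ⟨z, hz, a₀, ha₀, a, ha, -, -, -, -, -, hs3, hs1⟩ := o.exists_triangle h hx hne
  set t := z * a₀ * z⁻¹ with ht
  have htA : t ∈ cj z A := conj_mem_cj ha₀
  set s := a * t with hs
  have hso : Odd (orderOf s) := by
    haveI := Fact.mk Nat.prime_three
    rw [orderOf_eq_prime hs3 hs1]; decide
  have hsN : s ∈ normalizer (Q : Set G) :=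
    o.LQ (mul_mem (o.AL ha) (mul_mem (mul_mem hz (o.AL ha₀)) (inv_mem hz)))
  have hprod : ∀ q ∈ Q, q * (s * q * s⁻¹) * (s * (s * q * s⁻¹) * s⁻¹) = 1 := by
    intro q hq
    obtain ⟨j, -, hje⟩ := h.exists_inv_mul_conj o.hQ hso hs1 hsN hq
    calc q * (s * q * s⁻¹) * (s * (s * q * s⁻¹) * s⁻¹) = (q * s) ^ 3 * (s ^ 3)⁻¹ := by
          simp only [pow_succ, pow_zero, one_mul]; group
      _ = (j⁻¹ * s * j) ^ 3 * (s ^ 3)⁻¹ := by rw [← hje]; group
      _ = j⁻¹ * s ^ 3 * j * (s ^ 3)⁻¹ := by simp only [pow_succ, pow_zero, one_mul]; group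
      _ = 1 := by rw [hs3]; group
  have hcomm : ∀ q ∈ Q, q * (s * q * s⁻¹) = s * q * s⁻¹ * q := by
    intro q hq
    have h2 := hprod q⁻¹ (inv_mem hq)
    have h1 := hprod q hq
    set p := s * q * s⁻¹ with hp
    set r := s * p * s⁻¹ with hr
    have hr1 : r = (q * p)⁻¹ := eq_inv_of_mul_eq_one_right h1
    have h2' : q⁻¹ * p⁻¹ * r⁻¹ = 1 := by
      have e : q⁻¹ * (s * q⁻¹ * s⁻¹) * (s * (s * q⁻¹ * s⁻¹) * s⁻¹) = q⁻¹ * p⁻¹ * r⁻¹ := by
        rw [hr, hp]; group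
      rw [← e]; exact h2
    rw [hr1, inv_inv] at h2'
    calc q * p = p * q * (q⁻¹ * p⁻¹ * (q * p)) := by group
      _ = p * q := by rw [h2', mul_one]
  set C := cj z (A ⊓ Q) with hC
  have hCQ : C ≤ Q := (cj_mono inf_le_right).trans (cj_eq_self (o.LQ hz)).le
  have hCA : C ≤ cj z A := cj_mono inf_le_left
  have hEl : El C := (o.max.2.1.mono inf_le_left).cj z
  have ha2 : a * a = 1 := o.max.2.1.2 a ha
  have hai : a⁻¹ = a := o.max.2.1.inv_eq ha
  have hsd : ∀ d ∈ C, s * d * s⁻¹ = a * d * a⁻¹ := fun d hd => by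
    have htd : t * d = d * t := (o.max.2.1.cj z).1 t htA d (hCA hd)
    rw [hs, show a * t * d * (a * t)⁻¹ = a * (t * d) * t⁻¹ * a⁻¹ by group, htd]; group
  have hcross : ∀ d ∈ C, ∀ e ∈ C, d * (a * e * a⁻¹) = a * e * a⁻¹ * d := by
    have hrd : ∀ d ∈ C, s * (s * d * s⁻¹) * s⁻¹ = d * (a * d * a⁻¹) := by
      intro d hd
      have h1 := hprod d (hCQ hd)
      rw [eq_inv_of_mul_eq_one_right h1, hsd d hd]
      have hc := hcomm d (hCQ hd)
      rw [hsd d hd] at hc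
      refine inv_eq_of_mul_eq_one_right ?_
      calc d * (a * d * a⁻¹) * (d * (a * d * a⁻¹))
          = d * (a * d * a⁻¹) * (a * d * a⁻¹ * d) := by rw [← hc]
        _ = d * (a * (d * d) * a⁻¹) * d := by group
        _ = 1 := by rw [hEl.2 d hd, mul_one, mul_inv_cancel, mul_one, hEl.2 d hd]
    intro d hd e he
    have h1 := hrd (e * d) (mul_mem he hd)
    rw [show s * (s * (e * d) * s⁻¹) * s⁻¹ = s * (s * e * s⁻¹) * s⁻¹ * (s * (s * d * s⁻¹) * s⁻¹) by group,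
      hrd d hd, hrd e he] at h1
    -- `e * ê * (d * d̂) = (e * d) * (ê * d̂)`
    have h2 : a * e * a⁻¹ * d * (a * d * a⁻¹) = d * (a * e * a⁻¹) * (a * d * a⁻¹) := by
      refine mul_left_cancel (a := e) ?_
      calc e * (a * e * a⁻¹ * d * (a * d * a⁻¹)) = e * (a * e * a⁻¹) * (d * (a * d * a⁻¹)) := by group
        _ = e * d * (a * (e * d) * a⁻¹) := h1
        _ = e * (d * (a * e * a⁻¹) * (a * d * a⁻¹)) := by group
    exact (mul_right_cancel h2).symm
  have hEl' : El (cj a C) := hEl.cj a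
  have hc' : ∀ d ∈ C, ∀ e ∈ cj a C, d * e = e * d := by
    rintro d hd _ ⟨e, he, rfl⟩
    exact hcross d hd e he
  have hdisj : C ⊓ cj a C = ⊥ := by
    rw [eq_bot_iff]
    intro e he
    rw [mem_bot]
    have h1 : t * e = e * t := (o.max.2.1.cj z).1 t htA e (hCA he.1)
    have h2 : t * (a⁻¹ * e * a) = a⁻¹ * e * a * t :=
      (o.max.2.1.cj z).1 t htA _ (hCA (mem_cj.1 he.2))
    have h3 : Commute (s * s) e := by
      show s * s * e = e * (s * s)
      calc s * s * e = a * t * a * (t * e) := by rw [hs]; group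
        _ = a * t * a * e * t := by rw [h1]; group
        _ = a * (t * (a⁻¹ * e * a)) * a⁻¹ * t := by
          calc a * t * a * e * t = a * t * a⁻¹ * e * t := by rw [hai]
            _ = _ := by group
        _ = e * (a * t * a⁻¹ * t) := by rw [h2]; group
        _ = e * (s * s) := by rw [hs, hai]; group
    have h4 : Commute s e := by
      have h5 : s * s * (s * s) = s := by
        calc s * s * (s * s) = s ^ 3 * s := by rw [pow_succ, pow_two]; group
          _ = s := by rw [hs3, one_mul]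
      have := h3.mul_left h3
      rwa [h5] at this
    exact h.fpf o.hQ hso hs1 (hCQ he.1) h4
  have hb : C ⊔ cj a C ≤ R := (sup_le hCQ ((cj_mono hCQ).trans (cj_eq_self (o.LQ (o.AL ha))).le)).trans o.QR
  have h1 := o.max.2.2 _ hb (hEl.sup hEl' hc')
  have h2 := Grp.card_sup_mul_card_inf (le_normalizer_of_commute hc')
  rw [hdisj, Subgroup.card_bot, mul_one, card_cj, hC, card_cj] at h2
  rw [hC] at h1
  rw [h2] at h1
  obtain ⟨v₀, hv₀, hv₀W⟩ := o.exists_notMem h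
  rw [(o.offender_data h hv₀ hv₀W).1] at h1
  have hle : A ⊓ V ≤ A ⊓ Q := inf_le_inf_left _ o.VQ
  rw [card_cj] at h1
  exact (Subgroup.eq_of_le_of_card_ge hle (Nat.le_of_mul_le_mul_right h1 Nat.card_pos)).symm

theorem card_A : Nat.card A = Nat.card V := by
  obtain ⟨v₀, hv₀, hv₀W⟩ := o.exists_notMem h
  rw [(o.offender_data h hv₀ hv₀W).1, o.inf_core h, o.card_V h]

/-- The involutions of the core lie in `V`. -/
theorem invol_core {q : G} (hq : q ∈ Q) (hq2 : q * q = 1) : q ∈ V := by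
  have hM : MaxEl R V := ⟨o.VQ.trans o.QR, o.hV, fun B hB hE => (o.max.2.2 B hB hE).trans (o.card_A h).le⟩
  exact hM.mem_of_commute (o.QR hq) hq2 fun v hv => (o.cenV q hq v hv).symm

/-- The core is elementary abelian as soon as some elementary abelian normal subgroup of the Sylow subgroup
lies outside it. -/
theorem core_eq {B : Subgroup G} (hBR : B ≤ R) (hB : El B) (hRB : R ≤ normalizer (B : Set G))
    (hBQ : ¬ B ≤ Q) : Q = V := by
  classical
  obtain ⟨b, hb, hbn⟩ := SetLike.not_le_iff_exists.1 hBQ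
  have hbAQ : b ∈ A ⊔ Q := o.R_eq h ▸ hBR hb
  have hBW : ∀ q ∈ Q, q ∈ B → q ∈ A ⊓ V := fun q hq hqB =>
    o.fixed_mem' h hbAQ hbn (o.invol_core h hq (hB.2 q hqB)) (hB.1 b hb q hqB)
  set C := (Q ⊓ Subgroup.centralizer ({b} : Set G)).subgroupOf Q with hC
  have hbL := o.RL (hBR hb)
  let f : Q → ↥(A ⊓ V) := fun q => ⟨(q : G) * b * (q : G)⁻¹ * b⁻¹, hBW _
    (by
      rw [show (q : G) * b * (q : G)⁻¹ * b⁻¹ = (q : G) * (b * (q : G)⁻¹ * b⁻¹) by group]
      exact Q.mul_mem q.2 ((mem_normalizer_iff.1 (o.LQ hbL) _).1 (inv_mem q.2)))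
    (B.mul_mem ((mem_normalizer_iff.1 (hRB (o.QR q.2)) b).1 hb) (inv_mem hb))⟩
  have hinj : Function.Injective fun c : Q ⧸ C => f c.out := by
    intro c d e
    have e' : (c.out : G) * b * (c.out : G)⁻¹ = d.out * b * (d.out : G)⁻¹ :=
      mul_right_cancel (congrArg Subtype.val e)
    rw [← QuotientGroup.out_eq' c, ← QuotientGroup.out_eq' d, QuotientGroup.eq]
    show (((c.out)⁻¹ * d.out : Q) : G) ∈ Q ⊓ Subgroup.centralizer ({b} : Set G)
    rw [mem_inf, mem_centralizer_singleton_iff]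
    refine ⟨SetLike.coe_mem _, ?_⟩
    push_cast
    calc (c.out : G)⁻¹ * d.out * b
        = (c.out : G)⁻¹ * ((d.out : G) * b * (d.out : G)⁻¹) * d.out := by group
      _ = b * ((c.out : G)⁻¹ * d.out) := by rw [← e']; group
  have h1 : C.index ≤ Nat.card ↥(A ⊓ V) := by
    rw [index_eq_card]; exact Nat.card_le_card_of_injective _ hinj
  have h2 := o.centralizer_sq_le h o.hQ o.LQ hbL hbn (by rw [hB.2 b hb]; exact one_mem Q)
  have h3 : Nat.card C = Nat.card ↥(Q ⊓ Subgroup.centralizer ({b} : Set G)) :=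
    Nat.card_congr (subgroupOfEquivOfLe inf_le_left).toEquiv
  have h4 := C.card_mul_index
  rw [h3] at h4
  have h5 : Nat.card ↥(Q ⊓ Subgroup.centralizer ({b} : Set G)) ≤ C.index :=
    Nat.le_of_mul_le_mul_left (h2.trans_eq h4.symm) Nat.card_pos
  refine (Subgroup.eq_of_le_of_card_ge o.VQ ?_).symm
  rw [← h4, o.card_V h]
  exact Nat.mul_le_mul (h5.trans h1) h1

/-- The stabiliser of two conjugates is inverted by an element exchanging them. -/
theorem inverts {x t : G} (hx : x ∈ L) (hne : cj x (A ⊓ V) ≠ A ⊓ V) (ht : t ∈ L) (ht2 : t * t = 1)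
    (htW : cj t (A ⊓ V) = cj x (A ⊓ V)) (htW' : cj t (cj x (A ⊓ V)) = A ⊓ V) {k : L}
    (hkW : (k : G) ∈ normalizer ((A ⊓ V : Subgroup G) : Set G))
    (hkW' : (k : G) ∈ normalizer ((cj x (A ⊓ V) : Subgroup G) : Set G)) :
    o.act ⟨t, ht⟩ * o.act k * (o.act ⟨t, ht⟩)⁻¹ = (o.act k)⁻¹ := by
  set K' : Subgroup L := ((normalizer ((A ⊓ V : Subgroup G) : Set G)) ⊓
    normalizer ((cj x (A ⊓ V) : Subgroup G) : Set G)).subgroupOf L with hK'
  set Kb := K'.map o.act with hKb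
  set T : L := ⟨t, ht⟩
  have hTK : ∀ g ∈ Kb, o.act T * g * (o.act T)⁻¹ ∈ Kb := by
    rintro _ ⟨j, hj, rfl⟩
    refine ⟨T * j * T⁻¹, ?_, by rw [map_mul, map_mul, map_inv]⟩
    exact ⟨swap_mem_normalizer ht2 htW' htW hj.2, swap_mem_normalizer ht2 htW htW' hj.1⟩
  have htn : t ∉ Q := by
    intro hm
    refine hne (htW ▸ cj_eq_self (mem_normalizer_fintype fun s hs => ?_))
    show t * s * t⁻¹ ∈ A ⊓ V
    rw [o.cenV t hm s hs.2, mul_inv_cancel_right]
    exact hs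
  let φ : Kb →* Kb := ((MulAut.conj (o.act T)).toMonoidHom.comp Kb.subtype).codRestrict Kb
    fun g => hTK g g.2
  have hφ : ∀ g : Kb, ((φ g : Kb) : MulAut V) = o.act T * g * (o.act T)⁻¹ := fun _ => rfl
  have hfix : MonoidHom.FixedPointFree φ := by
    rintro ⟨_, j, hj, rfl⟩ e
    have e' : o.act T * o.act j * (o.act T)⁻¹ = o.act j := congrArg Subtype.val e
    have hQ' : (j : G) * t * (j : G)⁻¹ * t⁻¹ ∈ Q := by
      have : o.act (j * T * j⁻¹ * T⁻¹) = 1 := by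
        rw [map_mul, map_mul, map_mul, map_inv, map_inv, ← mul_inv_eq_iff_eq_mul.1 e',
          mul_inv_cancel_right, mul_inv_cancel]
      exact (o.act_eq_one h).1 this
    obtain ⟨n, hn⟩ := h.two_pow_of_comm o.hQ (o.LQ ht) htn (k := 1)
      (by rw [pow_one, pow_two, ht2]; exact one_mem Q) (o.LQ j.2) hQ'
    exact Subtype.ext ((o.act_eq_one h).2 (o.mem_core_of_two h hx hne j.2 hj.1 hj.2 hn))
  have hTT : o.act T * o.act T = 1 := o.act_sq h ht (by rw [ht2]; exact one_mem Q)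
  have hinvol : Function.Involutive φ := fun g => Subtype.ext (by
    rw [hφ, hφ, show o.act T * (o.act T * g * (o.act T)⁻¹) * (o.act T)⁻¹ =
      o.act T * o.act T * g * (o.act T * o.act T)⁻¹ by group, hTT, one_mul, inv_one, mul_one])
  have := congrFun (hfix.coe_eq_inv_of_involutive hinvol) ⟨_, k, ⟨hkW, hkW'⟩, rfl⟩
  exact congrArg Subtype.val this

/-- The stabiliser of two conjugates acts as an abelian group. -/
theorem commute_stab {x : G} (hx : x ∈ L) (hne : cj x (A ⊓ V) ≠ A ⊓ V) {k k' : L}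
    (hkW : (k : G) ∈ normalizer ((A ⊓ V : Subgroup G) : Set G))
    (hkW' : (k : G) ∈ normalizer ((cj x (A ⊓ V) : Subgroup G) : Set G))
    (hjW : (k' : G) ∈ normalizer ((A ⊓ V : Subgroup G) : Set G))
    (hjW' : (k' : G) ∈ normalizer ((cj x (A ⊓ V) : Subgroup G) : Set G)) :
    Commute (o.act k) (o.act k') := by
  obtain ⟨z, hz, a, ha, -, h1, h2⟩ := o.exists_swap h hx hne
  have htL : z * a * z⁻¹ ∈ L := mul_mem (mul_mem hz (o.AL ha)) (inv_mem hz)
  have ht2 : z * a * z⁻¹ * (z * a * z⁻¹) = 1 := by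
    rw [show z * a * z⁻¹ * (z * a * z⁻¹) = z * (a * a) * z⁻¹ by group, o.max.2.1.2 a ha, mul_one,
      mul_inv_cancel]
  have e1 := o.inverts h hx hne htL ht2 h1 h2 hkW hkW'
  have e2 := o.inverts h hx hne htL ht2 h1 h2 hjW hjW'
  have e3 := o.inverts h hx hne htL ht2 h1 h2 (k := k * k') (mul_mem hkW hjW) (mul_mem hkW' hjW')
  set T := o.act ⟨_, htL⟩
  rw [map_mul] at e3
  have e4 : (o.act k * o.act k')⁻¹ = (o.act k)⁻¹ * (o.act k')⁻¹ := by
    rw [← e3, ← e1, ← e2]; group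
  rw [mul_inv_rev] at e4
  show _ * _ = _ * _
  have := congrArg (·⁻¹) e4
  simpa using this

end Off

end Cfsg.Agent.Transfer.CIT
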