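import Mathlib
import Cfsg.Agent.Lib.Transfer.CIT.Triangle

/-!
Two offender configurations sharing their Sylow 2-subgroup: the fixed subgroup has order at most four.
-/

set_option autoImplicit false
set_option linter.style.haveILetI false
set_option linter.unusedSectionVars false

open scoped Pointwise

universe u

namespace Cfsg.Agent.Transfer.CIT

open Cfsg.Agent Subgroup

/-- A regular abelian group of automorphisms intertwined with the inverse of its square. -/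
theorem card_le_four {W : Type*} [CommGroup W] [Finite W] (hW : ∀ y : W, y * y = 1) (H : Subgroup (MulAut W))
    (hcomm : ∀ a ∈ H, ∀ b ∈ H, a * b = b * a)
    (htr : ∀ y z : W, y ≠ 1 → z ≠ 1 → ∃ a ∈ H, a y = z)
    (hfree : ∀ a ∈ H, ∀ y : W, y ≠ 1 → a y = y → a = 1)
    (θ : W →* W) (hθ : Function.Surjective θ)
    (hθe : ∀ a ∈ H, ∀ y, θ (a y) = (a⁻¹ * a⁻¹) (θ y)) : Nat.card W ≤ 4 := by
  classical
  rcases subsingleton_or_nontrivial W with hs | hnt
  · rw [Nat.card_of_subsingleton (1 : W)]; norm_num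
  obtain ⟨y₀, hy₀⟩ := exists_ne (1 : W)
  have key : ∀ a ∈ H, a ≠ 1 → ∃ b ∈ H, ∀ y, y * a y = b y := by
    intro a ha ha1
    have hne : y₀ * a y₀ ≠ 1 := fun e => ha1 (hfree a ha y₀ hy₀
      ((eq_inv_of_mul_eq_one_right e).trans (inv_eq_of_mul_eq_one_right (hW y₀))))
    obtain ⟨b, hb, hbe⟩ := htr y₀ _ hy₀ hne
    refine ⟨b, hb, fun y => ?_⟩
    rcases eq_or_ne y 1 with rfl | hy
    · rw [map_one, map_one, one_mul]
    obtain ⟨j, hj, rfl⟩ := htr y₀ y hy₀ hy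
    rw [show b (j y₀) = (b * j) y₀ from rfl, hcomm b hb j hj, show (j * b) y₀ = j (b y₀) from rfl, hbe,
      map_mul, show a (j y₀) = (a * j) y₀ from rfl, hcomm a ha j hj]
    rfl
  have sq : ∀ a ∈ H, a ≠ 1 → ∀ y, y * a y = a (a y) := by
    intro a ha ha1
    obtain ⟨b, hb, hbe⟩ := key a ha ha1
    have h1 : ∀ y, y * (a⁻¹ * a⁻¹) y = (b⁻¹ * b⁻¹) y := fun y => by
      obtain ⟨x, rfl⟩ := hθ y
      rw [← hθe a ha, ← map_mul, hbe, hθe b hb]
    have h2 : ∀ y, (b * b) y = y * a (a y) := fun y => by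
      rw [show (b * b) y = b (b y) from rfl, ← hbe (b y), show a (b y) = (a * b) y from rfl, hcomm a ha b hb,
        show (b * a) y = b (a y) from rfl, ← hbe, ← hbe]
      calc y * a y * (a y * a (a y)) = y * (a y * a y) * a (a y) := by group
        _ = y * a (a y) := by rw [hW, mul_one]
    have h3 : ∀ y, a (a (a (a y))) = y * a (a y) := by
      intro y
      have e : y = (a⁻¹ * a⁻¹) y * a (a y) := by
        have e1 := h1 ((b * b) y)
        rw [show (b⁻¹ * b⁻¹) ((b * b) y) = ((b⁻¹ * b⁻¹) * (b * b)) y from rfl,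
          show b⁻¹ * b⁻¹ * (b * b) = 1 by group, MulAut.one_apply, h2, map_mul,
          show (a⁻¹ * a⁻¹) (a (a y)) = ((a⁻¹ * a⁻¹) * (a * a)) y from rfl,
          show a⁻¹ * a⁻¹ * (a * a) = 1 by group, MulAut.one_apply] at e1
        calc y = y * a (a y) * ((a⁻¹ * a⁻¹) y * y) := e1.symm
          _ = (a⁻¹ * a⁻¹) y * a (a y) * (y * y) := by ac_rfl
          _ = (a⁻¹ * a⁻¹) y * a (a y) := by rw [hW, mul_one]
      have e2 := congrArg (fun t => a (a t)) e
      simp only [map_mul] at e2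
      rw [show a (a ((a⁻¹ * a⁻¹) y)) = ((a * a) * (a⁻¹ * a⁻¹)) y from rfl,
        show a * a * (a⁻¹ * a⁻¹) = 1 by group, MulAut.one_apply] at e2
      calc a (a (a (a y))) = a (a (a (a y))) * (y * y) := by rw [hW, mul_one]
        _ = y * (y * a (a (a (a y)))) := by ac_rfl
        _ = y * a (a y) := by rw [← e2]
    have hc : a * a * a = 1 := by
      -- `a ^ 6 = 1`, and no element of order two
      have h6 : ∀ y, (a * a * a) ((a * a * a) y) = y := by
        intro y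
        show a (a (a (a (a (a y))))) = y
        rw [h3]
        have := congrArg (fun t => a (a t)) (h3 y)
        simp only [map_mul] at this
        calc a (a y) * a (a (a (a y))) = a (a y) * (y * a (a y)) := by rw [h3]
          _ = y * (a (a y) * a (a y)) := by ac_rfl
          _ = y := by rw [hW, mul_one]
      set c := a * a * a
      have hcH : c ∈ H := mul_mem (mul_mem ha ha) ha
      have hfix : c (y₀ * c y₀) = y₀ * c y₀ := by rw [map_mul, h6, mul_comm]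
      by_cases e : y₀ * c y₀ = 1
      · exact hfree c hcH y₀ hy₀ ((eq_inv_of_mul_eq_one_right e).trans (inv_eq_of_mul_eq_one_right (hW y₀)))
      · exact hfree c hcH _ e hfix
    intro y
    have h4 : a (a (a (a y))) = a y := by
      rw [show a (a (a (a y))) = (a * a * a) (a y) from rfl, hc, MulAut.one_apply]
    have h5 := h3 y
    rw [h4] at h5
    calc y * a y = y * (y * a (a y)) := congrArg (y * ·) h5
      _ = y * y * a (a y) := by ac_rfl
      _ = a (a y) := by rw [hW, one_mul]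
  have huniq : ∀ a ∈ H, ∀ b ∈ H, a ≠ 1 → b ≠ 1 → a * b ≠ 1 → a = b := by
    intro a ha b hb ha1 hb1 hab
    refine MulEquiv.ext fun y => ?_
    have e := sq (a * b) (mul_mem ha hb) hab y
    have e2 : (a * b) ((a * b) y) = a (a (b (b y))) := by
      rw [show (a * b) ((a * b) y) = a ((b * a) (b y)) from rfl, hcomm b hb a ha]
      rfl
    rw [e2, ← sq b hb hb1, map_mul, map_mul, ← sq a ha ha1, ← sq a ha ha1 (b y)] at e
    have e3 : a y * b y = 1 := by
      have e' : y * (a (b y)) = y * a y * (b y * a (b y)) := e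
      have := mul_left_cancel (show y * (a (b y)) = y * (a y * b y * a (b y)) by rw [e']; ac_rfl)
      exact (right_eq_mul.1 this)
    exact (eq_inv_of_mul_eq_one_left e3).trans (inv_eq_of_mul_eq_one_right (hW (b y)))
  have hH : Nat.card H ≤ 3 := by
    haveI : Finite H := Finite.of_injective (fun a : H => fun y => (a : MulAut W) y)
      (fun a b e => Subtype.ext (MulEquiv.ext (congrFun e)))
    by_cases hall : ∀ a ∈ H, a = 1
    · rw [(eq_bot_iff_forall H).2 hall, Subgroup.card_bot]; norm_num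
    push Not at hall
    obtain ⟨a, ha, ha1⟩ := hall
    have hsub : (H : Set (MulAut W)) ⊆ {1, a, a⁻¹} := by
      intro b hb
      simp only [Set.mem_insert_iff, Set.mem_singleton_iff]
      by_cases hb1 : b = 1
      · exact Or.inl hb1
      by_cases hab : a * b = 1
      · exact Or.inr (Or.inr (eq_inv_of_mul_eq_one_right hab))
      · exact Or.inr (Or.inl (huniq a ha b hb ha1 hb1 hab).symm)
    calc Nat.card H = (H : Set (MulAut W)).ncard := Nat.card_coe_set_eq _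
      _ ≤ ({1, a, a⁻¹} : Set (MulAut W)).ncard := Set.ncard_le_ncard hsub
      _ ≤ 3 := by
        refine (Set.ncard_insert_le _ _).trans (Nat.succ_le_succ ((Set.ncard_insert_le _ _).trans ?_))
        simp
  haveI : Finite H := Finite.of_injective (fun a : H => fun y => (a : MulAut W) y)
    (fun a b e => Subtype.ext (MulEquiv.ext (congrFun e)))
  have hle : Nat.card W ≤ Nat.card (Option H) := by
    refine Nat.card_le_card_of_surjective (fun o : Option H => o.elim 1 (fun a => (a : MulAut W) y₀)) ?_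
    intro y
    rcases eq_or_ne y 1 with rfl | hy
    · exact ⟨none, rfl⟩
    · obtain ⟨a, ha, e⟩ := htr y₀ y hy₀ hy
      exact ⟨some ⟨a, ha⟩, e⟩
  rw [Finite.card_option] at hle
  omega

variable {G : Type u} [Group G] [Finite G] {L L' V R A : Subgroup G}

/-- Elementary abelian subgroups of the Sylow subgroup lie in one of its two distinguished ones. -/
theorem Off.el_cases (h : IsCIT G) (o : Off L V V R A) {B : Subgroup G} (hBR : B ≤ R) (hB : El B) :
    B ≤ V ∨ B ≤ A := by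
  have hinv : ∀ x ∈ R, x * x = 1 → x ∈ V ∨ x ∈ A := by
    intro x hx hx2
    rw [o.R_eq h, ← SetLike.mem_coe, coe_mul_of_left_le_normalizer_right _ _ (o.AL.trans o.LV)] at hx
    obtain ⟨a, ha, v, hv, rfl⟩ := hx
    by_cases haV : a ∈ V
    · exact Or.inl (mul_mem haV hv)
    · refine Or.inr (mul_mem ha (o.fixed_mem h ha haV hv ?_).1)
      calc a * v = (a * v) * (a * v) * v⁻¹ * a⁻¹ := by group
        _ = v⁻¹ * a⁻¹ := by rw [hx2, one_mul]
        _ = v * a := by rw [o.hV.inv_eq hv, o.max.2.1.inv_eq ha]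
  by_contra hne
  rw [not_or] at hne
  obtain ⟨b, hb, hbV⟩ := SetLike.not_le_iff_exists.1 hne.1
  obtain ⟨c, hc, hcA⟩ := SetLike.not_le_iff_exists.1 hne.2
  have hbA := (hinv b (hBR hb) (hB.2 b hb)).resolve_left hbV
  have hcV := (hinv c (hBR hc) (hB.2 c hc)).resolve_right hcA
  exact hcA (o.fixed_mem h hbA hbV hcV (hB.1 b hb c hc)).1

theorem Off.A_norm (h : IsCIT G) (o : Off L V V R A) : R ≤ normalizer (A : Set G) :=
  (o.R_eq h).le.trans (sup_le le_normalizer o.VA)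

theorem Off.stab_norm_A (h : IsCIT G) (o : Off L V V R A) {k : G} (hk : k ∈ L)
    (hkW : k ∈ normalizer ((A ⊓ V : Subgroup G) : Set G)) : k ∈ normalizer (A : Set G) := by
  have hR : k ∈ normalizer (R : Set G) := by
    rw [o.R_eq h]; exact o.mem_norm_AQ_of h hk hkW
  rcases o.el_cases h ((cj_mono o.max.1).trans (cj_eq_self hR).le) (o.max.2.1.cj k) with e | e
  · exfalso
    have e' : cj k A = cj k V := by
      rw [cj_eq_self (o.LV hk)]
      exact Subgroup.eq_of_le_of_card_ge e (by rw [card_cj, o.card_A h])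
    have := congrArg (cj k⁻¹) e'
    rw [cj_inv_cj, cj_inv_cj] at this
    exact o.notle this.le
  · exact mem_normalizer_of_cj_le e

/-- Two linked configurations have fixed subgroup of order at most four. -/
theorem Off.card_W_le_four (h : IsCIT G) (o : Off L V V R A) (o' : Off L' A A R V)
    (hL' : normalizer (A : Set G) ≤ L') : Nat.card ↥(A ⊓ V) ≤ 4 := by
  classical
  set W := A ⊓ V with hWdef
  have hW' : V ⊓ A = W := inf_comm V A
  have hWel : El W := o.hV.mono inf_le_right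
  letI : CommGroup W := { (inferInstance : Group W) with
    mul_comm := fun a b => Subtype.ext (hWel.1 a a.2 b b.2) }
  obtain ⟨x, hx, hne⟩ := o.exists_other h
  obtain ⟨x', hx', hne'⟩ := o'.exists_other h
  obtain ⟨z, hz, a₀, ha₀, a, ha, -, hna, htW, htW', tri, -, -⟩ := o.exists_triangle h hx hne
  set t := z * a₀ * z⁻¹ with ht
  have htL : t ∈ L := mul_mem (mul_mem hz (o.AL ha₀)) (inv_mem hz)
  have conj_sq : ∀ {B : Subgroup G} (p q : G), El B → q ∈ B → p * q * p⁻¹ * (p * q * p⁻¹) = 1 :=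
    fun {B} p q hB hq => by rw [conj_mul, hB.2 q hq, mul_one, mul_inv_cancel]
  have htt : t * t = 1 := conj_sq z a₀ o.max.2.1 ha₀
  obtain ⟨z', hz', b₀, hb₀, -, hsW, hsW'⟩ := o'.exists_swap h hx' hne'
  rw [hW'] at hne' hsW hsW'
  set s := z' * b₀ * z'⁻¹ with hs
  have hsL : s ∈ L' := mul_mem (mul_mem hz' (o'.AL hb₀)) (inv_mem hz')
  have hss : s * s = 1 := conj_sq z' b₀ o'.max.2.1 hb₀
  set N := normalizer (W : Set G)
  set S := L ⊓ L' ⊓ N ⊓ normalizer ((cj x W : Subgroup G) : Set G) ⊓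
    normalizer ((cj x' W : Subgroup G) : Set G) with hS
  set ψ := W.normalizerMonoidHom
  set H := (S.subgroupOf N).map ψ with hH
  -- the stabiliser is transitive
  have htrans : ∀ y ∈ W, ∀ w ∈ W, y ≠ 1 → w ≠ 1 → ∃ k ∈ S, k * y * k⁻¹ = w := by
    intro y hy w hw hy1 hw1
    obtain ⟨k, hk, hkW, hkW', hke⟩ := o.exists_trans_W h hx hne hy hy1 hw hw1
    have hkA := o.stab_norm_A h hk hkW
    obtain ⟨v, hv, h1, h2, h3⟩ := o'.decomp_N h hx' (by rwa [hW']) (hL' hkA) (by rwa [hW'])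
    rw [hW'] at h2 h3
    refine ⟨v⁻¹ * k, ⟨⟨⟨⟨L.mul_mem (L.inv_mem (o.QL hv)) hk, h1⟩, h2⟩, ?_⟩, h3⟩, ?_⟩
    · refine Subgroup.mul_mem _ (Subgroup.inv_mem _ (mem_normalizer_fintype fun u hu => ?_)) hkW'
      show v * u * v⁻¹ ∈ cj x W
      rw [o.cenV v hv u (o.cj_W_le_V h hx hu), mul_inv_cancel_right]
      exact hu
    · calc v⁻¹ * k * y * (v⁻¹ * k)⁻¹ = v⁻¹ * (k * y * k⁻¹) * v := by group
        _ = w := by rw [hke, o.cenV v⁻¹ (inv_mem hv) w hw.2, inv_mul_cancel_right]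
  have hS' : ∀ k ∈ S, k ∈ L ∧ k ∈ L' ∧ k ∈ N ∧ k ∈ normalizer ((cj x W : Subgroup G) : Set G) ∧
      k ∈ normalizer ((cj x' W : Subgroup G) : Set G) :=
    fun k hk => ⟨hk.1.1.1.1, hk.1.1.1.2, hk.1.1.2, hk.1.2, hk.2⟩
  have hcommW : ∀ j k, j ∈ L → k ∈ L → j ∈ N → j ∈ normalizer ((cj x W : Subgroup G) : Set G) →
      k ∈ N → k ∈ normalizer ((cj x W : Subgroup G) : Set G) →
      ∀ v ∈ V, j * (k * v * k⁻¹) * j⁻¹ = k * (j * v * j⁻¹) * k⁻¹ := by
    intro j k hj hk hjW hjW' hkW hkW' v hv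
    have e := (o.commute_stab h hx hne (k := ⟨j, hj⟩) (k' := ⟨k, hk⟩) hjW hjW' hkW hkW').eq
    rw [← map_mul, ← map_mul] at e
    have := o.act_eq_iff.1 e v hv
    calc j * (k * v * k⁻¹) * j⁻¹ = j * k * v * (j * k)⁻¹ := by group
      _ = k * j * v * (k * j)⁻¹ := this
      _ = k * (j * v * j⁻¹) * k⁻¹ := by group
  have hinv : ∀ k, k ∈ L → k ∈ N → k ∈ normalizer ((cj x W : Subgroup G) : Set G) →
      ∀ v ∈ V, t * (k * (t * v * t⁻¹) * k⁻¹) * t⁻¹ = k⁻¹ * v * k := by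
    intro k hk hkW hkW' v hv
    have e := o.inverts h hx hne htL htt htW htW' (k := ⟨k, hk⟩) hkW hkW'
    rw [← map_inv, ← map_mul, ← map_mul, ← map_inv] at e
    have e' : t * k * t⁻¹ * v * (t * k * t⁻¹)⁻¹ = k⁻¹ * v * k⁻¹⁻¹ := o.act_eq_iff.1 e v hv
    calc t * (k * (t * v * t⁻¹) * k⁻¹) * t⁻¹ = t * k * t * v * (t * k * t)⁻¹ := by group
      _ = t * k * t⁻¹ * v * (t * k * t⁻¹)⁻¹ := by rw [inv_eq_of_mul_eq_one_right htt]
      _ = k⁻¹ * v * k := by rw [e', inv_inv]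
  have hmove : ∀ k, k ∈ L → k ∈ N → k ∈ normalizer ((cj x W : Subgroup G) : Set G) →
      ∀ v ∈ V, k * (t * v * t⁻¹) * k⁻¹ = t * (k⁻¹ * v * k) * t⁻¹ := by
    intro k hk hkW hkW' v hv
    calc k * (t * v * t⁻¹) * k⁻¹ = t * (t * (k * (t * v * t⁻¹) * k⁻¹) * t⁻¹) * t⁻¹ := by
          rw [show t * (t * (k * (t * v * t⁻¹) * k⁻¹) * t⁻¹) * t⁻¹ =
            t * t * (k * (t * v * t⁻¹) * k⁻¹) * (t * t)⁻¹ by group, htt, one_mul, inv_one, mul_one]
      _ = t * (k⁻¹ * v * k) * t⁻¹ := by rw [hinv k hk hkW hkW' v hv]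
  -- commutation with a fixed element of the second conjugate
  obtain ⟨⟨x₀, hx₀⟩, hx₀1'⟩ := Subgroup.ne_bot_iff_exists_ne_one.1 (o.W_ne_bot h)
  have hx₀1 : x₀ ≠ 1 := fun e => hx₀1' (Subtype.ext e)
  set p₀ := t * x₀ * t⁻¹ with hp₀
  have hp₀' : p₀ ∈ cj x W := htW ▸ conj_mem_cj hx₀
  have hp₀V : p₀ ∈ V := o.cj_W_le_V h hx hp₀'
  have hp₀W : p₀ ∉ W := fun hm => by
    have h1 : p₀ ∈ (A ⊓ V) ⊓ cj x (A ⊓ V) := ⟨hm, hp₀'⟩
    rw [o.disjoint_W h hx hne, mem_bot] at h1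
    exact hx₀1 (conj_eq_one_iff.1 (hp₀ ▸ h1))
  let E : A →* W := MonoidHom.mk' (fun b => ⟨(b : G) * p₀ * (b : G)⁻¹ * p₀⁻¹, o.com_mem h b.2 hp₀V⟩)
    fun b c => Subtype.ext (by
      show (b : G) * c * p₀ * ((b : G) * c)⁻¹ * p₀⁻¹ =
        (b : G) * p₀ * (b : G)⁻¹ * p₀⁻¹ * ((c : G) * p₀ * (c : G)⁻¹ * p₀⁻¹)
      have h1 := o.max.2.1.1 b b.2 _ (o.com_mem h c.2 hp₀V).1
      calc (b : G) * c * p₀ * ((b : G) * c)⁻¹ * p₀⁻¹
          = (b : G) * ((c : G) * p₀ * (c : G)⁻¹ * p₀⁻¹) * p₀ * (b : G)⁻¹ * p₀⁻¹ := by group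
        _ = ((c : G) * p₀ * (c : G)⁻¹ * p₀⁻¹) * ((b : G) * p₀ * (b : G)⁻¹ * p₀⁻¹) := by rw [h1]; group
        _ = _ := hWel.1 _ (o.com_mem h c.2 hp₀V) _ (o.com_mem h b.2 hp₀V))
  have hEk : ∀ (k : G) (_ : k ∈ L) (_ : k ∈ N) (_ : k ∈ normalizer ((cj x W : Subgroup G) : Set G))
      (b : A) (hkb : k * b * k⁻¹ ∈ A), (E ⟨k * b * k⁻¹, hkb⟩ : G) = k * (k * (E b : G) * k⁻¹) * k⁻¹ := by
    intro k hk hkW hkW' b hkb
    show k * (b : G) * k⁻¹ * p₀ * (k * b * k⁻¹)⁻¹ * p₀⁻¹ = k * (k * ((b : G) * p₀ * (b : G)⁻¹ * p₀⁻¹) * k⁻¹) * k⁻¹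
    have hlin : ∀ y ∈ W, k * ((b : G) * (t * y * t⁻¹) * (b : G)⁻¹ * (t * y * t⁻¹)⁻¹) * k⁻¹ =
        (b : G) * (t * (k * y * k⁻¹) * t⁻¹) * (b : G)⁻¹ * (t * (k * y * k⁻¹) * t⁻¹)⁻¹ := by
      by_cases hbQ : (b : G) ∈ V
      · intro y hy
        have hv : ∀ v ∈ V, (b : G) * v * (b : G)⁻¹ * v⁻¹ = 1 := fun v hv => by
          rw [o.cenV _ hbQ v hv, mul_inv_cancel_right, mul_inv_cancel]
        rw [hv _ ((mem_normalizer_iff.1 (o.LV htL) _).1 hy.2),
          hv _ ((mem_normalizer_iff.1 (o.LV htL) _).1 ((mem_normalizer_iff.1 hkW y).1 hy).2),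
          mul_one, mul_inv_cancel]
      · obtain ⟨j, hjW, hjW', hje⟩ := o.exists_trans h hx hne ha hna b.2 hbQ
        have hact : ∀ v ∈ V, (b : G) * v * (b : G)⁻¹ =
            (j : G) * (a * ((j : G)⁻¹ * v * j) * a⁻¹) * (j : G)⁻¹ := by
          intro v hv
          rw [← map_inv, ← map_mul, ← map_mul] at hje
          have e' : (j : G) * a * (j : G)⁻¹ * v * ((j : G) * a * (j : G)⁻¹)⁻¹ = (b : G) * v * (b : G)⁻¹ :=
            o.act_eq_iff.1 hje v hv
          rw [← e']; group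
        have hval : ∀ y ∈ W, (b : G) * (t * y * t⁻¹) * (b : G)⁻¹ * (t * y * t⁻¹)⁻¹ =
            (j : G) * ((j : G) * y * (j : G)⁻¹) * (j : G)⁻¹ := by
          intro y hy
          set y' := (j : G) * y * (j : G)⁻¹ with hy'
          have hy'W : y' ∈ W := (mem_normalizer_iff.1 hjW y).1 hy
          have hmv := hmove j j.2 hjW hjW' y' hy'W.2
          rw [show (j : G)⁻¹ * y' * j = y by rw [hy']; group] at hmv
          rw [hact _ ((mem_normalizer_iff.1 (o.LV htL) y).1 hy.2),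
            show (j : G)⁻¹ * (t * y * t⁻¹) * j = t * y' * t⁻¹ by rw [← hmv]; group, tri y' hy'W, ← hmv]
          group
        intro y hy
        have hky : k * y * k⁻¹ ∈ W := (mem_normalizer_iff.1 hkW y).1 hy
        rw [hval y hy, hval _ hky,
          ← hcommW j k j.2 hk hjW hjW' hkW hkW' _ ((mem_normalizer_iff.1 (o.LV j.2) y).1 hy.2),
          ← hcommW j k j.2 hk hjW hjW' hkW hkW' y hy.2]
    have hmv := hmove k hk hkW hkW' (k * x₀ * k⁻¹) ((mem_normalizer_iff.1 (o.LV hk) x₀).1 hx₀.2)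
    rw [show k⁻¹ * (k * x₀ * k⁻¹) * k = x₀ by group, ← hp₀] at hmv
    rw [hlin x₀ hx₀, ← hmv]
    group
  -- the intertwining map
  have hmem1 : ∀ y ∈ W, s * y * s⁻¹ ∈ A := fun y hy =>
    (cj_mono (inf_le_left : W ≤ A)).trans (cj_eq_self (o'.LV hx')).le (hsW ▸ conj_mem_cj hy)
  let c : W →* A := MonoidHom.mk' (fun y => ⟨s * y * s⁻¹, hmem1 y y.2⟩)
    fun y w => Subtype.ext (by show s * ((y : G) * w) * s⁻¹ = s * y * s⁻¹ * (s * w * s⁻¹); group)
  let θ : W →* W := E.comp c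
  have hθinj : Function.Injective θ := by
    rw [injective_iff_map_eq_one]
    intro y hy
    have e : s * (y : G) * s⁻¹ * p₀ * (s * (y : G) * s⁻¹)⁻¹ * p₀⁻¹ = 1 := congrArg Subtype.val hy
    rw [mul_inv_eq_one, mul_inv_eq_iff_eq_mul] at e
    have hmA := hmem1 y y.2
    have hV' : s * (y : G) * s⁻¹ ∈ V := by
      by_contra hn
      exact hp₀W (o.fixed_mem h hmA hn hp₀V e)
    have h1 : s * (y : G) * s⁻¹ ∈ (V ⊓ A) ⊓ cj x' (V ⊓ A) :=
      ⟨⟨hV', hmA⟩, by rw [hW', ← hsW]; exact conj_mem_cj y.2⟩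
    rw [o'.disjoint_W h hx' (by rwa [hW']), mem_bot] at h1
    exact Subtype.ext (conj_eq_one_iff.1 h1)
  refine card_le_four (W := W) (fun y => Subtype.ext (hWel.2 y y.2)) H ?_ ?_ ?_ θ
    (Finite.injective_iff_surjective.1 hθinj) ?_
  · rintro _ ⟨⟨j, hjN⟩, hj, rfl⟩ _ ⟨⟨k, hkN⟩, hk, rfl⟩
    obtain ⟨hjL, -, -, hjW', -⟩ := hS' j hj
    obtain ⟨hkL, -, -, hkW', -⟩ := hS' k hk
    ext y
    show j * (k * (y : G) * k⁻¹) * j⁻¹ = k * (j * (y : G) * j⁻¹) * k⁻¹
    exact hcommW j k hjL hkL hjN hjW' hkN hkW' y y.2.2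
  · intro y w hy hw
    obtain ⟨k, hk, hke⟩ := htrans y y.2 w w.2 (fun e => hy (Subtype.ext e)) (fun e => hw (Subtype.ext e))
    exact ⟨ψ ⟨k, (hS' k hk).2.2.1⟩, ⟨_, hk, rfl⟩, Subtype.ext hke⟩
  · rintro _ ⟨⟨k, hkN⟩, hk, rfl⟩ y hy he
    obtain ⟨hkL, -, -, hkW', -⟩ := hS' k hk
    have e : k * (y : G) * k⁻¹ = y := congrArg Subtype.val he
    have hkQ := o.mem_core_of_fixed h hx hne hkL hkN hkW' y.2 (fun e => hy (Subtype.ext e))
      (mul_inv_eq_iff_eq_mul.1 e)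
    ext w
    show k * (w : G) * k⁻¹ = w
    rw [o.cenV k hkQ w w.2.2, mul_inv_cancel_right]
  · rintro _ ⟨⟨k, hkN⟩, hk, rfl⟩ y
    obtain ⟨hkL, hkL', -, hkW', hkW''⟩ := hS' k hk
    have hinv' := o'.inverts h hx' (by rwa [hW']) hsL hss (by rwa [hW']) (by rwa [hW']) (k := ⟨k, hkL'⟩)
      (by rwa [hW']) (by rwa [hW'])
    rw [← map_inv, ← map_mul, ← map_mul, ← map_inv] at hinv'
    have e1 : s * k * s⁻¹ * (y : G) * (s * k * s⁻¹)⁻¹ = k⁻¹ * (y : G) * k⁻¹⁻¹ :=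
      o'.act_eq_iff.1 hinv' y y.2.1
    have hkA : k ∈ normalizer (A : Set G) := o.stab_norm_A h hkL hkN
    set w := k * (y : G) * k⁻¹ with hw
    have hwW : w ∈ W := (mem_normalizer_iff.1 hkN _).1 y.2
    have e2 : k * (s * w * s⁻¹) * k⁻¹ = s * y * s⁻¹ := by
      have e1' : s * k * s⁻¹ * w * (s * k * s⁻¹)⁻¹ = k⁻¹ * w * k⁻¹⁻¹ :=
        o'.act_eq_iff.1 hinv' w hwW.1
      rw [inv_inv, show k⁻¹ * w * k = y by rw [hw]; group] at e1'
      calc k * (s * w * s⁻¹) * k⁻¹ = s⁻¹ * (s * k * s * w * (s * k * s)⁻¹) * s := by group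
        _ = s * (s * k * s⁻¹ * w * (s * k * s⁻¹)⁻¹) * s⁻¹ := by rw [inv_eq_of_mul_eq_one_right hss]
        _ = s * y * s⁻¹ := by rw [e1']
    have hres := hEk k hkL hkN hkW' ⟨s * w * s⁻¹, hmem1 w hwW⟩
      ((mem_normalizer_iff.1 hkA _).1 (hmem1 w hwW))
    simp only [e2] at hres
    refine Subtype.ext ?_
    rw [← map_inv, ← map_mul]
    show ((θ ⟨w, hwW⟩ : W) : G) = (k⁻¹ * k⁻¹) * ((θ y : W) : G) * (k⁻¹ * k⁻¹)⁻¹
    rw [show ((θ y : W) : G) = k * (k * ((θ ⟨w, hwW⟩ : W) : G) * k⁻¹) * k⁻¹ from hres]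
    group

end Cfsg.Agent.Transfer.CIT
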