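import Mathlib
import Cfsg.Agent.Lib.Transfer.CIT.Field
import Cfsg.Agent.Lib.Transfer.CIT.Embedded
import Cfsg.Agent.Lib.Transfer.CIT.Dihedral
import Cfsg.Agent.Lib.Invol.JCompOutside
import Cfsg.Agent.S0214
import Cfsg.Agent.S0508

/-!
A simple CIT group is a Zassenhaus group, or `PSL(2, F)`, or has a pair of linked offender configurations
with fixed subgroup of order four.
-/

set_option autoImplicit false
set_option linter.style.haveILetI false
set_option linter.unusedSectionVars false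

open scoped Pointwise

universe u

namespace Cfsg.Agent.Transfer.CIT

open Cfsg.Agent Subgroup

variable {G : Type u} [Group G] [Finite G] {L Q V R A : Subgroup G}

omit [Finite G] in
theorem normalizer_cj (g : G) (H : Subgroup G) :
    normalizer ((cj g H : Subgroup G) : Set G) = cj g (normalizer (H : Set G)) := by
  ext x
  rw [mem_cj, mem_normalizer_iff_cj, mem_normalizer_iff_cj, ← cj_mul]
  constructor
  · intro e
    rw [mul_assoc, cj_mul, e, cj_inv_cj]
  · intro e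
    conv_rhs => rw [← e, ← cj_mul]
    congr 1
    group

theorem MaxEl.conj {R A : Subgroup G} (hA : MaxEl R A) (g : G) : MaxEl (cj g R) (cj g A) := by
  refine ⟨cj_mono hA.1, hA.2.1.cj g, fun B hB hE => ?_⟩
  have := hA.2.2 (cj g⁻¹ B) ((cj_mono hB).trans (cj_inv_cj g R).le) (hE.cj g⁻¹)
  rwa [card_cj, ← card_cj g A] at this

/-- Conjugation of a configuration. -/
theorem Off.conj (o : Off L Q V R A) (g : G) :
    Off (cj g L) (cj g Q) (cj g V) (cj g R) (cj g A) := by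
  refine ⟨o.hQ.map _, o.hR.map _, cj_mono o.QR, cj_mono o.RL, ?_, ?_, ?_, cj_mono o.VQ, o.hV.cj g, ?_, ?_,
    o.max.conj g, ?_, ?_⟩
  · rw [normalizer_cj]; exact cj_mono o.LQ
  · rw [normalizer_cj]; exact cj_mono o.LV
  · intro N hN hLN hp
    have h1 := o.core (cj g⁻¹ N) ((cj_mono hN).trans (cj_inv_cj g L).le) (by
      rw [normalizer_cj]; exact (cj_inv_cj g L).ge.trans (cj_mono hLN)) (hp.map _)
    calc N = cj g (cj g⁻¹ N) := by rw [← cj_mul, mul_inv_cancel, cj_one]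
      _ ≤ cj g Q := cj_mono h1
  · rw [← one_lt_card_iff_ne_bot, card_cj, one_lt_card_iff_ne_bot]
    exact o.V1
  · rintro _ ⟨q, hq, rfl⟩ _ ⟨v, hv, rfl⟩
    rw [← map_mul, o.cenV q hq v hv, map_mul]
  · intro e
    apply o.notle
    calc A = cj g⁻¹ (cj g A) := (cj_inv_cj g A).symm
      _ ≤ cj g⁻¹ (cj g Q) := cj_mono e
      _ = Q := cj_inv_cj g Q
  · rw [normalizer_cj]; exact cj_mono o.VA

theorem Off.sylow_max (h : IsCIT G) (o : Off L Q V R A) {P : Subgroup G} (hPL : P ≤ L)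
    (hP : IsPGroup 2 P) (hRP : R ≤ P) : P ≤ R := by
  intro y hy
  have hAQ := o.AQR.trans hRP
  obtain ⟨x, hx, hne⟩ := o.exists_other h
  obtain ⟨a, ha, h1, h2, h3⟩ := o.decomp_N h hx hne (hPL hy) (o.le_norm_W h hPL hP hAQ hy)
  obtain ⟨k, hk⟩ := IsPGroup.iff_orderOf.1 hP ⟨a⁻¹ * y, P.mul_mem (inv_mem (hRP (o.max.1 ha))) hy⟩
  rw [orderOf_mk] at hk
  rw [show y = a * (a⁻¹ * y) by group]
  exact R.mul_mem (o.max.1 ha) (o.QR (o.mem_core_of_two h hx hne h1 h2 h3 hk))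

theorem exists_two_local {M : Subgroup G} (hM : Cfsg.IsMaximalTwoLocal M) :
    ∃ Y : Subgroup G, IsPGroup 2 Y ∧ Y ≠ ⊥ ∧ Y ≤ M ∧ normalizer (Y : Set G) = M ∧
      ∀ N : Subgroup G, N ≤ M → M ≤ normalizer (N : Set G) → IsPGroup 2 N → N ≤ Y := by
  obtain ⟨h1, h2⟩ := exists_core hM
  refine ⟨(Cfsg.pCore 2 M).map M.subtype, Grp.pCore_isPGroup.map _,
    by rwa [Ne, map_eq_bot_iff_of_injective _ M.subtype_injective], map_subtype_le _, h2, fun N hN hMN hp => ?_⟩
  haveI : (N.subgroupOf M).Normal := normal_subgroupOf_of_le_normalizer hMN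
  intro y hy
  exact ⟨⟨y, hN hy⟩, Grp.le_pCore (N := N.subgroupOf M) ‹_› hp.comap_subtype hy, rfl⟩

/-- The linked pair of configurations. -/
structure Pair (T : Sylow 2 G) (L L' R A V : Subgroup G) : Prop where
  o : Off L V V R A
  o' : Off L' A A R V
  RT : R ≤ (T : Subgroup G)
  hL : normalizer (V : Set G) = L
  hL' : normalizer (A : Set G) = L'

theorem exists_pair (h : IsCIT G) [IsSimpleGroup G] (hG : ¬ IsMulCommutative G) :
    (∃ M : Subgroup G, Cfsg.IsMaximalTwoLocal M ∧ Cfsg.IsStronglyEmbedded M) ∨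
      ∃ (T : Sylow 2 G) (L L' R A V : Subgroup G), Pair T L L' R A V := by
  classical
  haveI := Fact.mk Nat.prime_two
  let T₀ : Sylow 2 G := default
  have hT₀ := sylow_ne_bot hG T₀
  set J₀ := Cfsg.thompsonSubgroupOf 2 (T₀ : Subgroup G) with hJ₀
  have hJ₀le : J₀ ≤ (T₀ : Subgroup G) := Invol.thompsonEl_le _
  obtain ⟨M, hM, hMJ⟩ := Invol.JComp.exists_maximalTwoLocal (G := G) (X := normalizer (J₀ : Set G))
    ⟨J₀, T₀.isPGroup'.to_le hJ₀le, Invol.JComp.thompson_ne_bot T₀.isPGroup' hT₀, rfl⟩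
  have hT₀M : (T₀ : Subgroup G) ≤ M := fun y hy => hMJ (mem_normalizer_fintype fun z hz =>
    Invol.conj_mem_thompsonEl (le_normalizer hy) hz)
  obtain ⟨YM, hYM, hYM1, hYMM, hYMn, hYMcore⟩ := exists_two_local hM
  have hMtop : M ≠ ⊤ := by
    intro e
    haveI : YM.Normal := normalizer_eq_top_iff.mp (hYMn.trans e)
    exact hYM1 (le_bot_iff.1 ((Grp.le_pCore inferInstance hYM).trans (pCore_eq_bot hG).le))
  by_cases hs : Cfsg.straddlingTwoSubgroups M = ∅
  · left
    refine ⟨M, hM, ?_⟩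
    obtain ⟨P, hP⟩ := (T₀.isPGroup'.comap_subtype (K := M)).exists_le_sylow
    have hPne : (P : Subgroup M) ≠ ⊥ := fun e => hT₀ ((eq_bot_iff_forall _).2 fun x hx => by
      have h1 : (⟨x, hT₀M hx⟩ : M) ∈ (P : Subgroup M) := hP hx
      rw [e, mem_bot] at h1
      exact congrArg Subtype.val h1)
    refine (S0214.result M hMtop P hPne).mpr fun X hXP hX1 => ?_
    by_contra hcon
    have hX1' : X.map M.subtype ≠ ⊥ := by
      rwa [Ne, map_eq_bot_iff_of_injective _ M.subtype_injective]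
    exact Set.eq_empty_iff_forall_notMem.mp hs (X.map M.subtype)
      ⟨(P.isPGroup'.to_le hXP).map _, hX1', map_subtype_le X, _,
        ⟨_, (P.isPGroup'.to_le hXP).map _, hX1', rfl⟩, le_normalizer, hcon⟩
  right
  obtain ⟨R, ⟨hR, hR1, hRM, L₀, hL₀, hRL₀, hL₀M⟩, hRmax⟩ := Set.exists_max_image
    (Cfsg.straddlingTwoSubgroups M) (fun R => Nat.card R) (Set.toFinite _) (Set.nonempty_iff_ne_empty.2 hs)
  obtain ⟨L, hL, hL₀L⟩ := Invol.JComp.exists_maximalTwoLocal hL₀
  have hRL : R ≤ L := hRL₀.trans hL₀L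
  have hLM : ¬ L ≤ M := fun e => hL₀M (hL₀L.trans e)
  have big : ∀ S : Subgroup G, IsPGroup 2 S → S ≤ M → R < S →
      ∀ N : Subgroup G, Cfsg.IsTwoLocal N → S ≤ N → N ≤ M := by
    intro S hS hSM hRS N hN hSN
    by_contra hNM
    have h1 := hRmax S ⟨hS, ne_bot_of_le_ne_bot hR1 hRS.le, hSM, N, hN, hSN, hNM⟩
    exact (Nat.lt_of_lt_of_le (Set.ncard_lt_ncard (SetLike.coe_ssubset_coe.2 hRS) (Set.toFinite _))
      (by rw [← Nat.card_coe_set_eq, ← Nat.card_coe_set_eq]; exact h1)).false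
  -- a Sylow 2-subgroup of `G` in `M` containing `R`
  obtain ⟨P, hP⟩ := (hR.comap_subtype (K := M)).exists_le_sylow
  obtain ⟨P₀, hP₀⟩ := (T₀.isPGroup'.comap_subtype (K := M)).exists_le_sylow
  set TP := (P : Subgroup M).map M.subtype with hTP
  have hT₀P : (P₀ : Subgroup M).map M.subtype = (T₀ : Subgroup G) :=
    T₀.is_maximal' (P₀.isPGroup'.map _) fun x hx => ⟨⟨x, hT₀M hx⟩, hP₀ hx, rfl⟩
  obtain ⟨m, hm⟩ := MulAction.exists_smul_eq M P₀ P
  have hTPc : TP = cj (m : G) (T₀ : Subgroup G) := by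
    rw [hTP, ← hm, ← hT₀P]
    ext y
    constructor
    · rintro ⟨_, ⟨z, hz, rfl⟩, rfl⟩
      exact ⟨z, ⟨z, hz, rfl⟩, rfl⟩
    · rintro ⟨_, ⟨z, hz, rfl⟩, rfl⟩
      exact ⟨_, ⟨z, hz, rfl⟩, rfl⟩
  obtain ⟨T, hT⟩ := (T₀.isPGroup'.map (MulAut.conj (m : G)).toMonoidHom).exists_le_sylow
  have hTeq : (T : Subgroup G) = TP := by
    rw [hTPc]
    refine (Subgroup.eq_of_le_of_card_ge hT ?_).symm
    rw [Subgroup.card_map_of_injective (MulAut.conj (m : G)).injective]
    rw [T.card_eq_multiplicity, T₀.card_eq_multiplicity]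
  have hTM : (T : Subgroup G) ≤ M := hTeq ▸ map_subtype_le _
  have hRT : R ≤ (T : Subgroup G) := hTeq ▸ fun x hx => ⟨⟨x, hRM hx⟩, hP hx, rfl⟩
  haveI : Group.IsNilpotent (T : Subgroup G) := T.isPGroup'.isNilpotent
  have grow : ∀ X : Subgroup G, R ≤ X → IsPGroup 2 X → ¬ X ≤ R →
      ∃ g ∈ X, g ∉ R ∧ g ∈ normalizer (R : Set G) := by
    intro X hRX hX hXR
    haveI : Group.IsNilpotent X := hX.isNilpotent
    have hlt : R.subgroupOf X < ⊤ := lt_top_iff_ne_top.2 fun e => hXR (subgroupOf_eq_top.1 e)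
    obtain ⟨g, hg, hgn⟩ := SetLike.exists_of_lt (Group.normalizerCondition_of_isNilpotent _ hlt)
    exact ⟨g, g.2, fun e => hgn (mem_subgroupOf.2 e), mem_normalizer_fintype fun y hy =>
      (mem_normalizer_iff.1 hg ⟨y, hRX hy⟩).1 hy⟩
  have hRlocal : Cfsg.IsTwoLocal (normalizer (R : Set G)) := ⟨R, hR, hR1, rfl⟩
  have hNR : ¬ (T : Subgroup G) ≤ R → normalizer (R : Set G) ≤ M := by
    intro hne
    obtain ⟨g, hg, hgn, hgN⟩ := grow _ hRT T.isPGroup' hne
    refine big (R ⊔ zpowers g) (T.isPGroup'.to_le (sup_le hRT (zpowers_le.2 hg)))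
      ((sup_le hRT (zpowers_le.2 hg)).trans hTM) (lt_of_le_of_ne le_sup_left fun e => hgn ?_) _ hRlocal
      (sup_le le_normalizer (zpowers_le.2 hgN))
    rw [e]; exact mem_sup_right (mem_zpowers g)
  have hsyl : ∀ X : Subgroup G, X ≤ L → IsPGroup 2 X → R ≤ X → X ≤ R := by
    intro X hXL hX hRX
    by_contra hne
    by_cases hT' : (T : Subgroup G) ≤ R
    · exact hne ((T.is_maximal' hX (hT'.trans hRX)).le.trans hT')
    obtain ⟨g, hg, hgn, hgN⟩ := grow X hRX hX hne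
    refine hLM (big (R ⊔ zpowers g) (hX.to_le (sup_le hRX (zpowers_le.2 hg))) (sup_le hRM ((zpowers_le.2 hgN).trans
      (hNR hT'))) (lt_of_le_of_ne le_sup_left fun e => hgn (by rw [e]; exact mem_sup_right (mem_zpowers g)))
      L hL.1 (sup_le hRL (zpowers_le.2 (hXL hg))))
  obtain ⟨Q, hQ, hQ1, hQL, hQn, hQcore⟩ := exists_two_local hL
  have hQR : Q ≤ R := le_sup_right.trans (hsyl (R ⊔ Q) (sup_le hRL hQL)
    (hR.to_sup_of_normal_right' hQ (hRL.trans hQn.ge)) le_sup_left)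
  have hJQ : ¬ Cfsg.thompsonSubgroupOf 2 R ≤ Q := by
    intro hle
    set J := Cfsg.thompsonSubgroupOf 2 R with hJdef
    have hJ2 : Cfsg.IsTwoLocal (normalizer (J : Set G)) :=
      ⟨J, hR.to_le (Invol.thompsonEl_le _), Invol.JComp.thompson_ne_bot hR hR1, rfl⟩
    have hLJ : L ≤ normalizer (J : Set G) := fun g hg => mem_normalizer_fintype fun y hy => by
      rw [hJdef, ← Invol.JComp.thompson_eq_of_between hle hQR] at hy ⊢
      exact Invol.conj_mem_thompsonEl (hQn.ge hg) hy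
    have hJL : normalizer (J : Set G) = L := hL.2 _ hJ2 hLJ
    by_cases hT' : (T : Subgroup G) ≤ R
    · refine hLM fun g hg => ?_
      have hRT' : R = cj (m : G) (T₀ : Subgroup G) := (le_antisymm hRT hT').trans (hTeq.trans hTPc)
      have hJm : J = cj (m : G) J₀ := by
        rw [hJdef, hRT']
        exact Invol.JComp.thompson_map _ (MulAut.conj (m : G)).injective _
      rw [← hJL, hJm, normalizer_cj, mem_cj] at hg
      have h1 := hMJ hg
      rw [show g = (m : G) * ((m : G)⁻¹ * g * m) * (m : G)⁻¹ by group]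
      exact M.mul_mem (M.mul_mem m.2 h1) (inv_mem m.2)
    obtain ⟨g, hg, hgn, hgN⟩ := grow _ hRT T.isPGroup' hT'
    refine hgn (hsyl (R ⊔ zpowers g) (sup_le hRL (zpowers_le.2 ?_))
      (T.isPGroup'.to_le (sup_le hRT (zpowers_le.2 hg))) le_sup_left (mem_sup_right (mem_zpowers g)))
    rw [← hJL]
    exact mem_normalizer_fintype fun y hy => Invol.conj_mem_thompsonEl hgN hy
  -- the first configuration
  obtain ⟨A₀, hA₀, hA₀Q⟩ : ∃ A, MaxEl R A ∧ ¬ A ≤ Q := by
    by_contra hc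
    push Not at hc
    exact hJQ (Invol.thompsonEl_le_of fun A hA => hc A (maxEl_of_isMaxEl hA))
  set V := Cfsg.omegaCenterOf Q with hVdef
  have hVQ : V ≤ Q := fun v hv => (Invol.JComp.mem_omegaCenter.1 hv).1
  have hcenV : ∀ q ∈ Q, ∀ v ∈ V, q * v = v * q := fun q hq v hv =>
    (Invol.JComp.mem_omegaCenter.1 hv).2.1 q hq
  have hV : El V := ⟨fun a ha b hb => hcenV a (hVQ ha) b hb, fun a ha => (Invol.JComp.mem_omegaCenter.1 ha).2.2⟩
  have omega_ne : ∀ Y : Subgroup G, IsPGroup 2 Y → Y ≠ ⊥ → Cfsg.omegaCenterOf Y ≠ ⊥ := by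
    intro Y hY hY1 e
    obtain ⟨d, hd, hd1, hdc⟩ := exists_fixed_mem hY hY hY1 le_normalizer
    obtain ⟨k, hk, hk2⟩ := Invol.exists_pow_order_eq (p := 2) hY hd hd1
    refine hk (mem_bot.1 (e ▸ Invol.JComp.mem_omegaCenter.2 ⟨pow_mem hd k, fun r hr => ?_, by
      rw [← pow_two]; exact hk2⟩))
    exact ((show Commute r d from hdc r hr).pow_right k).eq
  have omega_norm : ∀ Y : Subgroup G, normalizer (Y : Set G) ≤
      normalizer ((Cfsg.omegaCenterOf Y : Subgroup G) : Set G) := by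
    intro Y g hg
    refine mem_normalizer_fintype fun y hy => ?_
    obtain ⟨h0, h1, h2⟩ := Invol.JComp.mem_omegaCenter.1 hy
    refine Invol.JComp.mem_omegaCenter.2 ⟨(mem_normalizer_iff.1 hg y).1 h0, fun r hr => ?_,
      by rw [conj_mul, h2, mul_one, mul_inv_cancel]⟩
    have h3 := h1 _ ((mem_normalizer_iff''.1 hg r).1 hr)
    calc r * (g * y * g⁻¹) = g * (g⁻¹ * r * g * y) * g⁻¹ := by group
      _ = g * (y * (g⁻¹ * r * g)) * g⁻¹ := by rw [h3]
      _ = g * y * g⁻¹ * r := by group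
  have hV1 : V ≠ ⊥ := omega_ne Q hQ hQ1
  have hLV : L ≤ normalizer (V : Set G) := hQn.ge.trans (omega_norm Q)
  have hVL : normalizer (V : Set G) = L := hL.2 _ ⟨V, hV.isPGroup, hV1, rfl⟩ hLV
  obtain ⟨A, hA, hAQ, hVA⟩ := exists_normalized hVQ hQR hR hV (hRL.trans hLV) hcenV ⟨A₀, hA₀, hA₀Q⟩
  have o : Off L Q V R A := ⟨hQ, hR, hQR, hRL, hQn.ge, hLV, hQcore, hVQ, hV, hV1, hcenV, hA, hAQ, hVA⟩
  -- moving `V` inside the normaliser of `R`
  have moved : ∀ g ∈ normalizer (R : Set G), g ∉ L →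
      ∃ L' A : Subgroup G, Pair T L L' R A V := by
    intro g hg hgL
    have hRg : cj g R = R := cj_eq_self hg
    have hBR : cj g V ≤ R := (cj_mono (hVQ.trans hQR)).trans hRg.le
    have hgV : ¬ cj g V ≤ V := fun e => hgL (hVL ▸ mem_normalizer_of_cj_le e)
    have hQV : Q = V := o.core_eq h hBR (hV.cj g) (by
      rw [normalizer_cj]; exact hRg.ge.trans (cj_mono (hRL.trans hLV)))
      fun e => hgV fun y hy => o.invol_core h (e hy) ((hV.cj g).2 y hy)
    rw [hQV] at o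
    have hB : cj g V = A := by
      refine Subgroup.eq_of_le_of_card_ge ((o.el_cases h hBR (hV.cj g)).resolve_left hgV) ?_
      rw [card_cj, o.card_A h]
    have hA' : cj g A = V := by
      have hle := (cj_mono o.max.1).trans hRg.le
      rcases o.el_cases h hle (o.max.2.1.cj g) with e | e
      · exact Subgroup.eq_of_le_of_card_ge e (by rw [card_cj, o.card_A h])
      · exfalso
        have e1 : cj g A = cj g V := by
          rw [hB]; exact Subgroup.eq_of_le_of_card_ge e (card_cj g A).ge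
        apply o.notle
        have := congrArg (cj g⁻¹) e1
        rw [cj_inv_cj, cj_inv_cj] at this
        exact this.le
    have o' := o.conj g
    rw [hB, hA', hRg] at o'
    refine ⟨cj g L, A, ⟨o, o', hRT, hVL, ?_⟩⟩
    rw [← hB, normalizer_cj, hVL]
  refine ⟨T, L, ?_⟩
  by_cases hT' : (T : Subgroup G) ≤ R
  swap
  · obtain ⟨g, hg, hgn, hgN⟩ := grow _ hRT T.isPGroup' hT'
    obtain ⟨L', A', hp⟩ := moved g hgN fun hgL => hgn (hsyl (R ⊔ zpowers g) (sup_le hRL (zpowers_le.2 hgL))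
      (T.isPGroup'.to_le (sup_le hRT (zpowers_le.2 hg))) le_sup_left (mem_sup_right (mem_zpowers g)))
    exact ⟨L', R, A', V, hp⟩
  have hRT' : R = (T : Subgroup G) := le_antisymm hRT hT'
  have hRM' : R ≤ normalizer (YM : Set G) := hRM.trans hYMn.ge
  have hYR : YM ≤ R := by
    rw [hRT']
    exact le_sup_right.trans (T.is_maximal' (T.isPGroup'.to_sup_of_normal_right' hYM (hTM.trans hYMn.ge))
      le_sup_left).le
  set Z := Cfsg.omegaCenterOf YM with hZdef
  have hZel : El Z := ⟨fun a ha b hb => (Invol.JComp.mem_omegaCenter.1 hb).2.1 a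
    (Invol.JComp.mem_omegaCenter.1 ha).1, fun a ha => (Invol.JComp.mem_omegaCenter.1 ha).2.2⟩
  have hZY : Z ≤ YM := fun z hz => (Invol.JComp.mem_omegaCenter.1 hz).1
  have hZ1 : Z ≠ ⊥ := omega_ne YM hYM hYM1
  have hMZ : M ≤ normalizer (Z : Set G) := hYMn.ge.trans (omega_norm YM)
  have hCZ : ∀ x ∈ M, (∀ z ∈ Z, x * z = z * x) → x ∈ YM := by
    intro x hx hxz
    refine hYMcore (M ⊓ Subgroup.centralizer (Z : Set G)) inf_le_left (fun g hg => ?_)
      ((h.centralizer_isPGroup hZel.isPGroup hZ1).to_le inf_le_right)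
      ⟨hx, mem_centralizer_iff.2 fun z hz => (hxz z hz).symm⟩
    refine mem_normalizer_fintype fun y hy =>
      ⟨M.mul_mem (M.mul_mem hg hy.1) (M.inv_mem hg), mem_centralizer_iff.2 fun z hz => ?_⟩
    have h1 := mem_centralizer_iff.1 hy.2 _ ((mem_normalizer_iff''.1 (hMZ hg) z).1 hz)
    calc z * (g * y * g⁻¹) = g * (g⁻¹ * z * g * y) * g⁻¹ := by group
      _ = g * (y * (g⁻¹ * z * g)) * g⁻¹ := by rw [h1]
      _ = g * y * g⁻¹ * z := by group
  have hne : M ≠ L := fun e => hLM e.ge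
  by_cases hZQ : Z ≤ Q
  · have hZV : Z ≤ V := fun z hz => o.invol_core h (hZQ hz) (hZel.2 z hz)
    by_cases hZW : Z ≤ A ⊓ V
    · have hTY : R ≤ YM := fun y hy => hCZ y (hRM hy) fun z hz =>
        o.comm_W h (o.R_eq h ▸ hy) (hZW hz)
      have hYeq : YM = R := le_antisymm hYR hTY
      obtain ⟨g, hg, hgL⟩ : ∃ g ∈ M, g ∉ L := by
        by_contra hc
        push Not at hc
        exact hne (hM.2 L hL.1 hc).symm
      obtain ⟨L', A', hp⟩ := moved g (hYeq ▸ hYMn.ge hg) hgL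
      exact ⟨L', R, A', V, hp⟩
    exfalso
    obtain ⟨w, hw, hwW⟩ := SetLike.not_le_iff_exists.1 hZW
    have hYQ : YM ≤ Q := fun y hy => by
      by_contra hyn
      exact hwW (o.fixed_mem' h (o.R_eq h ▸ hYR hy) hyn (hZV hw) ((Invol.JComp.mem_omegaCenter.1 hw).2.1 y hy))
    have hVY : V ≤ YM := fun v hv => hCZ v (hRM (hQR (hVQ hv))) fun z hz => hV.1 v hv z (hZV hz)
    have hVZ : V ≤ Z := fun v hv =>
      Invol.JComp.mem_omegaCenter.2 ⟨hVY hv, fun r hr => hcenV r (hYQ hr) v hv, hV.2 v hv⟩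
    have hZeq : Z = V := le_antisymm hZV hVZ
    refine hne (hM.2 L hL.1 ?_).symm
    rw [← hVL, ← hZeq]; exact hMZ
  -- the normaliser of `A` is `M`
  have hZR : Z ≤ R := hZY.trans hYR
  have hQV : Q = V := o.core_eq h hZR hZel (hRM.trans hMZ) hZQ
  rw [hQV] at o hZQ
  have hZA : Z ≤ A := (o.el_cases h hZR hZel).resolve_left hZQ
  obtain ⟨z, hz, hzV⟩ := SetLike.not_le_iff_exists.1 hZQ
  have hAY : A ≤ YM := fun a ha => hCZ a (hRM (o.max.1 ha)) fun y hy => o.max.2.1.1 a ha y (hZA hy)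
  have hYA : YM ≤ A := by
    intro y hy
    have hy' : y ∈ A ⊔ V := o.R_eq h ▸ hYR hy
    rw [← SetLike.mem_coe, coe_mul_of_left_le_normalizer_right _ _ (o.AL.trans o.LV)] at hy'
    obtain ⟨a, ha, v, hv, rfl⟩ := hy'
    refine A.mul_mem ha (o.fixed_mem h (hZA hz) hzV hv ?_).1
    have h1 : a * v * z = z * (a * v) := (Invol.JComp.mem_omegaCenter.1 hz).2.1 _ hy
    refine (mul_left_cancel (a := a) ?_).symm
    calc a * (v * z) = z * (a * v) := by rw [← mul_assoc, h1]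
      _ = a * (z * v) := by rw [← mul_assoc, ← mul_assoc, o.max.2.1.1 a ha z (hZA hz)]
  have hAeq : YM = A := le_antisymm hYA hAY
  rw [hAeq] at hYMn hYMcore
  refine ⟨M, R, A, V, ⟨o, ⟨o.max.2.1.isPGroup, hR, o.max.1, hRM, hYMn.ge, hYMn.ge, hYMcore, le_rfl, o.max.2.1,
    ?_, o.max.2.1.1, ⟨o.VQ.trans o.QR, o.hV, fun B hB hE => (o.max.2.2 B hB hE).trans (o.card_A h).le⟩, ?_,
    o.AL.trans o.LV⟩, hRT, hVL, hYMn⟩⟩
  · intro e; exact o.notle (e ▸ bot_le)
  · intro e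
    exact o.notle (Subgroup.eq_of_le_of_card_ge e (o.card_A h).le).ge

/-- A self-centralising four group gives `PSL(2, F)`. -/
theorem IsCIT.of_selfCent_four (h : IsCIT G) [IsSimpleGroup G] (hG : ¬ IsMulCommutative G) {V : Subgroup G}
    (h4 : Nat.card V = 4) (hC : Subgroup.centralizer (V : Set G) = V) (hsq : ∀ a ∈ V, a * a = 1)
    (S : Sylow 2 G) (hS : V ≤ (S : Subgroup G)) (hne : Nat.card (S : Subgroup G) ≠ 4) :
    ∃ (F : Type) (_ : Field F) (_ : Fintype F),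
      Nonempty (G ≃* Matrix.ProjectiveSpecialLinearGroup (Fin 2) F) := by
  classical
  haveI := Fact.mk Nat.prime_two
  obtain ⟨n, hn, hd⟩ := h.dihedral hG h4 hC hsq S hS hne
  haveI : Nontrivial (S : Subgroup G) := (nontrivial_iff_ne_bot _).2 (sylow_ne_bot hG S)
  haveI := S.isPGroup'.center_nontrivial
  obtain ⟨z, hzc, hz2⟩ := exists_involution_mem (G := (S : Subgroup G))
    (S.isPGroup'.to_subgroup (center (S : Subgroup G))) ((nontrivial_iff_ne_bot _).1 inferInstance)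
  have ht : orderOf (z : G) = 2 := by rw [orderOf_coe, hz2]
  have hzS : ∀ s ∈ (S : Subgroup G), s * (z : G) = z * s := fun s hs =>
    congrArg Subtype.val (mem_center_iff.1 hzc ⟨s, hs⟩)
  have hO : (Cfsg.oddCore (Subgroup.centralizer ({(z : G)} : Set G))).map
      (Subgroup.centralizer ({(z : G)} : Set G)).subtype = ⊥ := by
    rw [map_eq_bot_iff_of_injective _ (subtype_injective _)]
    obtain ⟨k, hk⟩ := (h (z : G) ht).exists_card_eq
    refine Subgroup.card_eq_one.1 (Nat.eq_one_of_dvd_coprimes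
      (Nat.Coprime.pow_right k (Grp.pPrimeCore_coprime (p := 2))) dvd_rfl ?_)
    rw [← hk]
    exact card_subgroup_dvd_card _
  obtain ⟨F, i1, i2, -, hiso⟩ := S0508.result S n hn hd (z : G) ht z.2 hzS ⊥ hO.symm (fun hne' => absurd rfl hne')
    (fun s _ hs => absurd (mem_centralizer_iff.2 fun y hy => by
      obtain rfl : y = 1 := mem_bot.1 hy
      rw [one_mul, mul_one]) hs)
    (fun Y hY hY1 => absurd (le_bot_iff.1 hY) hY1)
  exact ⟨F, i1, i2, hiso⟩

/-- The reduction to fixed subgroups of order four. -/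
theorem IsCIT.trichotomy (h : IsCIT G) [IsSimpleGroup G] (hG : ¬ IsMulCommutative G) :
    ((∃ (F : Type) (_ : Field F) (_ : Fintype F),
      Nonempty (G ≃* Matrix.ProjectiveSpecialLinearGroup (Fin 2) F)) ∨ Cfsg.IsSuzuki G) ∨
      ∃ (T : Sylow 2 G) (L L' R A V : Subgroup G), Pair T L L' R A V ∧ Nat.card ↥(A ⊓ V) = 4 := by
  classical
  haveI := Fact.mk Nat.prime_two
  rcases exists_pair h hG with ⟨M, hM, hSE⟩ | ⟨T, L, L', R, A, V, p⟩
  · exact Or.inl (h.of_embedded hG hM hSE)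
  have h4 := p.o.card_W_le_four h p.o' p.hL'.le
  obtain ⟨k, hk⟩ := (p.o.hV.isPGroup.to_le (inf_le_right : A ⊓ V ≤ V)).exists_card_eq
  have h1 := (one_lt_card_iff_ne_bot _).2 (p.o.W_ne_bot h)
  have hk2 : k = 1 ∨ k = 2 := by
    rcases k with _ | _ | _ | k
    · exact absurd (hk.trans (pow_zero 2)) h1.ne'
    · exact Or.inl rfl
    · exact Or.inr rfl
    · exfalso
      rw [hk] at h4
      have : 2 ^ 3 ≤ 2 ^ (k + 1 + 1 + 1) := Nat.pow_le_pow_right (by norm_num) (by omega)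
      omega
  rcases hk2 with rfl | rfl
  · left; left
    have hV4 : Nat.card V = 4 := by rw [p.o.card_V h, hk]; norm_num
    refine h.of_selfCent_four hG hV4 (le_antisymm (fun x hx => ?_) fun v hv => ?_) p.o.hV.2 T
      ((p.o.VQ.trans p.o.QR).trans p.RT) fun e => ?_
    · exact p.o.mem_core h (p.hL ▸ centralizer_le_normalizer _ hx) fun v hv =>
        (mem_centralizer_iff.1 hx v hv).symm
    · exact mem_centralizer_iff.2 fun w hw => p.o.hV.1 w hw v hv
    · have h2 : V = R := Subgroup.eq_of_le_of_card_ge p.o.QR (by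
        rw [hV4, ← e]; exact Subgroup.card_le_of_le p.RT)
      exact p.o.notle (h2 ▸ p.o.max.1)
  · exact Or.inr ⟨T, L, L', R, A, V, p, hk⟩

end Cfsg.Agent.Transfer.CIT
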