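import Mathlib
import Cfsg.Agent.Lib.Transfer.CIT.Setup
import Cfsg.Agent.S0111

/-!
With fixed subgroups of order four, the common Sylow subgroup of the two parabolics is a Sylow 2-subgroup
of the group.
-/

set_option autoImplicit false
set_option linter.style.haveILetI false
set_option linter.unusedSectionVars false

open scoped Pointwise

universe u

namespace Cfsg.Agent.Transfer.CIT

open Cfsg.Agent Subgroup

variable {G : Type u} [Group G] [Finite G] {L L' Q V R A : Subgroup G}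

theorem Off.card_R (h : IsCIT G) (o : Off L V V R A) :
    Nat.card R = Nat.card ↥(A ⊓ V) * Nat.card ↥(A ⊓ V) * Nat.card ↥(A ⊓ V) := by
  have h1 := Grp.card_sup_mul_card_inf (H := A) (N := V) (o.AL.trans o.LV)
  rw [← o.R_eq h, o.card_A h, o.card_V h, ← mul_assoc] at h1
  exact Nat.eq_of_mul_eq_mul_right Nat.card_pos h1

/-- All nonidentity elements of `V` are conjugate in the parabolic. -/
theorem Off.exists_conj_V (h : IsCIT G) (o : Off L Q V R A) {w v : G} (hw : w ∈ A ⊓ V) (hw1 : w ≠ 1)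
    (hv : v ∈ V) (hv1 : v ≠ 1) : ∃ y ∈ L, y * w * y⁻¹ = v := by
  obtain ⟨x, hx, hne⟩ := o.exists_other h
  by_cases hvW : v ∈ A ⊓ V
  · obtain ⟨k, hk, -, -, he⟩ := o.exists_trans_W h hx hne hw hw1 hvW hv1
    exact ⟨k, hk, he⟩
  obtain ⟨a, ha, hm⟩ := o.cover h hx hne hv hvW
  set y := a * x with hy
  obtain ⟨k, hk, -, -, he⟩ := o.exists_trans_W h hx hne hw hw1 (mem_cj.1 hm) (fun e => hv1 (by
    have := congrArg (fun t => y * t * y⁻¹) e
    simpa [mul_assoc] using this))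
  refine ⟨y * k, mul_mem (mul_mem (o.AL ha) hx) hk, ?_⟩
  rw [mul_inv_rev, show y * k * w * (k⁻¹ * y⁻¹) = y * (k * w * k⁻¹) * y⁻¹ by group, he]
  group

/-- An element of order three of the parabolic normalising the Sylow subgroup. -/
theorem Off.exists_three (h : IsCIT G) (o : Off L V V R A) (hr : Nat.card ↥(A ⊓ V) = 4) :
    ∃ k ∈ L, k ^ 3 = 1 ∧ k ≠ 1 ∧ k ∈ normalizer (R : Set G) ∧ k ∈ normalizer (A : Set G) ∧
      k ∈ normalizer ((A ⊓ V : Subgroup G) : Set G) ∧
      (∀ w ∈ A ⊓ V, w ≠ 1 → k * w * k⁻¹ ≠ w) ∧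
      ∀ u ∈ L, u ∈ normalizer (R : Set G) → Odd (orderOf u) → u ≠ 1 →
        ∃ q ∈ R, u = q⁻¹ * k * q ∨ u = q⁻¹ * (k * k) * q := by
  classical
  set W := A ⊓ V with hW
  obtain ⟨x, hx, hne⟩ := o.exists_other h
  haveI : Finite W := inferInstance
  obtain ⟨⟨w, hw⟩, hw1'⟩ := Subgroup.ne_bot_iff_exists_ne_one.1 (o.W_ne_bot h)
  have hw1 : w ≠ 1 := fun e => hw1' (Subtype.ext e)
  obtain ⟨w₁, hw₁, hw₁1, hww₁⟩ : ∃ w₁ ∈ W, w₁ ≠ 1 ∧ w₁ ≠ w := by
    by_contra hc
    push Not at hc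
    have hsub : (W : Set G) ⊆ {1, w} := fun y hy => by
      simp only [Set.mem_insert_iff, Set.mem_singleton_iff]
      by_cases e : y = 1
      · exact Or.inl e
      · exact Or.inr (hc y hy e)
    have h1 := Set.ncard_le_ncard hsub
    have h2 : (({1, w} : Set G)).ncard ≤ 2 := (Set.ncard_insert_le _ _).trans (by simp)
    rw [← Nat.card_coe_set_eq] at h1
    change Nat.card W ≤ _ at h1
    omega
  obtain ⟨k₀, hk₀, hk₀W, hk₀W', hk₀e⟩ := o.exists_trans_W h hx hne hw hw1 hw₁ hw₁1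
  obtain ⟨a, m, -, hm, hodd⟩ := Invol.JComp.exists_two_pow_mul_odd k₀
  set k := k₀ ^ 2 ^ a with hk
  have hkL : k ∈ L := pow_mem hk₀ _
  have hkW : k ∈ normalizer (W : Set G) := pow_mem hk₀W _
  have hkW' : k ∈ normalizer ((cj x W : Subgroup G) : Set G) := pow_mem hk₀W' _
  have hk1 : k ≠ 1 := fun e => by
    obtain ⟨n, -, hn⟩ := (Nat.dvd_prime_pow Nat.prime_two).1 (orderOf_dvd_of_pow_eq_one e)
    have := o.mem_core_of_two h hx hne hk₀ hk₀W hk₀W' hn
    rw [o.cenV _ this w hw.2, mul_inv_cancel_right] at hk₀e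
    exact hww₁ hk₀e.symm
  have hfix : ∀ j ∈ L, j ∈ normalizer (W : Set G) → j ∈ normalizer ((cj x W : Subgroup G) : Set G) →
      Odd (orderOf j) → ∀ y ∈ W, y ≠ 1 → j * y * j⁻¹ = y → j = 1 := by
    intro j hj hjW hjW' hjo y hy hy1 he
    have hjQ := o.mem_core_of_fixed h hx hne hj hjW hjW' hy hy1 (mul_inv_eq_iff_eq_mul.1 he)
    obtain ⟨n, hn⟩ := IsPGroup.iff_orderOf.1 o.hQ ⟨j, hjQ⟩
    rw [orderOf_mk] at hn
    exact Invol.JComp.eq_one_of_odd_of_two hjo (n := n) (by rw [← hn, pow_orderOf_eq_one])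
  have hk2o : Odd (orderOf (k * k)) := by
    rw [← pow_two]
    exact Odd.of_dvd_nat hodd (orderOf_pow_dvd 2)
  have hkk1 : k * k ≠ 1 := fun e => hk1 (Invol.JComp.eq_one_of_odd_of_two hodd (n := 1)
    (by rw [pow_one, pow_two]; exact e))
  have hmove : ∀ y ∈ W, y ≠ 1 → k * y * k⁻¹ ≠ y := fun y hy hy1 e =>
    hk1 (hfix k hkL hkW hkW' hodd y hy hy1 e)
  -- the three nonidentity elements
  set a₁ := k * w * k⁻¹ with ha₁
  set a₂ := k * a₁ * k⁻¹ with ha₂
  have ha₁W : a₁ ∈ W := (mem_normalizer_iff.1 hkW w).1 hw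
  have ha₂W : a₂ ∈ W := (mem_normalizer_iff.1 hkW a₁).1 ha₁W
  have ha₁1 : a₁ ≠ 1 := fun e => hw1 (conj_eq_one_iff.1 e)
  have ha₂1 : a₂ ≠ 1 := fun e => ha₁1 (conj_eq_one_iff.1 e)
  have h12 : a₂ ≠ a₁ := hmove a₁ ha₁W ha₁1
  have h01 : a₁ ≠ w := hmove w hw hw1
  have h02 : a₂ ≠ w := fun e => hkk1 (hfix _ (mul_mem hkL hkL) (mul_mem hkW hkW) (mul_mem hkW' hkW') hk2o w hw
    hw1 (by rw [ha₂, ha₁] at e; simpa [mul_assoc] using e))
  have hall : ∀ y ∈ W, y ≠ 1 → y = w ∨ y = a₁ ∨ y = a₂ := by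
    intro y hy hy1
    by_contra hc
    rw [not_or, not_or] at hc
    have hsub : (({1, w, a₁, a₂, y} : Finset G) : Set G) ⊆ (W : Set G) := by
      intro t ht
      simp only [Finset.coe_insert, Finset.coe_singleton, Set.mem_insert_iff, Set.mem_singleton_iff] at ht
      rcases ht with rfl | rfl | rfl | rfl | rfl
      exacts [one_mem W, hw, ha₁W, ha₂W, hy]
    have h1 := Set.ncard_le_ncard hsub
    rw [Set.ncard_coe_finset, ← Nat.card_coe_set_eq] at h1
    change _ ≤ Nat.card W at h1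
    rw [Finset.card_insert_of_notMem (by
          simp only [Finset.mem_insert, Finset.mem_singleton, not_or]
          exact ⟨hw1.symm, ha₁1.symm, ha₂1.symm, hy1.symm⟩),
      Finset.card_insert_of_notMem (by
          simp only [Finset.mem_insert, Finset.mem_singleton, not_or]
          exact ⟨h01.symm, h02.symm, fun e => hc.1 e.symm⟩),
      Finset.card_insert_of_notMem (by
          simp only [Finset.mem_insert, Finset.mem_singleton, not_or]
          exact ⟨h12.symm, fun e => hc.2.1 e.symm⟩),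
      Finset.card_insert_of_notMem (by
          simp only [Finset.mem_singleton]
          exact fun e => hc.2.2 e.symm), Finset.card_singleton, hr] at h1
    omega
  have hk3 : k ^ 3 = 1 := by
    refine hfix _ (pow_mem hkL 3) (pow_mem hkW 3) (pow_mem hkW' 3) (Odd.of_dvd_nat hodd (orderOf_pow_dvd 3))
      w hw hw1 ?_
    have e3 : k ^ 3 * w * (k ^ 3)⁻¹ = k * a₂ * k⁻¹ := by rw [ha₂, ha₁, pow_succ, pow_two]; group
    rw [e3]
    rcases hall _ ((mem_normalizer_iff.1 hkW a₂).1 ha₂W) (fun e => ha₂1 (conj_eq_one_iff.1 e)) with e | e | e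
    · exact e
    · exact absurd (mul_left_cancel (mul_right_cancel (e.trans ha₁))) h02
    · exact absurd e (hmove a₂ ha₂W ha₂1)
  have hkA := o.stab_norm_A h hkL hkW
  refine ⟨k, hkL, hk3, hk1, ?_, hkA, hkW, hmove, fun u hu huR huo hu1 => ?_⟩
  · rw [o.R_eq h]; exact o.mem_norm_AQ_of h hkL hkW
  have huW : u ∈ normalizer (W : Set G) := o.mem_norm_W_of h hu (by rw [← o.R_eq h]; exact huR)
  obtain ⟨b, hb, hj, hjW, hjW'⟩ := o.decomp_N h hx hne hu huW
  set j := b⁻¹ * u with hjdef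
  have hkR : k ∈ normalizer (R : Set G) := by rw [o.R_eq h]; exact o.mem_norm_AQ_of h hkL hkW
  have key : ∀ e : G, e ∈ L → e ∈ normalizer (W : Set G) → e ∈ normalizer ((cj x W : Subgroup G) : Set G) →
      e * w * e⁻¹ = j * w * j⁻¹ → e ∈ normalizer (R : Set G) → ∃ ρ ∈ R, u = ρ * e := by
    intro e he heW heW' hee heR
    have hq := o.mem_core_of_fixed h hx hne (mul_mem (inv_mem he) hj) (mul_mem (inv_mem heW) hjW)
      (mul_mem (inv_mem heW') hjW') hw hw1 (by
        calc e⁻¹ * j * w = e⁻¹ * (j * w * j⁻¹) * j := by group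
          _ = w * (e⁻¹ * j) := by rw [← hee]; group)
    refine ⟨b * (e * (e⁻¹ * j) * e⁻¹), R.mul_mem (o.max.1 hb)
      ((mem_normalizer_iff.1 heR _).1 (o.QR hq)), ?_⟩
    rw [hjdef]; group
  have conc : ∀ e : G, Odd (orderOf e) → e ≠ 1 → e ∈ normalizer (R : Set G) → ∀ ρ ∈ R, u = ρ * e →
      ∃ q ∈ R, u = q⁻¹ * e * q := by
    intro e heo he1 heR ρ hρ hue
    obtain ⟨q, hq, hqe⟩ := h.exists_inv_mul_conj o.hR heo he1 heR hρ
    refine ⟨q, hq, ?_⟩
    rw [hue, ← hqe]; group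
  rcases hall _ ((mem_normalizer_iff.1 hjW w).1 hw) (fun e => hw1 (conj_eq_one_iff.1 e)) with e | e | e
  · exfalso
    obtain ⟨ρ, hρ, hue⟩ := key 1 (one_mem _) (one_mem _) (one_mem _) (by simpa using e.symm) (one_mem _)
    obtain ⟨n, hn⟩ := IsPGroup.iff_orderOf.1 o.hR ⟨u, by rw [hue, mul_one]; exact hρ⟩
    rw [orderOf_mk] at hn
    exact hu1 (Invol.JComp.eq_one_of_odd_of_two huo (n := n) (by rw [← hn, pow_orderOf_eq_one]))
  · obtain ⟨ρ, hρ, hue⟩ := key k hkL hkW hkW' e.symm hkR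
    obtain ⟨q, hq, hqe⟩ := conc k hodd hk1 hkR ρ hρ hue
    exact ⟨q, hq, Or.inl hqe⟩
  · obtain ⟨ρ, hρ, hue⟩ := key (k * k) (mul_mem hkL hkL) (mul_mem hkW hkW) (mul_mem hkW' hkW')
      (by rw [e, ha₂, ha₁]; group) (mul_mem hkR hkR)
    obtain ⟨q, hq, hqe⟩ := conc (k * k) hk2o hkk1 (mul_mem hkR hkR) ρ hρ hue
    exact ⟨q, hq, Or.inr hqe⟩

/-- The common Sylow subgroup of the parabolics is a Sylow subgroup of the group. -/
theorem Pair.sylow_le (h : IsCIT G) [IsSimpleGroup G] (hG : ¬ IsMulCommutative G) {T : Sylow 2 G}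
    (p : Pair T L L' R A V) (hr : Nat.card ↥(A ⊓ V) = 4) : (T : Subgroup G) ≤ R := by
  classical
  haveI := Fact.mk Nat.prime_two
  set W := A ⊓ V with hWdef
  have o := p.o
  have o' := p.o'
  have hcV : Nat.card V = 16 := by rw [o.card_V h, hr]
  have hcA : Nat.card A = 16 := by rw [o.card_A h, hcV]
  have el16 : ∀ B : Subgroup G, B ≤ R → El B → Nat.card B = 16 → B = V ∨ B = A := by
    intro B hBR hB hc
    rcases o.el_cases h hBR hB with e | e
    · exact Or.inl (Subgroup.eq_of_le_of_card_ge e (by rw [hc, hcV]))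
    · exact Or.inr (Subgroup.eq_of_le_of_card_ge e (by rw [hc, hcA]))
  have hVA : V ≠ A := fun e => o.notle e.ge
  by_contra hT
  haveI : Group.IsNilpotent (T : Subgroup G) := T.isPGroup'.isNilpotent
  have hlt : R.subgroupOf (T : Subgroup G) < ⊤ := lt_top_iff_ne_top.2 fun e => hT (subgroupOf_eq_top.1 e)
  obtain ⟨g₀', hg₀', hg₀n'⟩ := SetLike.exists_of_lt (Group.normalizerCondition_of_isNilpotent _ hlt)
  set g₀ : G := (g₀' : G) with hg₀def
  have hg₀T : g₀ ∈ (T : Subgroup G) := g₀'.2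
  have hg₀R : g₀ ∉ R := fun e => hg₀n' (mem_subgroupOf.2 e)
  have hg₀N : g₀ ∈ normalizer (R : Set G) :=
    mem_normalizer_fintype fun y hy => (mem_normalizer_iff.1 hg₀' ⟨y, p.RT hy⟩).1 hy
  have notL : ∀ y ∈ (T : Subgroup G), y ∈ L → y ∈ R := fun y hy hyL =>
    o.sylow_max h (sup_le o.RL (zpowers_le.2 hyL)) (T.isPGroup'.to_le (sup_le p.RT (zpowers_le.2 hy)))
      le_sup_left (mem_sup_right (mem_zpowers y))
  have swap : ∀ g ∈ (T : Subgroup G), g ∈ normalizer (R : Set G) → g ∉ R → cj g V = A ∧ cj g A = V := by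
    intro g hgT hgN hgR
    have h1 : cj g V = A := (el16 _ ((cj_mono o.QR).trans (cj_eq_self hgN).le) (o.hV.cj g)
      (by rw [card_cj, hcV])).resolve_left fun e =>
        hgR (notL g hgT (p.hL ▸ mem_normalizer_iff_cj.2 e))
    refine ⟨h1, (el16 _ ((cj_mono o.max.1).trans (cj_eq_self hgN).le) (o.max.2.1.cj g)
      (by rw [card_cj, hcA])).resolve_right fun e => hVA ?_⟩
    have := congrArg (cj g⁻¹) (h1.trans e.symm)
    rwa [cj_inv_cj, cj_inv_cj] at this
  obtain ⟨k, hkL, hk3, hk1, hkR, hkA, hkW, hkmove, hkcon⟩ := o.exists_three h hr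
  have hko : Odd (orderOf k) := by
    haveI := Fact.mk Nat.prime_three
    rw [orderOf_eq_prime hk3 hk1]; decide
  -- an involution inverting `k`
  obtain ⟨g, hgT, hgN, hgR, hgk⟩ : ∃ g ∈ (T : Subgroup G), g ∈ normalizer (R : Set G) ∧ g ∉ R ∧
      g * k * g⁻¹ = k * k := by
    have huL : g₀ * k * g₀⁻¹ ∈ L := by
      rw [← p.hL, ← (swap g₀ hg₀T hg₀N hg₀R).2, normalizer_cj]
      exact conj_mem_cj hkA
    obtain ⟨q, hq, hqe⟩ := hkcon _ huL (mul_mem (mul_mem hg₀N hkR) (inv_mem hg₀N))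
      (Invol.JComp.odd_orderOf_conj hko) (fun e => hk1 (conj_eq_one_iff.1 e))
    refine ⟨q * g₀, mul_mem (p.RT hq) hg₀T, mul_mem (le_normalizer hq) hg₀N,
      fun e => hg₀R (by have := R.mul_mem (inv_mem hq) e; rwa [inv_mul_cancel_left] at this), ?_⟩
    rcases hqe with e | e
    · exfalso
      have hc : Commute k (q * g₀) := by
        show k * (q * g₀) = q * g₀ * k
        calc k * (q * g₀) = q * (q⁻¹ * k * q) * g₀ := by group
          _ = q * g₀ * k := by rw [← e]; group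
      have h1 := h.fpf T.isPGroup' hko hk1 (mul_mem (p.RT hq) hg₀T) hc
      exact hg₀R (by rw [eq_inv_of_mul_eq_one_right h1]; exact inv_mem hq)
    · calc q * g₀ * k * (q * g₀)⁻¹ = q * (g₀ * k * g₀⁻¹) * q⁻¹ := by group
        _ = k * k := by rw [e]; group
  obtain ⟨hgV, hgA⟩ := swap g hgT hgN hgR
  have hg2 : g * g = 1 := by
    refine h.fpf T.isPGroup' hko hk1 (mul_mem hgT hgT) ?_
    have h4 : k * k * (k * k) = k := by
      calc k * k * (k * k) = k ^ 3 * k := by rw [pow_succ, pow_two]; group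
        _ = k := by rw [hk3, one_mul]
    show k * (g * g) = g * g * k
    calc k * (g * g) = g * k * g⁻¹ * (g * k * g⁻¹) * (g * g) := by rw [hgk, h4]
      _ = g * (k * k) * g := by group
      _ = g * g * k := by rw [← hgk]; group
  have hgi : g⁻¹ = g := inv_eq_of_mul_eq_one_right hg2
  have hgo : orderOf g = 2 := Invol.orderOf_two_iff.2 ⟨hg2, fun e => hgR (e ▸ one_mem R)⟩
  have hgW : g ∈ normalizer (W : Set G) := by
    refine mem_normalizer_fintype fun y hy => ⟨?_, ?_⟩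
    · show g * y * g⁻¹ ∈ A
      rw [← hgV]; exact conj_mem_cj hy.2
    · show g * y * g⁻¹ ∈ V
      rw [← hgA]; exact conj_mem_cj hy.1
  obtain ⟨z, hzW, hz1, hzc⟩ := exists_fixed_mem (T.isPGroup'.to_le (zpowers_le.2 hgT))
    (o.hV.mono inf_le_right).isPGroup (o.W_ne_bot h) (zpowers_le.2 hgW)
  have hgz : g * z = z * g := hzc g (mem_zpowers g)
  have hcomW : ∀ r ∈ R, ∀ w ∈ W, r * w = w * r := fun r hr' w hw => o.comm_W h (o.R_eq h ▸ hr') hw
  -- `g` fixes only `1` and `z` in `W`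
  have uniq : ∀ f ∈ W, f ≠ 1 → g * f = f * g → f = z := by
    intro f hf hf1 hgf
    by_contra hne
    have hall : ∀ y ∈ W, g * y = y * g := by
      intro y hy
      have hsub : (({1, z, f, z * f} : Finset G) : Set G) ⊆ (W : Set G) := by
        intro t ht
        simp only [Finset.coe_insert, Finset.coe_singleton, Set.mem_insert_iff, Set.mem_singleton_iff] at ht
        rcases ht with rfl | rfl | rfl | rfl
        exacts [one_mem W, hzW, hf, mul_mem hzW hf]
      have hc4 : ({1, z, f, z * f} : Finset G).card = 4 := by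
        have e1 : z * f ≠ 1 := fun e => hne ((eq_inv_of_mul_eq_one_right e).trans (o.hV.inv_eq hzW.2))
        have e2 : z * f ≠ z := fun e => hf1 (mul_eq_left.1 e)
        have e3 : z * f ≠ f := fun e => hz1 (mul_eq_right.1 e)
        rw [Finset.card_insert_of_notMem (by
              simp only [Finset.mem_insert, Finset.mem_singleton, not_or]
              exact ⟨hz1.symm, hf1.symm, e1.symm⟩),
          Finset.card_insert_of_notMem (by
              simp only [Finset.mem_insert, Finset.mem_singleton, not_or]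
              exact ⟨fun e => hne e.symm, e2.symm⟩),
          Finset.card_insert_of_notMem (by simp only [Finset.mem_singleton]; exact e3.symm),
          Finset.card_singleton]
      have heq := Set.eq_of_subset_of_ncard_le hsub (by
        rw [Set.ncard_coe_finset, hc4, ← Nat.card_coe_set_eq]
        exact hr.le)
      have hy' : y ∈ (({1, z, f, z * f} : Finset G) : Set G) := by rw [heq]; exact hy
      simp only [Finset.coe_insert, Finset.coe_singleton, Set.mem_insert_iff, Set.mem_singleton_iff] at hy'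
      rcases hy' with rfl | rfl | rfl | rfl
      · simp
      · exact hgz
      · exact hgf
      · exact ((show Commute g z from hgz).mul_right hgf).eq
    have hky : k * z * k⁻¹ ∈ W := (mem_normalizer_iff.1 hkW z).1 hzW
    have hcg : ∀ y ∈ W, g * y * g⁻¹ = y := fun y hy => by rw [hall y hy, mul_inv_cancel_right]
    refine hkmove (k * z * k⁻¹) hky (fun e => hz1 (conj_eq_one_iff.1 e)) ?_
    calc k * (k * z * k⁻¹) * k⁻¹ = k * k * z * (k * k)⁻¹ := by group
      _ = g * (k * (g⁻¹ * z * g) * k⁻¹) * g⁻¹ := by rw [← hgk]; group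
      _ = g * (k * z * k⁻¹) * g⁻¹ := by rw [show g⁻¹ * z * g = z by rw [mul_assoc, ← hgz, inv_mul_cancel_left]]
      _ = k * z * k⁻¹ := hcg _ hky
  -- a square root of `z` centralised by `g`
  obtain ⟨d, hdR, hdg, hdz⟩ : ∃ d ∈ R, g * d = d * g ∧ d * d = z := by
    obtain ⟨v, hv, hvW⟩ := o.exists_notMem h
    set q := g * v * g⁻¹ with hq
    have hqA : q ∈ A := hgV ▸ conj_mem_cj hv
    have hqV : q ∉ V := fun e => hvW (by
      have h1 := (mem_normalizer_iff''.1 hgW q).1 (⟨hqA, e⟩ : q ∈ W)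
      rwa [show g⁻¹ * q * g = v by rw [hq]; group] at h1)
    have hq2 := o.max.2.1.2 q hqA
    have hv2 := o.hV.2 v hv
    have hvi : v⁻¹ = v := o.hV.inv_eq hv
    have hqi : q⁻¹ = q := o.max.2.1.inv_eq hqA
    set f := v * q * v * q with hf
    have hf' : f = v * (q * v * q⁻¹ * v⁻¹) * v := by
      calc f = v * q * v * q⁻¹ := by rw [hqi]
        _ = _ := by group
    have hfW : f ∈ W := by
      have hm := o.com_mem h hqA hv
      rw [hf', o.hV.1 v hv _ hm.2, mul_assoc, hv2, mul_one]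
      exact hm
    have hgqg : g * q * g⁻¹ = v := by
      rw [hq, show g * (g * v * g⁻¹) * g⁻¹ = g * g * v * (g * g)⁻¹ by group, hg2, one_mul, inv_one, mul_one]
    have hf1 : f ≠ 1 := fun e => hvW (o.fixed_mem h hqA hqV hv (by
      calc q * v = (v * q)⁻¹ := by rw [mul_inv_rev, hvi, hqi]
        _ = v * q * (v * q * v * q)⁻¹ := by group
        _ = v * q := by rw [← hf, e, inv_one, mul_one]))
    have hfinv : g * f * g⁻¹ = f := by
      calc g * f * g⁻¹ = (g * v * g⁻¹) * (g * q * g⁻¹) * (g * v * g⁻¹) * (g * q * g⁻¹) := by rw [hf]; group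
        _ = q * v * q * v := by rw [hgqg, ← hq]
        _ = q⁻¹ * v⁻¹ * q⁻¹ * v⁻¹ := by rw [hvi, hqi]
        _ = f⁻¹ := by rw [hf]; group
        _ = f := o.hV.inv_eq hfW.2
    have hfz : f = z := uniq f hfW hf1 (mul_inv_eq_iff_eq_mul.1 hfinv)
    obtain ⟨c, hc, hgc⟩ : ∃ c ∈ W, g * c ≠ c * g := by
      by_contra hcon
      push Not at hcon
      have hw' : k * z * k⁻¹ ∈ W := (mem_normalizer_iff.1 hkW z).1 hzW
      exact hkmove z hzW hz1 (uniq _ hw' (fun e => hz1 (conj_eq_one_iff.1 e)) (hcon _ hw'))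
    have hc' : g * c * g⁻¹ ∈ W := (mem_normalizer_iff.1 hgW c).1 hc
    have hci : c⁻¹ = c := o.hV.inv_eq hc.2
    have hcz : g * c * g⁻¹ = c * z := by
      have h1 : c * (g * c * g⁻¹) = z := by
        refine uniq _ (mul_mem hc hc') (fun e => hgc ?_) ?_
        · have h2 : g * c * g⁻¹ = c := (eq_inv_of_mul_eq_one_right e).trans hci
          exact mul_inv_eq_iff_eq_mul.1 h2
        · refine mul_inv_eq_iff_eq_mul.1 ?_
          calc g * (c * (g * c * g⁻¹)) * g⁻¹ = g * c * g⁻¹ * (g * g * c * (g * g)⁻¹) := by group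
            _ = g * c * g⁻¹ * c := by rw [hg2, one_mul, inv_one, mul_one]
            _ = c * (g * c * g⁻¹) := o.hV.1 _ hc'.2 c hc.2
      rw [← h1, ← mul_assoc, o.hV.2 c hc.2, one_mul]
    have hvqR : v * q ∈ R := R.mul_mem (o.QR hv) (o.max.1 hqA)
    have hz2 : z * z = 1 := o.hV.2 z hzW.2
    have hqv : q * v = v * q * z := by
      calc q * v = (v * q)⁻¹ := by rw [mul_inv_rev, hvi, hqi]
        _ = v * q * (v * q * v * q)⁻¹ := by group
        _ = v * q * z := by rw [← hf, hfz, o.hV.inv_eq hzW.2]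
    refine ⟨v * q * c, R.mul_mem hvqR (o.QR hc.2), mul_inv_eq_iff_eq_mul.1 ?_, ?_⟩
    · calc g * (v * q * c) * g⁻¹ = (g * v * g⁻¹) * (g * q * g⁻¹) * (g * c * g⁻¹) := by group
        _ = q * v * (c * z) := by rw [hgqg, ← hq, hcz]
        _ = v * q * (z * (c * z)) := by rw [hqv]; group
        _ = v * q * c := by rw [← o.hV.1 _ (mul_mem hc.2 hzW.2) z hzW.2, mul_assoc c, hz2, mul_one]
    · calc v * q * c * (v * q * c) = v * q * (c * (v * q)) * c := by group
        _ = v * q * v * q * (c * c) := by rw [← hcomW _ hvqR c hc]; group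
        _ = z := by rw [o.hV.2 c hc.2, mul_one, ← hf, hfz]
  -- `T` is `R` extended by `g`
  set R₁ := R ⊔ zpowers g with hR₁
  have hR₁T : R₁ ≤ (T : Subgroup G) := sup_le p.RT (zpowers_le.2 hgT)
  have hgn : zpowers g ≤ normalizer (R : Set G) := zpowers_le.2 hgN
  have hR₁card : Nat.card R₁ = 2 * Nat.card R := by
    have h1 := Grp.card_sup_mul_card_inf hgn
    have h2 : zpowers g ⊓ R = ⊥ := by
      rw [eq_bot_iff]
      rintro y ⟨hy, hyR⟩
      obtain ⟨i, rfl⟩ := mem_zpowers_iff.1 hy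
      rcases Int.even_or_odd i with ⟨j, rfl⟩ | ⟨j, rfl⟩
      · rw [mem_bot, zpow_add, ← (Commute.refl g).mul_zpow, hg2, one_zpow]
      · exfalso
        refine hgR ?_
        rwa [zpow_add, two_mul, zpow_add, ← (Commute.refl g).mul_zpow, hg2, one_zpow, one_mul, zpow_one] at hyR
    rw [h2, Subgroup.card_bot, mul_one, Nat.card_zpowers, hgo, sup_comm] at h1
    exact h1
  have el₁ : ∀ B : Subgroup G, B ≤ R₁ → El B → 16 ≤ Nat.card B → B ≤ R := by
    intro B hB1 hBe hBc
    by_contra hn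
    obtain ⟨b, hb, hbR⟩ := SetLike.not_le_iff_exists.1 hn
    have hbN : b ∈ normalizer (R : Set G) := (sup_le le_normalizer hgn) (hB1 hb)
    obtain ⟨hbV, hbA⟩ := swap b (hR₁T (hB1 hb)) hbN hbR
    have hnB : B ≤ normalizer (R : Set G) := hB1.trans (sup_le le_normalizer hgn)
    have h1 := Grp.card_sup_mul_card_inf hnB
    have h2 : Nat.card ↥(B ⊔ R) ≤ 2 * Nat.card R := hR₁card ▸ Subgroup.card_le_of_le (sup_le hB1 le_sup_left)
    have h8 : 8 ≤ Nat.card ↥(B ⊓ R) := by
      have hpos := Nat.card_pos (α := R)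
      nlinarith
    have hsmall : B ⊓ R ≤ W := by
      have hfix : ∀ y ∈ B ⊓ R, b * y * b⁻¹ = y := fun y hy => by
        rw [hBe.1 b hb y hy.1, mul_inv_cancel_right]
      rcases o.el_cases h inf_le_right (hBe.mono inf_le_left) with e | e
      · exact fun y hy => ⟨by rw [← hbV, ← hfix y hy]; exact conj_mem_cj (e hy), e hy⟩
      · exact fun y hy => ⟨e hy, by rw [← hbA, ← hfix y hy]; exact conj_mem_cj (e hy)⟩
    have := Subgroup.card_le_of_le hsmall
    omega
  have hTR₁ : (T : Subgroup G) = R₁ := by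
    refine le_antisymm ?_ hR₁T
    by_contra hne
    have hlt' : R₁.subgroupOf (T : Subgroup G) < ⊤ := lt_top_iff_ne_top.2 fun e => hne (subgroupOf_eq_top.1 e)
    obtain ⟨y, hy, hyn⟩ := SetLike.exists_of_lt (Group.normalizerCondition_of_isNilpotent _ hlt')
    refine hyn (mem_subgroupOf.2 ?_)
    have hyR₁ : (y : G) ∈ normalizer (R₁ : Set G) :=
      mem_normalizer_fintype fun t ht => (mem_normalizer_iff.1 hy ⟨t, hR₁T ht⟩).1 ht
    have him : ∀ B : Subgroup G, B ≤ R₁ → El B → Nat.card B = 16 → cj (y : G) B ≤ R := fun B hB hBe hBc =>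
      el₁ _ ((cj_mono hB).trans (cj_eq_self hyR₁).le) (hBe.cj _) (by rw [card_cj, hBc])
    have hyN : (y : G) ∈ normalizer (R : Set G) := mem_normalizer_of_cj_le (by
      rw [o.R_eq h, show cj (y : G) (A ⊔ V) = cj (y : G) A ⊔ cj (y : G) V from Subgroup.map_sup _ _ _,
        ← o.R_eq h]
      exact sup_le (him A (o.max.1.trans le_sup_left) o.max.2.1 hcA)
        (him V (o.QR.trans le_sup_left) o.hV hcV))
    by_cases hyR : (y : G) ∈ R
    · exact mem_sup_left hyR
    obtain ⟨hyV, -⟩ := swap y y.2 hyN hyR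
    have hL' : g * y ∈ L := by
      rw [← p.hL]
      exact mem_normalizer_iff_cj.2 (by rw [cj_mul, hyV, hgA])
    have hgy := notL _ (mul_mem hgT y.2) hL'
    rw [show (y : G) = g⁻¹ * (g * y) by group]
    exact R₁.mul_mem (mem_sup_right (inv_mem (mem_zpowers g))) (mem_sup_left hgy)
  -- fusion
  have hzo : orderOf z = 2 := o.hV.orderOf_eq_two hzW.2 hz1
  have hrel : R.relIndex (T : Subgroup G) = 2 := by
    have h1 := card_mul_index (R.subgroupOf (T : Subgroup G))
    rw [Nat.card_congr (subgroupOfEquivOfLe p.RT).toEquiv, ← relIndex, hTR₁, hR₁card, mul_comm 2] at h1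
    rw [hTR₁]
    exact Nat.eq_of_mul_eq_mul_left Nat.card_pos h1
  obtain ⟨u, hu⟩ : ∃ u : G, u * z * u⁻¹ = g := by
    rcases S0111.result T R p.RT hrel g hgo hgT hgR with ⟨N, hN, hNi, hgN'⟩ | ⟨y, hy⟩
    · exfalso
      rcases IsSimpleGroup.eq_bot_or_eq_top_of_normal N hN with e | e
      · rw [e, index_bot] at hNi
        haveI := Fact.mk Nat.prime_two
        haveI : IsCyclic G := isCyclic_of_prime_card hNi
        exact hG ⟨⟨fun a b => IsCyclic.commGroup.mul_comm a b⟩⟩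
      · rw [e, index_top] at hNi; omega
    · have hi2 : y * g * y⁻¹ * (y * g * y⁻¹) = 1 := by rw [conj_mul, hg2, mul_one, mul_inv_cancel]
      have hi1 : y * g * y⁻¹ ≠ 1 := fun e => hgR (conj_eq_one_iff.1 e ▸ one_mem R)
      obtain ⟨l, hl⟩ : ∃ l : G, l * z * l⁻¹ = y * g * y⁻¹ := by
        rcases o.el_cases h (zpowers_le.2 hy) (El.zpowers hi2) with e | e
        · obtain ⟨l, -, hl⟩ := o.exists_conj_V h hzW hz1 (e (mem_zpowers _)) hi1
          exact ⟨l, hl⟩
        · obtain ⟨l, -, hl⟩ := o'.exists_conj_V h (w := z) ⟨hzW.2, hzW.1⟩ hz1 (e (mem_zpowers _)) hi1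
          exact ⟨l, hl⟩
      refine ⟨y⁻¹ * l, ?_⟩
      calc y⁻¹ * l * z * (y⁻¹ * l)⁻¹ = y⁻¹ * (l * z * l⁻¹) * y := by group
        _ = g := by rw [hl]; group
  have hCz : Subgroup.centralizer ({z} : Set G) = (T : Subgroup G) := by
    refine isPGroup_eq_centralizer h hzo T fun s hs => ?_
    rw [hTR₁] at hs
    exact (mem_centralizer_singleton_iff.1 (sup_le (fun r hr' => mem_centralizer_singleton_iff.2 (hcomW r hr' z hzW))
      (zpowers_le.2 (mem_centralizer_singleton_iff.2 hgz)) hs))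
  have hCg : ∀ t : G, g * t = t * g → u⁻¹ * t * u ∈ (T : Subgroup G) := by
    intro t ht
    rw [← hCz, mem_centralizer_singleton_iff]
    calc u⁻¹ * t * u * z = u⁻¹ * (t * (u * z * u⁻¹)) * u := by group
      _ = u⁻¹ * (g * t) * u := by rw [hu, ht]
      _ = z * (u⁻¹ * t * u) := by rw [← hu]; group
  have hd' := hCg d hdg
  have hidx2 : (R.subgroupOf (T : Subgroup G)).index = 2 := hrel
  have hz' : u⁻¹ * z * u ∈ R := by
    have h1 := mem_subgroupOf.1 (mul_self_mem_of_index_two hidx2 ⟨_, hd'⟩)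
    have h1' : u⁻¹ * d * u * (u⁻¹ * d * u) ∈ R := h1
    rwa [show u⁻¹ * d * u * (u⁻¹ * d * u) = u⁻¹ * (d * d) * u by group, hdz] at h1'
  have hz'2 : u⁻¹ * z * u * (u⁻¹ * z * u) = 1 := by
    rw [show u⁻¹ * z * u * (u⁻¹ * z * u) = u⁻¹ * (z * z) * u by group, o.hV.2 z hzW.2, mul_one, inv_mul_cancel]
  obtain ⟨B, hBR, hBe, hBc, hzB⟩ : ∃ B : Subgroup G, B ≤ R ∧ El B ∧ Nat.card B = 16 ∧ u⁻¹ * z * u ∈ B := by
    rcases o.el_cases h (zpowers_le.2 hz') (El.zpowers hz'2) with e | e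
    · exact ⟨V, o.QR, o.hV, hcV, e (mem_zpowers _)⟩
    · exact ⟨A, o.max.1, o.max.2.1, hcA, e (mem_zpowers _)⟩
  have hgB : ∀ b ∈ cj u B, g * b = b * g := by
    rintro _ ⟨b, hb, rfl⟩
    show g * (u * b * u⁻¹) = u * b * u⁻¹ * g
    rw [← hu]
    have h1 : z * b = b * z := by
      have hm : b ∈ Subgroup.centralizer ({z} : Set G) := by rw [hCz]; exact p.RT (hBR hb)
      exact (mem_centralizer_singleton_iff.1 hm).symm
    calc u * z * u⁻¹ * (u * b * u⁻¹) = u * (z * b) * u⁻¹ := by group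
      _ = u * (b * z) * u⁻¹ := by rw [h1]
      _ = u * b * u⁻¹ * (u * z * u⁻¹) := by group
  have hsub : cj u B ≤ R₁ := by
    intro b hb
    rw [← hTR₁, ← hCz, mem_centralizer_singleton_iff]
    obtain ⟨c, hc, rfl⟩ := hb
    show u * c * u⁻¹ * z = z * (u * c * u⁻¹)
    have h1 := hBe.1 c hc _ hzB
    calc u * c * u⁻¹ * z = u * (c * (u⁻¹ * z * u)) * u⁻¹ := by group
      _ = u * ((u⁻¹ * z * u) * c) * u⁻¹ := by rw [h1]
      _ = z * (u * c * u⁻¹) := by group
  have hcB : Nat.card (cj u B) = 16 := by rw [card_cj, hBc]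
  have hfix : ∀ X : Subgroup G, cj u B = X → cj g X = X := by
    rintro X rfl
    exact cj_eq_self (mem_normalizer_fintype fun b hb => by
      show g * b * g⁻¹ ∈ cj u B
      rw [hgB b hb, mul_inv_cancel_right]; exact hb)
  rcases el16 _ (el₁ _ hsub (hBe.cj u) hcB.ge) (hBe.cj u) hcB with e | e
  · exact hVA ((hfix V e).symm.trans hgV)
  · exact hVA (((hfix A e).symm.trans hgA)).symm

end Cfsg.Agent.Transfer.CIT
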