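import Mathlib
import Cfsg.Agent.Lib.Transfer.CIT.Swap

/-!
Orders and involution counts in a parabolic with fixed subgroup of order four.
-/

set_option autoImplicit false
set_option linter.style.haveILetI false
set_option linter.unusedSectionVars false

open scoped Pointwise

universe u

namespace Cfsg.Agent.Transfer.CIT

open Cfsg.Agent Subgroup

variable {G : Type u} [Group G] [Finite G] {L L' Q V R A : Subgroup G}

theorem card_ne_one (H : Subgroup G) : Nat.card {v : G // v ∈ H ∧ v ≠ 1} + 1 = Nat.card H := by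
  have e : Nat.card {v : G // v ∈ H ∧ v ≠ 1} = ((H : Set G) \ {1}).ncard := by
    rw [← Nat.card_coe_set_eq]; rfl
  rw [e, Set.ncard_sdiff_singleton_add_one (one_mem H) (Set.toFinite _), ← Nat.card_coe_set_eq]; rfl

theorem card_notMem (A B : Subgroup G) :
    Nat.card {a : G // a ∈ A ∧ a ∉ B} + Nat.card ↥(A ⊓ B) = Nat.card A := by
  have e : Nat.card {a : G // a ∈ A ∧ a ∉ B} = ((A : Set G) \ (B : Set G)).ncard := by
    rw [← Nat.card_coe_set_eq]; rfl
  have e2 : Nat.card ↥(A ⊓ B) = ((A : Set G) ∩ (B : Set G)).ncard := by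
    rw [← Nat.card_coe_set_eq]; rfl
  rw [e, e2, add_comm, Set.ncard_inter_add_ncard_sdiff_eq_ncard _ _ (Set.toFinite _), ← Nat.card_coe_set_eq]; rfl

theorem orderOf_two_mem_iff {B : Subgroup G} (hB : El B) {v : G} (hv : v ∈ B) : orderOf v = 2 ↔ v ≠ 1 :=
  ⟨Invol.ne_one_of_orderOf_two, hB.orderOf_eq_two hv⟩

namespace Off

theorem mem_core_of_fix_all (h : IsCIT G) (o : Off L Q V R A) {k : G} (hk : k ∈ L)
    (hall : ∀ y ∈ L, k ∈ normalizer ((cj y (A ⊓ V) : Subgroup G) : Set G)) : k ∈ Q := by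
  obtain ⟨x, hx, hne⟩ := o.exists_other h
  obtain ⟨a, ha, hna⟩ := SetLike.not_le_iff_exists.1 o.notle
  have hkW : k ∈ normalizer ((A ⊓ V : Subgroup G) : Set G) := by simpa [cj_one] using hall 1 (one_mem L)
  have hkW' := hall x hx
  have hkaW := hall (a * x) (mul_mem (o.AL ha) hx)
  set b := k * a * k⁻¹ with hb
  have hbAQ : b ∈ A ⊔ Q :=
    (mem_normalizer_iff.1 (o.mem_norm_AQ_of h hk hkW) a).1 (mem_sup_left ha)
  have hfix : a⁻¹ * b ∈ normalizer ((cj x (A ⊓ V) : Subgroup G) : Set G) := by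
    rw [mem_normalizer_iff_cj, hb, show a⁻¹ * (k * a * k⁻¹) = a⁻¹ * (k * (a * k⁻¹)) by group, cj_mul, cj_mul,
      cj_mul, cj_eq_self (Subgroup.inv_mem _ hkW'), ← cj_mul a x, cj_eq_self hkaW, ← cj_mul, inv_mul_cancel_left]
  have hq : a⁻¹ * b ∈ Q := by
    by_contra hn
    exact hne (o.eq_of_fixes h hx (mul_mem (mem_sup_left (inv_mem ha)) hbAQ) hn hfix)
  have hc : k * a * k⁻¹ * a⁻¹ ∈ Q := by
    have := (mem_normalizer_iff.1 (o.LQ (o.AL ha)) _).1 hq
    rwa [mul_inv_cancel_left] at this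
  obtain ⟨n, hn⟩ := h.two_pow_of_comm o.hQ (o.LQ (o.AL ha)) hna (k := 1)
    (by rw [pow_one, pow_two, o.max.2.1.2 a ha]; exact one_mem Q) (o.LQ hk) hc
  exact o.mem_core_of_two h hx hne hk hkW hkW' hn

/-- An involution of the parabolic outside `V` is conjugate to one of `A` outside `V`. -/
theorem exists_conj_A (h : IsCIT G) (o : Off L V V R A) {i : G} (hi : i ∈ L) (hi2 : orderOf i = 2)
    (hn : i ∉ V) : ∃ y ∈ L, y⁻¹ * i * y ∈ A ∧ y⁻¹ * i * y ∉ V := by
  haveI := Fact.mk Nat.prime_two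
  have hp : IsPGroup 2 (zpowers i) := Invol.isPGroup_zpowers (n := 1) (by rw [hi2, pow_one])
  obtain ⟨d, hd, hd1, hdc⟩ := exists_fixed_mem hp o.hV.isPGroup o.V1 (zpowers_le.2 (o.LV hi))
  obtain ⟨⟨w, hw⟩, hw1'⟩ := Subgroup.ne_bot_iff_exists_ne_one.1 (o.W_ne_bot h)
  obtain ⟨y, hy, hye⟩ := o.exists_conj_V h hw (fun e => hw1' (Subtype.ext e)) hd hd1
  set j := y⁻¹ * i * y with hj
  have hjL : j ∈ L := mul_mem (mul_mem (inv_mem hy) hi) hy
  have hid : i * d = d * i := hdc i (mem_zpowers i)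
  have hjw : j ∈ L ⊓ Subgroup.centralizer ({w} : Set G) := by
    refine ⟨hjL, mem_centralizer_singleton_iff.2 ?_⟩
    calc j * w = y⁻¹ * (i * (y * w * y⁻¹)) * y := by rw [hj]; group
      _ = y⁻¹ * ((y * w * y⁻¹) * i) * y := by rw [hye, hid]
      _ = w * j := by rw [hj]; group
  have hjR : j ∈ R := by
    refine o.sylow_max h inf_le_left (o.isPGroup_cen h hw (fun e => hw1' (Subtype.ext e))) ?_ hjw
    intro r hr
    exact ⟨o.RL hr, mem_centralizer_singleton_iff.2 (o.comm_W h (o.R_eq h ▸ hr) hw)⟩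
  have hjV : j ∉ V := fun e => hn (by
    have := (mem_normalizer_iff.1 (o.LV hy) j).1 e
    rwa [show y * j * y⁻¹ = i by rw [hj]; group] at this)
  have hj2 : j * j = 1 := by
    rw [hj, show y⁻¹ * i * y * (y⁻¹ * i * y) = y⁻¹ * (i * i) * y by group, Invol.mul_self_of_orderOf_two hi2,
      mul_one, inv_mul_cancel]
  rcases o.el_cases h (zpowers_le.2 hjR) (El.zpowers hj2) with e | e
  · exact absurd (e (mem_zpowers j)) hjV
  · exact ⟨y, hy, e (mem_zpowers j), hjV⟩

variable (h : IsCIT G) (o : Off L V V R A)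

include h o

theorem R_le_stab : R ≤ L ⊓ normalizer ((A ⊓ V : Subgroup G) : Set G) :=
  le_inf o.RL ((o.R_eq h).le.trans (o.AQ_le_norm_W h))

theorem card_stab (hr : Nat.card ↥(A ⊓ V) = 4) :
    Nat.card ↥(L ⊓ normalizer ((A ⊓ V : Subgroup G) : Set G)) = 192 := by
  classical
  set W := A ⊓ V with hWdef
  set H := L ⊓ normalizer (W : Set G) with hH
  set R' := R.subgroupOf H with hR'
  obtain ⟨x, hx, hne⟩ := o.exists_other h
  obtain ⟨⟨w, hw⟩, hw1'⟩ := Subgroup.ne_bot_iff_exists_ne_one.1 (o.W_ne_bot h)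
  have hw1 : w ≠ 1 := fun e => hw1' (Subtype.ext e)
  let f : H ⧸ R' → {v : G // v ∈ W ∧ v ≠ 1} := fun c =>
    ⟨(c.out : G) * w * (c.out : G)⁻¹, (mem_normalizer_iff.1 c.out.2.2 w).1 hw,
      fun e => hw1 (conj_eq_one_iff.1 e)⟩
  have hf : Function.Bijective f := by
    constructor
    · intro c d e
      have e' : (c.out : G) * w * (c.out : G)⁻¹ = d.out * w * (d.out : G)⁻¹ := congrArg Subtype.val e
      rw [← QuotientGroup.out_eq' c, ← QuotientGroup.out_eq' d, QuotientGroup.eq]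
      show (((c.out)⁻¹ * d.out : H) : G) ∈ R
      push_cast
      set u : G := (c.out : G)⁻¹ * d.out with hu
      have huH : u ∈ H := H.mul_mem (H.inv_mem c.out.2) d.out.2
      have hfx : u * w = w * u := by
        calc u * w = (c.out : G)⁻¹ * ((d.out : G) * w * (d.out : G)⁻¹) * d.out := by rw [hu]; group
          _ = w * u := by rw [← e', hu]; group
      show u ∈ R
      obtain ⟨a, ha, hjL, hjW, hjW'⟩ := o.decomp_N h hx hne huH.1 huH.2
      have hj : a⁻¹ * u ∈ V := o.mem_core_of_fixed h hx hne hjL hjW hjW' hw hw1 (by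
        exact (((show Commute a w from o.comm_W h (mem_sup_left ha) hw).inv_left).mul_left hfx).eq)
      rw [show u = a * (a⁻¹ * u) by group]
      exact R.mul_mem (o.max.1 ha) (o.QR hj)
    · rintro ⟨v, hv, hv1⟩
      obtain ⟨k, hk, hkW, -, hke⟩ := o.exists_trans_W h hx hne hw hw1 hv hv1
      refine ⟨QuotientGroup.mk (⟨k, hk, hkW⟩ : H), Subtype.ext ?_⟩
      obtain ⟨r, hr'⟩ := QuotientGroup.mk_out_eq_mul R' (⟨k, hk, hkW⟩ : H)
      show ((QuotientGroup.mk (⟨k, hk, hkW⟩ : H) : H ⧸ R').out : G) * w * _⁻¹ = v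
      rw [hr']
      push_cast
      have hrw := o.comm_W h (o.R_eq h ▸ (mem_subgroupOf.1 r.2)) hw
      calc k * ((r : H) : G) * w * (k * ((r : H) : G))⁻¹ = k * (((r : H) : G) * w * ((r : H) : G)⁻¹) * k⁻¹ := by
            group
        _ = v := by rw [hrw, mul_inv_cancel_right, hke]
  have h3 : R'.index = 3 := by
    rw [index_eq_card, Nat.card_eq_of_bijective f hf]
    have := card_ne_one W
    omega
  have h1 := R'.card_mul_index
  rw [h3, Nat.card_congr (subgroupOfEquivOfLe (o.R_le_stab h)).toEquiv, o.card_R h, hr] at h1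
  omega

theorem index_stab (hr : Nat.card ↥(A ⊓ V) = 4) :
    Nat.card (L ⧸ (L ⊓ normalizer ((A ⊓ V : Subgroup G) : Set G)).subgroupOf L) = 5 := by
  classical
  set W := A ⊓ V with hWdef
  set H := (L ⊓ normalizer (W : Set G)).subgroupOf L with hH
  obtain ⟨x, hx, hne⟩ := o.exists_other h
  set WA := W.subgroupOf A
  let g : Option (A ⧸ WA) → L ⧸ H := fun o' => o'.elim (QuotientGroup.mk 1)
    (fun c => QuotientGroup.mk (⟨(c.out : G) * x, mul_mem (o.AL c.out.2) hx⟩ : L))
  have key : ∀ y z : L, (QuotientGroup.mk y : L ⧸ H) = QuotientGroup.mk z ↔ cj (y : G) W = cj (z : G) W := by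
    intro y z
    rw [QuotientGroup.eq, hH, mem_subgroupOf]
    push_cast
    rw [mem_inf, mem_normalizer_iff_cj, cj_mul]
    constructor
    · intro e
      have := congrArg (cj (y : G)) e.2
      rwa [← cj_mul, mul_inv_cancel, cj_one, eq_comm] at this
    · intro e
      exact ⟨L.mul_mem (L.inv_mem y.2) z.2, by rw [← e, cj_inv_cj]⟩
  have hg : Function.Bijective g := by
    constructor
    · rintro (_ | c) (_ | d) e
      · rfl
      · exfalso
        have e' := (key _ _).1 e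
        simp only [OneMemClass.coe_one, cj_one, cj_mul] at e'
        apply hne
        have := congrArg (cj (d.out : G)⁻¹) e'
        rw [cj_inv_cj, cj_eq_self (Subgroup.inv_mem _ (o.AQ_le_norm_W h (mem_sup_left d.out.2)))] at this
        exact this.symm
      · exfalso
        have e' := (key _ _).1 e
        simp only [OneMemClass.coe_one, cj_one, cj_mul] at e'
        apply hne
        have := congrArg (cj (c.out : G)⁻¹) e'
        rw [cj_inv_cj, cj_eq_self (Subgroup.inv_mem _ (o.AQ_le_norm_W h (mem_sup_left c.out.2)))] at this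
        exact this
      · have e' := (key _ _).1 e
        simp only [cj_mul] at e'
        congr 1
        rw [← QuotientGroup.out_eq' c, ← QuotientGroup.out_eq' d, QuotientGroup.eq, mem_subgroupOf]
        push_cast
        set u : G := (c.out : G)⁻¹ * d.out with hu
        have huA : u ∈ A := A.mul_mem (A.inv_mem c.out.2) d.out.2
        by_contra hn
        refine hne (o.eq_of_fixes h hx (mem_sup_left huA) (fun e => hn ⟨huA, e⟩) (mem_normalizer_iff_cj.2 ?_))
        rw [hu, cj_mul, ← e', cj_inv_cj]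
    · intro c
      obtain ⟨y, rfl⟩ := QuotientGroup.mk_surjective c
      rcases o.orbit h hx hne y.2 with e | ⟨a, ha, e⟩
      · exact ⟨none, (key _ _).2 (by simp only [OneMemClass.coe_one, cj_one]; exact e.symm)⟩
      · refine ⟨some (QuotientGroup.mk (⟨a, ha⟩ : A)), (key _ _).2 ?_⟩
        obtain ⟨r, hr'⟩ := QuotientGroup.mk_out_eq_mul WA (⟨a, ha⟩ : A)
        rw [e]
        show cj (((QuotientGroup.mk (⟨a, ha⟩ : A) : A ⧸ WA).out : G) * x) W = _
        rw [hr', cj_mul, cj_mul]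
        push_cast
        rw [cj_mul]
        congr 1
        refine cj_eq_self (mem_normalizer_fintype fun t ht => ?_)
        show ((r : A) : G) * t * ((r : A) : G)⁻¹ ∈ cj x W
        rw [o.cenV _ (mem_subgroupOf.1 r.2).2 t (o.cj_W_le_V h hx ht), mul_inv_cancel_right]
        exact ht
  rw [← Nat.card_eq_of_bijective g hg, Finite.card_option]
  have h1 := WA.card_mul_index
  rw [index_eq_card, Nat.card_congr (subgroupOfEquivOfLe inf_le_left).toEquiv, o.card_A h, o.card_V h, hr] at h1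
  omega

theorem card_L (hr : Nat.card ↥(A ⊓ V) = 4) : Nat.card L = 960 := by
  have h1 := card_mul_index ((L ⊓ normalizer ((A ⊓ V : Subgroup G) : Set G)).subgroupOf L)
  rw [index_eq_card, o.index_stab h hr, Nat.card_congr (subgroupOfEquivOfLe inf_le_left).toEquiv,
    o.card_stab h hr] at h1
  omega

theorem card_invol (hr : Nat.card ↥(A ⊓ V) = 4) : Nat.card {i : G // orderOf i = 2 ∧ i ∈ L} = 75 := by
  classical
  set W := A ⊓ V with hWdef
  set H := (L ⊓ normalizer (W : Set G)).subgroupOf L with hH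
  let f : {v : G // v ∈ V ∧ v ≠ 1} ⊕ ((L ⧸ H) × {a : G // a ∈ A ∧ a ∉ V}) → {i : G // orderOf i = 2 ∧ i ∈ L} :=
    Sum.elim (fun v => ⟨v, o.hV.orderOf_eq_two v.2.1 v.2.2, o.QL v.2.1⟩)
      (fun p => ⟨(p.1.out : G) * p.2 * (p.1.out : G)⁻¹, by
        rw [Invol.orderOf_conj_eq]
        exact o.max.2.1.orderOf_eq_two p.2.2.1 (fun e => p.2.2.2 (e ▸ one_mem V)),
        mul_mem (mul_mem p.1.out.2 (o.AL p.2.2.1)) (inv_mem p.1.out.2)⟩)
  have hout : ∀ (y : L) (a : G), a ∉ V → (y : G) * a * (y : G)⁻¹ ∉ V := fun y a ha e =>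
    ha ((mem_normalizer_iff.1 (o.LV y.2) a).2 e)
  have hf : Function.Bijective f := by
    constructor
    · rintro (v | ⟨c, a⟩) (v' | ⟨c', a'⟩) e
      · exact congrArg Sum.inl (Subtype.ext (congrArg Subtype.val e :))
      · have e' : (v : G) = (c'.out : G) * a' * (c'.out : G)⁻¹ := congrArg Subtype.val e
        exact absurd (e' ▸ v.2.1) (hout c'.out a' a'.2.2)
      · have e' : (c.out : G) * a * (c.out : G)⁻¹ = (v' : G) := congrArg Subtype.val e
        exact absurd (e'.symm ▸ v'.2.1) (hout c.out a a.2.2)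
      · have e' : (c.out : G) * a * (c.out : G)⁻¹ = c'.out * a' * (c'.out : G)⁻¹ := congrArg Subtype.val e
        set u : G := (c'.out : G)⁻¹ * c.out with hu
        have hua : u * a * u⁻¹ = a' := by
          calc u * a * u⁻¹ = (c'.out : G)⁻¹ * ((c.out : G) * a * (c.out : G)⁻¹) * c'.out := by rw [hu]; group
            _ = a' := by rw [e']; group
        have huL : u ∈ L := L.mul_mem (L.inv_mem c'.out.2) c.out.2
        have hfix : cj u W = W := by
          refine o.eq_of_fixes h huL (mem_sup_left a'.2.1) a'.2.2 (mem_normalizer_iff_cj.2 ?_)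
          rw [← hua, ← cj_mul, show u * a * u⁻¹ * u = u * a by group, cj_mul,
            cj_eq_self (o.AQ_le_norm_W h (mem_sup_left a.2.1))]
        have hc : c = c' := by
          rw [← QuotientGroup.out_eq' c, ← QuotientGroup.out_eq' c', eq_comm, QuotientGroup.eq]
          show (((c'.out)⁻¹ * c.out : L) : G) ∈ L ⊓ normalizer (W : Set G)
          exact ⟨huL, mem_normalizer_iff_cj.2 hfix⟩
        subst hc
        rw [Subtype.ext (mul_left_cancel (mul_right_cancel e') : (a : G) = a')]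
    · rintro ⟨i, hi2, hiL⟩
      by_cases hiV : i ∈ V
      · exact ⟨Sum.inl ⟨i, hiV, Invol.ne_one_of_orderOf_two hi2⟩, rfl⟩
      obtain ⟨y, hy, hyA, hyn⟩ := o.exists_conj_A h hiL hi2 hiV
      set c : L ⧸ H := QuotientGroup.mk ⟨y, hy⟩ with hc
      obtain ⟨r, hr'⟩ := QuotientGroup.mk_out_eq_mul H (⟨y, hy⟩ : L)
      have hrH : ((r : L) : G) ∈ L ⊓ normalizer (W : Set G) := mem_subgroupOf.1 r.2
      set s : G := ((r : L) : G) with hs
      refine ⟨Sum.inr (c, ⟨s⁻¹ * (y⁻¹ * i * y) * s,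
        (mem_normalizer_iff''.1 (o.stab_norm_A h hrH.1 hrH.2) _).1 hyA,
        fun e => hyn ((mem_normalizer_iff''.1 (o.LV hrH.1) _).2 e)⟩), Subtype.ext ?_⟩
      show (c.out : G) * (s⁻¹ * (y⁻¹ * i * y) * s) * (c.out : G)⁻¹ = i
      rw [hc, hr']
      show y * s * (s⁻¹ * (y⁻¹ * i * y) * s) * (y * s)⁻¹ = i
      group
  rw [← Nat.card_eq_of_bijective f hf, Nat.card_sum, Nat.card_prod, o.index_stab h hr]
  have h1 := card_ne_one V
  have h2 := card_notMem A V
  rw [o.card_V h, hr] at h1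
  rw [o.card_A h, o.card_V h, hr] at h2
  omega

theorem card_invol_stab (hr : Nat.card ↥(A ⊓ V) = 4) :
    Nat.card {i : G // orderOf i = 2 ∧ i ∈ L ⊓ normalizer ((A ⊓ V : Subgroup G) : Set G)} = 27 := by
  classical
  set H := L ⊓ normalizer ((A ⊓ V : Subgroup G) : Set G)
  let f : {v : G // v ∈ V ∧ v ≠ 1} ⊕ {a : G // a ∈ A ∧ a ∉ V} → {i : G // orderOf i = 2 ∧ i ∈ H} :=
    Sum.elim (fun v => ⟨v, o.hV.orderOf_eq_two v.2.1 v.2.2, o.R_le_stab h (o.QR v.2.1)⟩)
      (fun a => ⟨a, o.max.2.1.orderOf_eq_two a.2.1 (fun e => a.2.2 (e ▸ one_mem V)),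
        o.R_le_stab h (o.max.1 a.2.1)⟩)
  have hf : Function.Bijective f := by
    constructor
    · rintro (v | a) (v' | a') e
      · exact congrArg Sum.inl (Subtype.ext (congrArg Subtype.val e :))
      · exact absurd ((congrArg Subtype.val e :) ▸ v.2.1) a'.2.2
      · exact absurd ((congrArg Subtype.val e :).symm ▸ v'.2.1) a.2.2
      · exact congrArg Sum.inr (Subtype.ext (congrArg Subtype.val e :))
    · rintro ⟨i, hi2, hi⟩
      haveI := Fact.mk Nat.prime_two
      have hiR : i ∈ R := o.sylow_max h (P := R ⊔ zpowers i) (sup_le o.RL (zpowers_le.2 hi.1))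
        (sup_comm (zpowers i) R ▸ (Invol.isPGroup_zpowers (n := 1) (by rw [hi2, pow_one] :
          orderOf i = 2 ^ 1)).to_sup_of_normal_right' o.hR (zpowers_le.2 (by
            rw [o.R_eq h]; exact o.mem_norm_AQ_of h hi.1 hi.2)))
        le_sup_left (mem_sup_right (mem_zpowers i))
      by_cases hiV : i ∈ V
      · exact ⟨Sum.inl ⟨i, hiV, Invol.ne_one_of_orderOf_two hi2⟩, rfl⟩
      · rcases o.el_cases h (zpowers_le.2 hiR) (El.zpowers (Invol.mul_self_of_orderOf_two hi2)) with e | e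
        · exact absurd (e (mem_zpowers i)) hiV
        · exact ⟨Sum.inr ⟨i, e (mem_zpowers i), hiV⟩, rfl⟩
  rw [← Nat.card_eq_of_bijective f hf, Nat.card_sum]
  have h1 := card_ne_one V
  have h2 := card_notMem A V
  rw [o.card_V h, hr] at h1
  rw [o.card_A h, o.card_V h, hr] at h2
  omega

end Off

end Cfsg.Agent.Transfer.CIT
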