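import Mathlib
import Cfsg.Agent.Lib.Spor.M21Psl

/-!
A simple group of order 20160 acting on a Steiner system `S(2, 5, 21)` is `PSL(3, 4)`.
-/

set_option autoImplicit false
set_option linter.style.haveILetI false

universe u v

namespace Cfsg.Agent.Transfer.CIT

open Cfsg Finset Cfsg.Agent.Spor

theorem iso_psl_three_four' (F : Type) [Field F] [Fintype F] (hF : Fintype.card F = 4) {G : Type u} [Group G] [Finite G] [IsSimpleGroup G] {α : Type v} [Fintype α]
    [DecidableEq α] [MulAction G α] (hα : Fintype.card α = 21) {B : Set (Finset α)}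
    (hB : IsSteinerSystem 2 5 B) (hG : Nat.card G = 20160) (hne : ∃ (g : G) (x : α), g • x ≠ x)
    (hpres : ∀ g : G, ∀ b ∈ B, b.image (g • ·) ∈ B) :
    Nonempty (G ≃* Matrix.ProjectiveSpecialLinearGroup (Fin 3) F) := by
  classical
  letI : Fintype (M21.Pt F) := Fintype.ofFinite _
  obtain ⟨e, he⟩ := PlaneFour.iso hα (M21.pg_card hF) hB (M21.pg_steiner hF)
  have he' : ∀ b, b ∈ B ↔ b.image e ∈ M21.pgLines F := fun b => by
    rw [← he]
    exact ⟨Set.mem_image_of_mem _, fun ⟨c, hc, ec⟩ => (image_injective e.injective ec) ▸ hc⟩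
  let θ : G →* Equiv.Perm α := MulAction.toPermHom G α
  have hθ : ∀ g, θ g ∈ setSystemAut B := fun g => SteinerAut.mem_aut.mpr fun b => ⟨fun h => by
      have := hpres g⁻¹ _ h
      rw [image_image] at this
      have e0 : ((fun x : α => g⁻¹ • x) ∘ ⇑(θ g)) = id := funext fun x => inv_smul_smul g x
      rwa [e0, image_id] at this,
    fun h => hpres g b h⟩
  have hpsl : ∀ g, Projectivization.PSLAction.toPermHom g ∈ setSystemAut (M21.pgLines F) := fun g =>
    SteinerAut.mem_aut.mpr fun b => ⟨fun h => by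
      have := M21.pgLines_smul g⁻¹ h
      rwa [image_image, ← Equiv.Perm.coe_mul, ← map_mul, inv_mul_cancel, map_one, Equiv.Perm.coe_one, image_id] at this,
    M21.pgLines_smul g⟩
  let ψ : Matrix.ProjectiveSpecialLinearGroup (Fin 3) F →* setSystemAut (M21.pgLines F) :=
    Projectivization.PSLAction.toPermHom.codRestrict _ hpsl
  let χ : G →* setSystemAut (M21.pgLines F) :=
    (SteinerAut.autEquiv e he').toMonoidHom.comp (θ.codRestrict _ hθ)
  have hψ : Function.Injective ψ := fun a b h =>
    Matrix.ProjectiveSpecialLinearGroup.toPermHom_injective (congrArg Subtype.val h)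
  have hθinj : Function.Injective θ := by
    refine (MonoidHom.ker_eq_bot_iff θ).1 ((IsSimpleGroup.eq_bot_or_eq_top_of_normal θ.ker θ.normal_ker).resolve_right
      fun h => ?_)
    obtain ⟨g, x, hg⟩ := hne
    exact hg (DFunLike.congr_fun (θ.mem_ker.1 (h ▸ Subgroup.mem_top g)) x)
  have hχ : Function.Injective χ := fun a b h =>
    hθinj (congrArg Subtype.val ((SteinerAut.autEquiv e he').injective h))
  haveI : IsSimpleGroup ψ.range := by
    haveI := Classical.PSL_simple_of_three_le (F := F) (ι := Fin 3) (by simp)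
    exact (MonoidHom.ofInjective hψ).symm.isSimpleGroup
  have hXY : ψ.range = χ.range := M21.subgroup_eq
    (by rw [← Nat.card_congr (MonoidHom.ofInjective hψ).toEquiv, M21.natCard_psl hF])
    (by rw [← Nat.card_congr (MonoidHom.ofInjective hχ).toEquiv, hG])
    (PlaneFour.card_aut_le ⟨M21.pg_card hF, M21.pg_steiner hF⟩)
  exact ⟨(MonoidHom.ofInjective hχ).trans ((MulEquiv.subgroupCongr hXY.symm).trans (MonoidHom.ofInjective hψ).symm)⟩

theorem iso_psl_three_four {G : Type u} [Group G] [Finite G] [IsSimpleGroup G] {α : Type v} [Fintype α]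
    [DecidableEq α] [MulAction G α] (hα : Fintype.card α = 21) {B : Set (Finset α)}
    (hB : IsSteinerSystem 2 5 B) (hG : Nat.card G = 20160) (hne : ∃ (g : G) (x : α), g • x ≠ x)
    (hpres : ∀ g : G, ∀ b ∈ B, b.image (g • ·) ∈ B) :
    ∃ (F : Type) (_ : Field F) (_ : Fintype F), Fintype.card F = 4 ∧
      Nonempty (G ≃* Matrix.ProjectiveSpecialLinearGroup (Fin 3) F) := by
  letI : Fintype (GaloisField 2 2) := Fintype.ofFinite _
  have hF : Fintype.card (GaloisField 2 2) = 4 := by
    rw [← Nat.card_eq_fintype_card, GaloisField.card 2 2 two_ne_zero]; norm_num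
  exact ⟨GaloisField 2 2, inferInstance, inferInstance, hF, iso_psl_three_four' _ hF hα hB hG hne hpres⟩

end Cfsg.Agent.Transfer.CIT
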