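import Mathlib
import Cfsg.Agent.Lib.Transfer.CIT.Count
import Cfsg.Agent.Lib.Transfer.CIT.Recognise

/-!
The plane of order four in a CIT group with two parabolics sharing a Sylow 2-subgroup.
-/

set_option autoImplicit false
set_option linter.style.haveILetI false
set_option linter.unusedSectionVars false

open scoped Pointwise

universe u

namespace Cfsg.Agent.Transfer.CIT

open Cfsg.Agent Subgroup Cfsg

variable {G : Type u} [Group G] [Finite G] {L L' V R A : Subgroup G}

theorem commute_of_card_fifteen {K : Type*} [Group K] [Finite K] (hK : Nat.card K = 15) {x y : K}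
    (hx : orderOf x = 5) (hy : orderOf y = 3) : y * x = x * y := by
  have hmem : y * x * y⁻¹ ∈ zpowers x := by
    by_contra hn
    have hx' : orderOf (y * x * y⁻¹) = 5 := by rw [← hx]; exact Invol.orderOf_conj_eq y x
    haveI := Fact.mk (show Nat.Prime 5 by norm_num)
    have hdis : zpowers x ⊓ zpowers (y * x * y⁻¹) = ⊥ := by
      by_contra hne
      apply hn
      have h5 : Nat.card (zpowers (y * x * y⁻¹)) = 5 := by rw [Nat.card_zpowers, hx']
      have h1 : zpowers x ⊓ zpowers (y * x * y⁻¹) = zpowers (y * x * y⁻¹) := by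
        refine Subgroup.eq_of_le_of_card_ge inf_le_right ?_
        have h2 := Subgroup.card_dvd_of_le (inf_le_right : zpowers x ⊓ zpowers (y * x * y⁻¹) ≤ _)
        rw [h5] at h2
        rcases (Nat.dvd_prime (by norm_num)).1 h2 with e | e
        · exact absurd (Subgroup.card_eq_one.1 e) hne
        · rw [h5, e]
      exact (h1.ge (mem_zpowers (y * x * y⁻¹))).1
    have hinj : Function.Injective (fun p : zpowers x × zpowers (y * x * y⁻¹) => (p.1 : K) * p.2) := by
      intro p q e
      have e' : (p.1 : K) * p.2 = q.1 * q.2 := e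
      have h1 : (q.1 : K)⁻¹ * p.1 = q.2 * (p.2 : K)⁻¹ := by
        calc (q.1 : K)⁻¹ * p.1 = (q.1 : K)⁻¹ * ((p.1 : K) * p.2) * (p.2 : K)⁻¹ := by group
          _ = q.2 * (p.2 : K)⁻¹ := by rw [e']; group
      have h2 : (q.1 : K)⁻¹ * p.1 ∈ zpowers x ⊓ zpowers (y * x * y⁻¹) :=
        ⟨Subgroup.mul_mem _ (Subgroup.inv_mem _ q.1.2) p.1.2, h1 ▸ Subgroup.mul_mem _ q.2.2 (Subgroup.inv_mem _ p.2.2)⟩
      rw [hdis, mem_bot] at h2
      exact Prod.ext (Subtype.ext (inv_mul_eq_one.1 h2).symm)
        (Subtype.ext (mul_inv_eq_one.1 (h1 ▸ h2)).symm)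
    have := Nat.card_le_card_of_injective _ hinj
    rw [Nat.card_prod, Nat.card_zpowers, Nat.card_zpowers, hx, hx', hK] at this
    omega
  obtain ⟨i, hi5, hi⟩ : ∃ i < 5, x ^ i = y * x * y⁻¹ := by
    obtain ⟨j, hj⟩ := (mem_powers_iff_mem_zpowers).2 hmem
    exact ⟨j % 5, Nat.mod_lt _ (by norm_num), by rw [← hx, pow_mod_orderOf]; exact hj⟩
  have h3 : x ^ (i * i * i) = x := by
    have hy3 : y ^ 3 = 1 := by rw [← hy, pow_orderOf_eq_one]
    have e : y ^ 3 * x * (y ^ 3)⁻¹ = x ^ (i * i * i) := by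
      calc y ^ 3 * x * (y ^ 3)⁻¹ = y * (y * (y * x * y⁻¹) * y⁻¹) * y⁻¹ := by
            rw [pow_succ, pow_two]; group
        _ = y * (x ^ i) ^ i * y⁻¹ := by rw [← hi, ← conj_pow, ← hi]
        _ = x ^ (i * i * i) := by rw [← conj_pow, ← conj_pow, ← hi, ← pow_mul, ← pow_mul, mul_assoc]
    rw [← e, hy3]; group
  have h4 : i = 1 := by
    have h5 : x ^ (i * i * i % 5) = x ^ 1 := by rw [← hx, pow_mod_orderOf, pow_one, h3]
    have h6 : i * i * i % 5 = 1 :=
      pow_injOn_Iio_orderOf (x := x) (by rw [Set.mem_Iio, hx]; exact Nat.mod_lt _ (by norm_num))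
        (by rw [Set.mem_Iio, hx]; norm_num) h5
    interval_cases i <;> first | rfl | omega
  rw [h4, pow_one] at hi
  exact mul_inv_eq_iff_eq_mul.1 hi.symm

/-- A pair of parabolics over a Sylow 2-subgroup of the group gives `PSL(3, 4)`. -/
theorem Pair.psl_three_four (h : IsCIT G) [IsSimpleGroup G] (hG : ¬ IsMulCommutative G) {T : Sylow 2 G}
    (p : Pair T L L' R A V) (hr : Nat.card ↥(A ⊓ V) = 4) :
    ∃ (F : Type) (_ : Field F) (_ : Fintype F), Fintype.card F = 4 ∧
      Nonempty (G ≃* Matrix.ProjectiveSpecialLinearGroup (Fin 3) F) := by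
  classical
  haveI := Fact.mk Nat.prime_two
  haveI : Fintype G := Fintype.ofFinite G
  haveI : Fintype (G ⧸ L') := Fintype.ofFinite _
  have o := p.o
  have o' := p.o'
  set W := A ⊓ V with hWdef
  have hW' : V ⊓ A = W := inf_comm V A
  have hr' : Nat.card ↥(V ⊓ A) = 4 := by rw [hW', hr]
  have hRT : R = (T : Subgroup G) := le_antisymm p.RT (p.sylow_le h hG hr)
  have hcV : Nat.card V = 16 := by rw [o.card_V h, hr]
  have hcA : Nat.card A = 16 := by rw [o.card_A h, hcV]
  have hcR : Nat.card R = 64 := by rw [o.card_R h, hr]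
  have hVA : V ≠ A := fun e => o.notle e.ge
  set H := L ⊓ normalizer (W : Set G) with hH
  have hHL' : H = L ⊓ L' := by
    refine le_antisymm (le_inf inf_le_left fun y hy => p.hL' ▸ o.stab_norm_A h hy.1 hy.2) fun y hy => ⟨hy.1, ?_⟩
    have h1 : y ∈ normalizer (V : Set G) := o.LV hy.1
    have h2 : y ∈ normalizer (A : Set G) := p.hL'.symm ▸ hy.2
    exact mem_normalizer_fintype fun w hw =>
      ⟨(mem_normalizer_iff.1 h2 w).1 hw.1, (mem_normalizer_iff.1 h1 w).1 hw.2⟩
  have hHL'' : L' ⊓ normalizer (W : Set G) ≤ H := by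
    intro y hy
    have h2 : y ∈ normalizer (V : Set G) := o'.stab_norm_A h hy.1 (by rw [hW']; exact hy.2)
    exact ⟨p.hL ▸ h2, hy.2⟩
  have cardL : Nat.card L = 960 := o.card_L h hr
  have cardL' : Nat.card L' = 960 := o'.card_L h hr'
  -- one class of involutions
  obtain ⟨⟨z, hz⟩, hz1'⟩ := Subgroup.ne_bot_iff_exists_ne_one.1 (o.W_ne_bot h)
  have hz1 : z ≠ 1 := fun e => hz1' (Subtype.ext e)
  have hzo : orderOf z = 2 := o.hV.orderOf_eq_two hz.2 hz1
  have hconj : ∀ i : G, orderOf i = 2 → ∃ g : G, g * z * g⁻¹ = i := by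
    intro i hi
    obtain ⟨S, hS⟩ := (Invol.isPGroup_zpowers (n := 1) (by rw [hi, pow_one] : orderOf i = 2 ^ 1)).exists_le_sylow
    obtain ⟨g, hg⟩ := MulAction.exists_smul_eq G T S
    have hiR : g⁻¹ * i * g ∈ R := by
      rw [hRT]
      have h1 : i ∈ ((g • T : Sylow 2 G) : Subgroup G) := hg.symm ▸ hS (mem_zpowers i)
      obtain ⟨t, ht, he⟩ := h1
      rw [show i = g * t * g⁻¹ from he.symm]
      rw [show g⁻¹ * (g * t * g⁻¹) * g = t by group]
      exact ht
    have h2 : g⁻¹ * i * g * (g⁻¹ * i * g) = 1 := by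
      rw [show g⁻¹ * i * g * (g⁻¹ * i * g) = g⁻¹ * (i * i) * g by group, Invol.mul_self_of_orderOf_two hi, mul_one,
        inv_mul_cancel]
    have h1 : g⁻¹ * i * g ≠ 1 := fun e => Invol.ne_one_of_orderOf_two hi (by
      have := congrArg (fun t => g * t * g⁻¹) e
      simpa [mul_assoc] using this)
    obtain ⟨y, hy⟩ : ∃ y : G, y * z * y⁻¹ = g⁻¹ * i * g := by
      rcases o.el_cases h (zpowers_le.2 hiR) (El.zpowers h2) with e | e
      · obtain ⟨y, -, hy⟩ := o.exists_conj_V h hz hz1 (e (mem_zpowers _)) h1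
        exact ⟨y, hy⟩
      · obtain ⟨y, -, hy⟩ := o'.exists_conj_V h (w := z) ⟨hz.2, hz.1⟩ hz1 (e (mem_zpowers _)) h1
        exact ⟨y, hy⟩
    refine ⟨g * y, ?_⟩
    calc g * y * z * (g * y)⁻¹ = g * (y * z * y⁻¹) * g⁻¹ := by group
      _ = i := by rw [hy]; group
  -- counting involutions and points
  let I : Finset G := Finset.univ.filter fun i => orderOf i = 2
  have hmemI : ∀ i, i ∈ I ↔ orderOf i = 2 := fun i => by simp [I]
  set n := Nat.card (G ⧸ L') with hn
  have hGn : Nat.card G = 960 * n := by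
    rw [← cardL', hn, ← index_eq_card, card_mul_index]
  have hCz : Subgroup.centralizer ({z} : Set G) = (T : Subgroup G) :=
    isPGroup_eq_centralizer h hzo T fun s hs => o.comm_W h (o.R_eq h ▸ hRT.symm ▸ hs) hz
  have hI : I.card * 64 = Nat.card G := by
    have hc : Nat.card (Subgroup.centralizer ({z} : Set G)) = 64 := by rw [hCz, ← hRT, hcR]
    let f : G ⧸ Subgroup.centralizer ({z} : Set G) → {i : G // i ∈ I} := fun c =>
      ⟨c.out * z * c.out⁻¹, (hmemI _).2 (by rw [Invol.orderOf_conj_eq, hzo])⟩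
    have hf : Function.Bijective f := by
      constructor
      · intro c d e
        have e' : c.out * z * c.out⁻¹ = d.out * z * d.out⁻¹ := congrArg Subtype.val e
        rw [← QuotientGroup.out_eq' c, ← QuotientGroup.out_eq' d, QuotientGroup.eq, mem_centralizer_singleton_iff]
        calc c.out⁻¹ * d.out * z = c.out⁻¹ * (d.out * z * d.out⁻¹) * d.out := by group
          _ = z * (c.out⁻¹ * d.out) := by rw [← e']; group
      · rintro ⟨i, hi⟩
        obtain ⟨g, hg⟩ := hconj i ((hmemI i).1 hi)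
        refine ⟨QuotientGroup.mk g, Subtype.ext ?_⟩
        obtain ⟨r, hr2⟩ := QuotientGroup.mk_out_eq_mul (Subgroup.centralizer ({z} : Set G)) g
        show (QuotientGroup.mk g : G ⧸ _).out * z * _⁻¹ = i
        rw [hr2, ← hg]
        calc g * r * z * (g * r)⁻¹ = g * ((r : G) * z * (r : G)⁻¹) * g⁻¹ := by group
          _ = g * z * g⁻¹ := by rw [mem_centralizer_singleton_iff.1 r.2, mul_inv_cancel_right]
    have h2 := card_mul_index (Subgroup.centralizer ({z} : Set G))
    rw [index_eq_card, Nat.card_eq_of_bijective f hf, hc, Nat.card_eq_fintype_card (α := {i : G // i ∈ I}),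
      Fintype.card_coe] at h2
    rw [← h2, mul_comm]
  set P0 : G ⧸ L' := QuotientGroup.mk 1 with hP0
  have hP0g : ∀ g : G, g • P0 = QuotientGroup.mk g := fun g => by
    rw [hP0, MulAction.Quotient.smul_mk, smul_eq_mul, mul_one]
  have hfixP : ∀ g : G, g • P0 = P0 ↔ g ∈ L' := fun g => by
    rw [hP0, Invol.smul_coset_eq_iff, inv_one, one_mul, mul_one]
  have hcount : ∀ (S : Subgroup G), (I.filter fun i => i ∈ S).card = Nat.card {i : G // orderOf i = 2 ∧ i ∈ S} := by
    intro S
    rw [Nat.card_eq_fintype_card, Fintype.card_subtype, Finset.filter_filter]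
  have h75 : ∀ g : G, (I.filter fun i => i • (QuotientGroup.mk g : G ⧸ L') = QuotientGroup.mk g).card = 75 := by
    intro g
    rw [← o'.card_invol h hr', ← hcount]
    refine Finset.card_bij' (fun i _ => g⁻¹ * i * g) (fun t _ => g * t * g⁻¹) ?_ ?_ ?_ ?_
    · intro i hi
      rw [Finset.mem_filter, hmemI] at hi ⊢
      exact ⟨by rw [← hi.1, ← Invol.orderOf_conj_eq g⁻¹ i, inv_inv], Invol.smul_coset_eq_iff.mp hi.2⟩
    · intro t ht
      rw [Finset.mem_filter, hmemI] at ht ⊢
      exact ⟨by rw [Invol.orderOf_conj_eq, ht.1], Invol.smul_coset_eq_iff.mpr (by simpa [mul_assoc] using ht.2)⟩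
    · intro i _; group
    · intro t _; group
  let Fix : G → Finset (G ⧸ L') := fun i => Finset.univ.filter fun c => i • c = c
  have hFixc : ∀ g i : G, Fix (g * i * g⁻¹) = (Fix i).image (g • ·) := by
    intro g i
    ext c
    simp only [Fix, Finset.mem_filter, Finset.mem_univ, true_and, Finset.mem_image]
    constructor
    · intro hc
      refine ⟨g⁻¹ • c, ?_, smul_inv_smul g c⟩
      rw [mul_smul, mul_smul] at hc
      conv_rhs => rw [← hc, inv_smul_smul]
    · rintro ⟨d, hd, rfl⟩
      rw [mul_smul, mul_smul, inv_smul_smul, hd]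
  have hFixcard : ∀ i, orderOf i = 2 → (Fix i).card = (Fix z).card := by
    intro i hi
    obtain ⟨g, rfl⟩ := hconj i hi
    rw [hFixc, Finset.card_image_of_injective _ (MulAction.injective g)]
  have hn0 : 0 < n := Nat.card_pos
  have hN : I.card = 15 * n := by omega
  have hf5 : (Fix z).card = 5 := by
    have h1 : ∑ i ∈ I, (Fix i).card = ∑ c : G ⧸ L', (I.filter fun i => i • c = c).card := by
      simp only [Fix, Finset.card_filter]
      rw [Finset.sum_comm]
    have h75' : ∀ c : G ⧸ L', (I.filter fun i => i • c = c).card = 75 := fun c => by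
      obtain ⟨g, rfl⟩ := QuotientGroup.mk_surjective c
      exact h75 g
    rw [Finset.sum_congr rfl fun i hi => hFixcard i ((hmemI i).1 hi),
      Finset.sum_congr rfl (fun c _ => h75' c), Finset.sum_const, Finset.sum_const,
      Finset.card_univ, smul_eq_mul, smul_eq_mul, ← Nat.card_eq_fintype_card, ← hn, hN] at h1
    have h2 : n * (15 * (Fix z).card) = n * 75 := by rw [← h1]; ring
    have h3 := Nat.eq_of_mul_eq_mul_left hn0 h2
    omega
  -- the basic line
  set HL := H.subgroupOf L with hHL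
  let pt : L ⧸ HL → G ⧸ L' := fun c => QuotientGroup.mk (c.out : G)
  have hpt : ∀ y : L, pt (QuotientGroup.mk y) = QuotientGroup.mk (y : G) := by
    intro y
    obtain ⟨r, hr2⟩ := QuotientGroup.mk_out_eq_mul HL y
    show (QuotientGroup.mk (((QuotientGroup.mk y : L ⧸ HL).out : L) : G) : G ⧸ L') = _
    rw [hr2, QuotientGroup.eq]
    push_cast
    rw [mul_inv_rev, inv_mul_cancel_right]
    have hm : ((r : L) : G) ∈ L ⊓ L' := hHL' ▸ mem_subgroupOf.1 r.2
    exact inv_mem hm.2
  have hptinj : Function.Injective pt := by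
    intro c d e
    rw [← QuotientGroup.out_eq' c, ← QuotientGroup.out_eq' d, QuotientGroup.eq]
    show (((c.out)⁻¹ * d.out : L) : G) ∈ H
    rw [hHL']
    exact ⟨SetLike.coe_mem _, QuotientGroup.eq.1 e⟩
  haveI : Fintype (L ⧸ HL) := Fintype.ofFinite _
  set line₀ : Finset (G ⧸ L') := Finset.univ.image pt with hline₀
  have hl5 : line₀.card = 5 := by
    rw [hline₀, Finset.card_image_of_injective _ hptinj, Finset.card_univ, ← Nat.card_eq_fintype_card]
    exact o.index_stab h hr
  have hmeml : ∀ c, c ∈ line₀ ↔ ∃ y ∈ L, QuotientGroup.mk y = c := by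
    intro c
    simp only [hline₀, Finset.mem_image, Finset.mem_univ, true_and]
    exact ⟨fun ⟨d, hd⟩ => ⟨_, d.out.2, hd⟩, fun ⟨y, hy, hd⟩ => ⟨QuotientGroup.mk ⟨y, hy⟩, by rw [hpt]; exact hd⟩⟩
  have hP0l : P0 ∈ line₀ := (hmeml _).2 ⟨1, one_mem L, rfl⟩
  have hfixV : ∀ v ∈ V, ∀ c ∈ line₀, v • c = c := by
    intro v hv c hc
    obtain ⟨y, hy, rfl⟩ := (hmeml c).1 hc
    rw [Invol.smul_coset_eq_iff]
    exact o'.RL (o.QR ((mem_normalizer_iff''.1 (o.LV hy) v).1 hv))
  have hFixV : ∀ v ∈ V, v ≠ 1 → Fix v = line₀ := by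
    intro v hv hv1
    refine (Finset.eq_of_subset_of_card_le (fun c hc => ?_) ?_).symm
    · simp only [Fix, Finset.mem_filter, Finset.mem_univ, true_and]
      exact hfixV v hv c hc
    · rw [hl5, hFixcard v (o.hV.orderOf_eq_two hv hv1), hf5]
  let img : G → Finset (G ⧸ L') := fun g => line₀.image (g • ·)
  have hmemimg : ∀ g c, c ∈ img g ↔ g⁻¹ • c ∈ line₀ := by
    intro g c
    simp only [img, Finset.mem_image]
    exact ⟨fun ⟨d, hd, e⟩ => by rw [← e, inv_smul_smul]; exact hd, fun hc => ⟨_, hc, smul_inv_smul g c⟩⟩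
  have hcardimg : ∀ g, (img g).card = 5 := fun g => by
    simp only [img, Finset.card_image_of_injective _ (MulAction.injective g), hl5]
  have hmulimg : ∀ g k, img (g * k) = (img k).image (g • ·) := by
    intro g k
    simp only [img, Finset.image_image]
    congr 1
    funext c
    exact mul_smul g k c
  have hLimg : ∀ y ∈ L, img y = line₀ := by
    intro y hy
    refine Finset.eq_of_subset_of_card_le (fun c hc => ?_) (by rw [hcardimg, hl5])
    obtain ⟨d, hd, rfl⟩ := Finset.mem_image.1 hc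
    obtain ⟨u, hu, rfl⟩ := (hmeml d).1 hd
    exact (hmeml _).2 ⟨y * u, mul_mem hy hu, (MulAction.Quotient.smul_mk L' y u).symm⟩
  have hone : img 1 = line₀ := hLimg 1 (one_mem L)
  -- two lines through a point meet only there
  have hU : ∀ m ∈ L', ∀ c ∈ line₀, c ≠ P0 → c ∈ img m → m ∈ H := by
    intro m hm c hc hcP hcm
    by_contra hmH
    obtain ⟨y, hy, rfl⟩ := (hmeml c).1 hc
    have hne : cj m (V ⊓ A) ≠ V ⊓ A := fun e => hmH (hHL'' ⟨hm, mem_normalizer_iff_cj.2 (by rwa [hW'] at e)⟩)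
    set S := cj y L' with hS
    have hVS : V ≤ S := fun v hv => mem_cj.2 (Invol.smul_coset_eq_iff.1 (hfixV v hv _ hc))
    have hmVS : cj m V ≤ S := by
      rintro _ ⟨v, hv, rfl⟩
      refine mem_cj.2 (Invol.smul_coset_eq_iff.1 ?_)
      show (m * v * m⁻¹) • (QuotientGroup.mk y : G ⧸ L') = _
      rw [mul_smul, mul_smul, hfixV v hv _ ((hmemimg m _).1 hcm), smul_inv_smul]
    have hAS : A ≤ S := fun a ha => by
      obtain ⟨w, hw, w', hw', rfl⟩ := o'.decomp_V h hm hne ha
      exact S.mul_mem (hVS hw.1) (hmVS (cj_mono inf_le_left hw'))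
    set B := cj y⁻¹ A with hB
    have hBL' : B ≤ L' := (cj_mono hAS).trans (cj_inv_cj y L').le
    have hBL : B ≤ L := (cj_mono o.AL).trans (cj_eq_self (le_normalizer (inv_mem hy))).le
    have hBH : B ≤ H := hHL'.symm ▸ le_inf hBL hBL'
    have hBR : B ≤ R := le_sup_left.trans (o.sylow_max h (P := B ⊔ R) (sup_le hBL o.RL)
      ((o.max.2.1.cj y⁻¹).isPGroup.to_sup_of_normal_right' o.hR fun b hb => by
        rw [o.R_eq h]; exact o.mem_norm_AQ_of h (hBL hb) (hBH hb).2) le_sup_right)
    rcases o.el_cases h hBR (o.max.2.1.cj y⁻¹) with e | e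
    · have e' : B = V := Subgroup.eq_of_le_of_card_ge e (by rw [hB, card_cj, hcV, hcA])
      apply hVA
      have h1 : cj y⁻¹ A = cj y⁻¹ V := e'.trans (cj_eq_self (o.LV (inv_mem hy))).symm
      have h2 := congrArg (cj y) h1
      rw [← cj_mul, ← cj_mul, mul_inv_cancel, cj_one, cj_one] at h2
      exact h2.symm
    · have h1 : y⁻¹ ∈ L' := p.hL' ▸ mem_normalizer_of_cj_le e
      exact hcP (by rw [← hP0g y, (hfixP y).2 (by simpa using inv_mem h1)])
  have hstab : ∀ g, img g = line₀ → g ∈ L := by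
    intro g hg
    obtain ⟨y, hy, hye⟩ : ∃ y ∈ L, QuotientGroup.mk y = g • P0 :=
      (hmeml _).1 (hg ▸ Finset.mem_image_of_mem _ hP0l)
    set m := y⁻¹ * g with hm
    have hmL' : m ∈ L' := (hfixP m).1 (by rw [hm, mul_smul, ← hye, ← hP0g y, inv_smul_smul])
    have hmimg : img m = line₀ := by
      rw [hm, hmulimg, hg]; exact hLimg _ (inv_mem hy)
    obtain ⟨c, hc, hcP⟩ : ∃ c ∈ line₀, c ≠ P0 := by
      by_contra hc
      push Not at hc
      have := Finset.card_le_one.2 fun a ha b hb => (hc a ha).trans (hc b hb).symm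
      omega
    have := (hU m hmL' c hc hcP (hmimg.symm ▸ hc)).1
    rw [show g = y * m by rw [hm, mul_inv_cancel_left]]
    exact mul_mem hy this
  have hthrough : ∀ g, P0 ∈ img g → ∃ m ∈ L', img g = img m := by
    intro g hg
    obtain ⟨y, hy, hye⟩ := (hmeml _).1 ((hmemimg g _).1 hg)
    refine ⟨g * y, (hfixP _).1 ?_, ?_⟩
    · rw [mul_smul, hP0g, hye, smul_inv_smul]
    · rw [hmulimg, hLimg y hy]
  have huniq0 : ∀ m₁ ∈ L', ∀ m₂ ∈ L', ∀ Y ≠ P0, Y ∈ img m₁ → Y ∈ img m₂ → img m₁ = img m₂ := by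
    intro m₁ h₁ m₂ h₂ Y hY hY1 hY2
    have hm : m₁⁻¹ * m₂ ∈ H := by
      refine hU _ (mul_mem (inv_mem h₁) h₂) (m₁⁻¹ • Y) ((hmemimg _ _).1 hY1) (fun e => hY ?_) ?_
      · rw [← smul_inv_smul m₁ Y, e, (hfixP m₁).2 h₁]
      · rw [hmemimg, ← mul_smul, show (m₁⁻¹ * m₂)⁻¹ * m₁⁻¹ = m₂⁻¹ by group]
        exact (hmemimg _ _).1 hY2
    rw [show m₂ = m₁ * (m₁⁻¹ * m₂) by group, hmulimg, hLimg _ hm.1]
  have huniq : ∀ g₁ g₂ : G, ∀ X Y : G ⧸ L', X ≠ Y → X ∈ img g₁ → Y ∈ img g₁ → X ∈ img g₂ → Y ∈ img g₂ →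
      img g₁ = img g₂ := by
    intro g₁ g₂ X Y hXY hX1 hY1 hX2 hY2
    obtain ⟨k, rfl⟩ := QuotientGroup.mk_surjective X
    have key : ∀ g, QuotientGroup.mk k ∈ img g → Y ∈ img g →
        ∃ m ∈ L', img (k⁻¹ * g) = img m ∧ k⁻¹ • Y ∈ img m := by
      intro g hXg hYg
      obtain ⟨m, hm, hme⟩ := hthrough (k⁻¹ * g) (by
        rw [hmemimg, mul_inv_rev, inv_inv, mul_smul, hP0g]
        exact (hmemimg _ _).1 hXg)
      refine ⟨m, hm, hme, hme ▸ ?_⟩
      rw [hmulimg]
      exact Finset.mem_image_of_mem _ hYg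
    obtain ⟨m₁, hm₁, e₁, hY₁⟩ := key g₁ hX1 hY1
    obtain ⟨m₂, hm₂, e₂, hY₂⟩ := key g₂ hX2 hY2
    have e := huniq0 m₁ hm₁ m₂ hm₂ _ (fun e => hXY (by rw [← smul_inv_smul k Y, e, hP0g])) hY₁ hY₂
    calc img g₁ = img (k * (k⁻¹ * g₁)) := by rw [mul_inv_cancel_left]
      _ = (img (k⁻¹ * g₂)).image (k • ·) := by rw [hmulimg, e₁, e, ← e₂]
      _ = img g₂ := by rw [← hmulimg, mul_inv_cancel_left]
  -- the points collinear with the base point
  set HL' := H.subgroupOf L' with hHL'set
  haveI : Fintype (L' ⧸ HL') := Fintype.ofFinite _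
  have h5' : Fintype.card (L' ⧸ HL') = 5 := by
    rw [← Nat.card_eq_fintype_card]
    have e : HL' = (L' ⊓ normalizer ((V ⊓ A : Subgroup G) : Set G)).subgroupOf L' := by
      ext m
      rw [hHL'set, mem_subgroupOf, mem_subgroupOf, hW']
      exact ⟨fun hm => ⟨m.2, hm.2⟩, fun hm => hHL'' hm⟩
    rw [e]
    exact o'.index_stab h hr'
  set C₀ : Finset (G ⧸ L') := (Finset.univ ×ˢ line₀.erase P0).image
    (fun q : (L' ⧸ HL') × (G ⧸ L') => ((q.1.out : L') : G) • q.2) with hC₀
  have hC₀card : C₀.card = 20 := by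
    rw [hC₀, Finset.card_image_of_injOn, Finset.card_product, Finset.card_univ, h5',
      Finset.card_erase_of_mem hP0l, hl5]
    rintro ⟨c, Y⟩ hY ⟨d, Z⟩ hZ e
    simp only [Finset.coe_product, Finset.coe_univ, Set.mem_prod, Set.mem_univ, Finset.mem_coe,
      Finset.mem_erase, true_and] at hY hZ
    change ((c.out : L') : G) • Y = ((d.out : L') : G) • Z at e
    have hYne : ((c.out : L') : G) • Y ≠ P0 := fun e' => hY.1 (by
      rw [← inv_smul_smul ((c.out : L') : G) Y, e', (hfixP _).2 (inv_mem c.out.2)])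
    have heq := huniq0 _ c.out.2 _ d.out.2 _ hYne (Finset.mem_image_of_mem _ hY.2)
      (e ▸ Finset.mem_image_of_mem _ hZ.2)
    have hcd : c = d := by
      rw [← QuotientGroup.out_eq' c, ← QuotientGroup.out_eq' d, QuotientGroup.eq]
      show (((c.out)⁻¹ * d.out : L') : G) ∈ H
      rw [hHL']
      refine ⟨hstab _ ?_, SetLike.coe_mem _⟩
      push_cast
      rw [hmulimg, ← heq, ← hmulimg, inv_mul_cancel, hone]
    subst hcd
    rw [MulAction.injective _ e]
  have hC₀mem : ∀ m ∈ L', ∀ Y ≠ P0, Y ∈ img m → Y ∈ C₀ := by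
    intro m hm Y hY hYm
    obtain ⟨r, hr2⟩ := QuotientGroup.mk_out_eq_mul HL' (⟨m, hm⟩ : L')
    rw [hC₀, Finset.mem_image]
    set c : L' ⧸ HL' := QuotientGroup.mk ⟨m, hm⟩ with hc
    refine ⟨(c, ((c.out : L') : G)⁻¹ • Y), ?_, smul_inv_smul _ _⟩
    simp only [Finset.mem_product, Finset.mem_univ, true_and, Finset.mem_erase]
    refine ⟨fun e => hY ?_, ?_⟩
    · rw [← smul_inv_smul ((c.out : L') : G) Y, e, (hfixP _).2 c.out.2]
    · rw [← hmemimg, hc, hr2]
      push_cast
      rw [hmulimg, hLimg _ (mem_subgroupOf.1 r.2).1]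
      exact hYm
  have hP0C : P0 ∉ C₀ := by
    intro hm
    rw [hC₀, Finset.mem_image] at hm
    obtain ⟨⟨c, Y⟩, hY, e⟩ := hm
    simp only [Finset.mem_product, Finset.mem_univ, true_and, Finset.mem_erase] at hY
    refine hY.1 ?_
    rw [← inv_smul_smul ((c.out : L') : G) Y]
    change ((c.out : L') : G) • Y = P0 at e
    rw [e, (hfixP _).2 (inv_mem c.out.2)]
  set D : Finset (G ⧸ L') := Finset.univ \ insert P0 C₀ with hD
  have hDcard : D.card + 21 = n := by
    have h1 := Finset.card_sdiff_add_card_eq_card (Finset.subset_univ (insert P0 C₀))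
    rw [Finset.card_insert_of_notMem hP0C, hC₀card, Finset.card_univ, ← Nat.card_eq_fintype_card] at h1
    exact h1
  have hfixline : ∀ i, orderOf i = 2 → ∃ g, Fix i = img g := by
    intro i hi
    obtain ⟨g, rfl⟩ := hconj i hi
    exact ⟨g, by rw [hFixc, hFixV z hz.2 hz1]⟩
  -- stabilisers of two non-collinear points
  have hK5 : ∀ Y ∈ D, Nat.card ↥(L' ⊓ MulAction.stabilizer G Y) ≤ 5 := by
    intro Y hYD
    simp only [hD, Finset.mem_sdiff, Finset.mem_univ, true_and, Finset.mem_insert, not_or] at hYD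
    obtain ⟨hYP, hYC⟩ := hYD
    set K := L' ⊓ MulAction.stabilizer G Y with hK
    have hnoinv : ∀ i ∈ K, orderOf i ≠ 2 := by
      intro i hi hio
      obtain ⟨g, hg⟩ := hfixline i hio
      have h1 : P0 ∈ img g := hg ▸ by
        simp only [Fix, Finset.mem_filter, Finset.mem_univ, true_and]; exact (hfixP i).2 hi.1
      have h2 : Y ∈ img g := hg ▸ by
        simp only [Fix, Finset.mem_filter, Finset.mem_univ, true_and]; exact hi.2
      obtain ⟨m, hm, hme⟩ := hthrough g h1
      exact hYC (hC₀mem m hm Y hYP (hme ▸ h2))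
    have hodd : Odd (Nat.card K) := by
      refine Nat.not_even_iff_odd.1 fun he => ?_
      obtain ⟨i, hi, hio⟩ := Invol.exists_orderOf_two_mem he
      exact hnoinv i hi hio
    have hKA : K ⊓ A = ⊥ := by
      rw [eq_bot_iff]
      intro y hy
      by_contra h1
      exact hnoinv y hy.1 (o.max.2.1.orderOf_eq_two hy.2 fun e => h1 (e ▸ one_mem _))
    have h1 := Grp.card_sup_mul_card_inf (H := K) (N := A) (inf_le_left.trans p.hL'.ge)
    rw [hKA, Subgroup.card_bot, mul_one, hcA] at h1
    have h2 : Nat.card K * 16 ∣ 960 := by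
      rw [← h1, ← cardL']
      exact Subgroup.card_dvd_of_le (sup_le inf_le_left (o'.QL))
    have h60 : Nat.card K ∣ 60 := (Nat.mul_dvd_mul_iff_right (by norm_num : 0 < 16)).1 (by simpa using h2)
    have h15 : Nat.card K ≠ 15 := by
      intro hc
      haveI := Fact.mk (show Nat.Prime 5 by norm_num)
      haveI := Fact.mk (show Nat.Prime 3 by norm_num)
      obtain ⟨x, hx⟩ := exists_prime_orderOf_dvd_card' (G := K) 5 (by rw [hc]; norm_num)
      obtain ⟨y, hy⟩ := exists_prime_orderOf_dvd_card' (G := K) 3 (by rw [hc]; norm_num)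
      have hxy := commute_of_card_fifteen hc hx hy
      set x' : L' := ⟨x, x.2.1⟩ with hx'
      set y' : L' := ⟨y, y.2.1⟩ with hy'
      have hy'o : orderOf y' = 3 := by rw [hy', Subgroup.orderOf_mk, Subgroup.orderOf_coe, hy]
      have hx'o : orderOf x' = 5 := by rw [hx', Subgroup.orderOf_mk, Subgroup.orderOf_coe, hx]
      have hxy' : y' * x' = x' * y' := Subtype.ext (congrArg Subtype.val hxy :)
      have hyp : IsPGroup 3 (zpowers y') := Invol.isPGroup_zpowers (n := 1) (by rw [hy'o, pow_one])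
      obtain ⟨c, hcfix⟩ := hyp.nonempty_fixed_point_of_prime_not_dvd_card (L' ⧸ HL')
        (by rw [Nat.card_eq_fintype_card, h5']; norm_num)
      have hyc : y' • c = c := hcfix ⟨y', mem_zpowers y'⟩
      have hcard192 : Nat.card HL' = 192 := by
        rw [hHL'set, Nat.card_congr (subgroupOfEquivOfLe ?_).toEquiv, hH, o.card_stab h hr]
        rw [hHL']; exact inf_le_right
      have hnfix : ∀ j : ℕ, x' ^ j • c = c → x' ^ j = 1 := by
        intro j hj
        rw [← QuotientGroup.out_eq' c, Invol.smul_coset_eq_iff] at hj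
        have h192 : orderOf (c.out⁻¹ * x' ^ j * c.out) ∣ 192 := by
          rw [← hcard192, ← Subgroup.orderOf_mk _ hj]
          exact orderOf_dvd_natCard _
        rw [show c.out⁻¹ * x' ^ j * c.out = c.out⁻¹ * x' ^ j * c.out⁻¹⁻¹ by group, Invol.orderOf_conj_eq] at h192
        have h5 : orderOf (x' ^ j) ∣ 5 := hx'o ▸ orderOf_pow_dvd j
        exact orderOf_eq_one_iff.1 (Nat.eq_one_of_dvd_coprimes (by norm_num) h192 h5)
      have hinj : Function.Injective fun j : Fin 5 => x' ^ (j : ℕ) • c := by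
        intro i j e
        have key : ∀ a b : Fin 5, a ≤ b → x' ^ (a : ℕ) • c = x' ^ (b : ℕ) • c → a = b := by
          intro a b hab e'
          have h1 : x' ^ ((b : ℕ) - a) • c = c := by
            refine MulAction.injective (x' ^ (a : ℕ)) ?_
            show x' ^ (a : ℕ) • x' ^ ((b : ℕ) - a) • c = x' ^ (a : ℕ) • c
            rw [← mul_smul, ← pow_add, Nat.add_sub_cancel' (Fin.le_def.1 hab)]
            exact e'.symm
          have h2 := Nat.le_of_dvd (n := (b : ℕ) - a) (m := 5)
          have h3 : 5 ∣ (b : ℕ) - a := hx'o.symm.dvd.trans (orderOf_dvd_of_pow_eq_one (hnfix _ h1))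
          refine Fin.ext ?_
          rcases Nat.eq_zero_or_pos ((b : ℕ) - a) with h4 | h4
          · have := Fin.le_def.1 hab; omega
          · have := h2 h4 h3; omega
        rcases le_total i j with hij | hij
        · exact key i j hij e
        · exact (key j i hij e.symm).symm
      have hall : ∀ d : L' ⧸ HL', y' • d = d := by
        intro d
        obtain ⟨j, rfl⟩ := (hinj.bijective_of_nat_card_le
          (by rw [Nat.card_eq_fintype_card, h5', Nat.card_eq_fintype_card, Fintype.card_fin])).2 d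
        show y' • x' ^ (j : ℕ) • c = x' ^ (j : ℕ) • c
        rw [← mul_smul, (Commute.pow_right hxy' _ :).eq, mul_smul, hyc]
      have hyA : (y' : G) ∈ A := by
        refine o'.mem_core_of_fix_all h y'.2 fun l hl => ?_
        have h1 := hall (QuotientGroup.mk ⟨l, hl⟩)
        rw [Invol.smul_coset_eq_iff] at h1
        have h2 : l⁻¹ * y' * l ∈ normalizer (W : Set G) := (mem_subgroupOf.1 h1).2
        rw [mem_normalizer_iff_cj, ← cj_mul, show (y' : G) * l = l * (l⁻¹ * y' * l) by group, cj_mul, hW',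
          cj_eq_self h2]
      have : (y : G) = 1 := mem_bot.1 (hKA.le (⟨y.2, hyA⟩ : (y : G) ∈ K ⊓ A))
      have hy1 : y = 1 := Subtype.ext this
      rw [hy1, orderOf_one] at hy
      omega
    have hle := Nat.le_of_dvd (by norm_num) h60
    obtain ⟨k, hk⟩ := h60
    by_contra hgt
    push Not at hgt
    obtain ⟨o2, ho2⟩ := hodd
    interval_cases hc : Nat.card K <;> omega
  -- counting the involutions moving the base point
  have hmov : 15 * n ≤ 75 + (5 * 48 + D.card * 5) := by
    set Sout : (L' ⧸ HL') → Finset G := fun c => I.filter fun i =>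
      ((c.out : L') : G)⁻¹ * i * (c.out : L') ∈ L ∧ ((c.out : L') : G)⁻¹ * i * (c.out : L') ∉ L' with hSout
    set Sin : G ⧸ L' → Finset G := fun Y => I.filter fun i => i • P0 = Y with hSin
    have hsplit : I ⊆ (I.filter fun i => i • P0 = P0) ∪ (Finset.univ.biUnion Sout ∪ D.biUnion Sin) := by
      intro i hi
      simp only [Finset.mem_union, Finset.mem_filter, Finset.mem_biUnion, Finset.mem_univ, true_and]
      by_cases hfx : i • P0 = P0
      · exact Or.inl ⟨hi, hfx⟩
      right
      by_cases hC : i • P0 ∈ C₀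
      · left
        rw [hC₀, Finset.mem_image] at hC
        obtain ⟨⟨c, Z⟩, hZ, hZe⟩ := hC
        simp only [Finset.mem_product, Finset.mem_univ, true_and, Finset.mem_erase] at hZ
        set m : G := ((c.out : L') : G) with hm
        change m • Z = i • P0 at hZe
        have hYm : i • P0 ∈ img m := hZe ▸ Finset.mem_image_of_mem _ hZ.2
        have hPm : P0 ∈ img m := by
          rw [hmemimg, (hfixP _).2 (inv_mem c.out.2)]; exact hP0l
        have hii : i * i = 1 := Invol.mul_self_of_orderOf_two ((hmemI i).1 hi)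
        have heq : img m = img (i * m) := by
          refine huniq _ _ P0 (i • P0) (fun e => hfx e.symm) hPm hYm ?_ ?_
          · rw [hmulimg]
            refine Finset.mem_image.2 ⟨i • P0, hYm, ?_⟩
            show i • i • P0 = P0
            rw [← mul_smul, hii, one_smul]
          · rw [hmulimg]
            exact Finset.mem_image_of_mem _ hPm
        refine ⟨c, Finset.mem_filter.2 ⟨hi, hstab _ ?_, fun hm' => hfx ?_⟩⟩
        · rw [show m⁻¹ * i * m = m⁻¹ * (i * m) by group, hmulimg, ← heq, ← hmulimg, inv_mul_cancel, hone]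
        · have := mul_mem (mul_mem c.out.2 hm') (inv_mem c.out.2)
          rw [← hm, show m * (m⁻¹ * i * m) * m⁻¹ = i by group] at this
          exact (hfixP i).2 this
      · right
        refine ⟨i • P0, ?_, Finset.mem_filter.2 ⟨hi, rfl⟩⟩
        simp only [hD, Finset.mem_sdiff, Finset.mem_univ, true_and, Finset.mem_insert, not_or]
        exact ⟨hfx, hC⟩
    have hout : ∀ c, (Sout c).card = 48 := by
      intro c
      set m : G := ((c.out : L') : G) with hm
      have hbij : (Sout c).card = ((I.filter fun i => i ∈ L).filter fun i => i ∉ L').card := by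
        refine Finset.card_bij' (fun i _ => m⁻¹ * i * m) (fun t _ => m * t * m⁻¹) ?_ ?_ ?_ ?_
        · intro i hi
          simp only [hSout, Finset.mem_filter, hmemI] at hi ⊢
          exact ⟨⟨by rw [← hi.1, ← Invol.orderOf_conj_eq m⁻¹ i, inv_inv], hi.2.1⟩, hi.2.2⟩
        · intro t ht
          simp only [hSout, Finset.mem_filter, hmemI] at ht ⊢
          exact ⟨by rw [Invol.orderOf_conj_eq, ht.1.1],
            by simpa [← hm, mul_assoc] using ht.1.2, by simpa [← hm, mul_assoc] using ht.2⟩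
        · intro i _; group
        · intro t _; group
      have h1 := Finset.card_filter_add_card_filter_not (s := I.filter fun i => i ∈ L) (fun i => i ∈ L')
      have h2 : ((I.filter fun i => i ∈ L).filter fun i => i ∈ L').card = 27 := by
        rw [Finset.filter_filter, ← o.card_invol_stab h hr, ← hcount]
        congr 1
        ext i
        simp only [Finset.mem_filter]
        rw [← hH, hHL']
        exact ⟨fun hh => ⟨hh.1, hh.2.1, hh.2.2⟩, fun hh => ⟨hh.1, hh.2.1, hh.2.2⟩⟩
      rw [hcount L, o.card_invol h hr, h2] at h1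
      omega
    have hin : ∀ Y ∈ D, (Sin Y).card ≤ 5 := by
      intro Y hY
      rcases (Sin Y).eq_empty_or_nonempty with e | ⟨u, hu⟩
      · simp [e]
      refine le_trans ?_ (hK5 Y hY)
      simp only [hSin, Finset.mem_filter, hmemI] at hu
      have huu : u * u = 1 := Invol.mul_self_of_orderOf_two hu.1
      have huY : u • Y = P0 := by rw [← hu.2, ← mul_smul, huu, one_smul]
      refine le_trans ?_ (Nat.card_le_card_of_injective (α := {i : G // i ∈ Sin Y})
        (fun i => (⟨u * i, ?_, ?_⟩ : ↥(L' ⊓ MulAction.stabilizer G Y))) fun i j e => ?_)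
      · rw [Nat.card_eq_fintype_card, Fintype.card_coe]
      · obtain ⟨i, hi⟩ := i
        simp only [hSin, Finset.mem_filter] at hi
        show u * i ∈ L'
        rw [← hfixP, mul_smul, hi.2, huY]
      · obtain ⟨i, hi⟩ := i
        simp only [hSin, Finset.mem_filter, hmemI] at hi
        show (u * i) • Y = Y
        rw [mul_smul]
        have hiY : i • Y = P0 := by rw [← hi.2, ← mul_smul, Invol.mul_self_of_orderOf_two hi.1, one_smul]
        rw [hiY, hu.2]
      · exact Subtype.ext (mul_left_cancel (congrArg Subtype.val e :))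
    have h1 := (Finset.card_le_card hsplit).trans ((Finset.card_union_le _ _).trans
      (Nat.add_le_add_left ((Finset.card_union_le _ _).trans (Nat.add_le_add (Finset.card_biUnion_le)
        (Finset.card_biUnion_le))) _))
    rw [hN, show (I.filter fun i => i • P0 = P0).card = 75 from h75 1,
      Finset.sum_congr rfl fun c _ => hout c, Finset.sum_const, Finset.card_univ, h5', smul_eq_mul] at h1
    have h2 : ∑ Y ∈ D, (Sin Y).card ≤ D.card * 5 := by
      refine (Finset.sum_le_sum hin).trans ?_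
      rw [Finset.sum_const, smul_eq_mul]
    omega
  have hn21 : n = 21 := by omega
  have hG' : Nat.card G = 20160 := by rw [hGn, hn21]
  have hcover : ∀ Z : G ⧸ L', Z ≠ P0 → Z ∈ C₀ := by
    intro Z hZ
    by_contra hc
    have hZD : Z ∈ D := by
      simp only [hD, Finset.mem_sdiff, Finset.mem_univ, true_and, Finset.mem_insert, not_or]
      exact ⟨hZ, hc⟩
    have := Finset.card_pos.2 ⟨Z, hZD⟩
    omega
  have hα : Fintype.card (G ⧸ L') = 21 := by rw [← Nat.card_eq_fintype_card, ← hn, hn21]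
  refine iso_psl_three_four hα (B := Set.range img) ⟨?_, ?_⟩ hG' ?_ ?_
  · rintro _ ⟨g, rfl⟩
    exact hcardimg g
  · intro s hs
    obtain ⟨X, Y, hXY, rfl⟩ := Finset.card_eq_two.1 hs
    obtain ⟨g, rfl⟩ := QuotientGroup.mk_surjective X
    have hZ : g⁻¹ • Y ≠ P0 := fun e => hXY (by rw [← smul_inv_smul g Y, e, hP0g])
    have hZC := hcover _ hZ
    rw [hC₀, Finset.mem_image] at hZC
    obtain ⟨⟨c, Z⟩, hZm, hZe⟩ := hZC
    simp only [Finset.mem_product, Finset.mem_univ, true_and, Finset.mem_erase] at hZm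
    change ((c.out : L') : G) • Z = g⁻¹ • Y at hZe
    have hXm : (QuotientGroup.mk g : G ⧸ L') ∈ img (g * (c.out : L')) := by
      rw [hmulimg, ← hP0g g]
      exact Finset.mem_image_of_mem _ (by rw [hmemimg, (hfixP _).2 (inv_mem c.out.2)]; exact hP0l)
    have hYm : Y ∈ img (g * (c.out : L')) := by
      rw [← smul_inv_smul g Y, ← hZe, hmulimg]
      exact Finset.mem_image_of_mem _ (Finset.mem_image_of_mem _ hZm.2)
    refine ⟨img (g * (c.out : L')), ⟨⟨_, rfl⟩, ?_⟩, ?_⟩
    · simp only [Finset.insert_subset_iff, Finset.singleton_subset_iff]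
      exact ⟨hXm, hYm⟩
    · rintro _ ⟨⟨g', rfl⟩, hsub⟩
      simp only [Finset.insert_subset_iff, Finset.singleton_subset_iff] at hsub
      exact huniq _ _ _ _ hXY hsub.1 hsub.2 hXm hYm
  · by_contra hc
    push Not at hc
    have : Fintype.card (G ⧸ L') ≤ 1 := Fintype.card_le_one_iff.2 fun a b => by
      obtain ⟨g, rfl⟩ := QuotientGroup.mk_surjective a
      obtain ⟨k, rfl⟩ := QuotientGroup.mk_surjective b
      rw [← hP0g g, ← hP0g k, hc, hc]
    omega
  · rintro g _ ⟨k, rfl⟩
    exact ⟨g * k, hmulimg g k⟩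

end Cfsg.Agent.Transfer.CIT
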