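import Mathlib
import Cfsg.Agent.Lib.Transfer.CIT.Basic
import Cfsg.Agent.Lib.Classical.DicksonTorus
import Cfsg.Agent.S0144
import Cfsg.Agent.S2475

/-!
Which groups `PSL(2, F)` are simple groups with 2-groups as involution centralisers.
-/

set_option autoImplicit false
set_option linter.style.haveILetI false

universe u

namespace Cfsg.Agent.Transfer.CIT

open Cfsg.Agent Subgroup

variable {G : Type u} [Group G] [Finite G]
variable {F : Type} [Field F] [Fintype F]

/-- A simple `PSL(2, F)` has at least four field elements. -/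
theorem four_le_card_field [IsSimpleGroup G] (hG : ¬ IsMulCommutative G)
    (e : G ≃* Matrix.ProjectiveSpecialLinearGroup (Fin 2) F) : 4 ≤ Fintype.card F := by
  by_contra hlt
  have h1 : 1 < Fintype.card F := Fintype.one_lt_card
  have hc := Dickson.card_psl (F := F)
  rw [← Nat.card_congr e.toEquiv] at hc
  have hdel : Dickson.del F = Nat.gcd 2 (Fintype.card F - 1) := rfl
  refine hG ⟨⟨IsSimpleGroup.comm_iff_isSolvable.2 ?_⟩⟩
  rcases (show Fintype.card F = 2 ∨ Fintype.card F = 3 by omega) with h | h <;> rw [hdel, h] at hc <;>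
    norm_num at hc
  · exact S0144.result 2 3 1 1 Nat.prime_two Nat.prime_three (by omega)
  · exact S0144.result 2 3 2 1 Nat.prime_two Nat.prime_three (by omega)

/-- Every divisor of `(q ± 1) / 2` is the order of an element. -/
theorem exists_orderOf_half (e : G ≃* Matrix.ProjectiveSpecialLinearGroup (Fin 2) F)
    (h4 : 4 ≤ Fintype.card F) {m : ℕ}
    (hm : m ∣ (Fintype.card F - 1) / Nat.gcd 2 (Fintype.card F - 1) ∨
      m ∣ (Fintype.card F + 1) / Nat.gcd 2 (Fintype.card F - 1)) : ∃ g : G, orderOf g = m := by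
  obtain ⟨p, hp⟩ := CharP.exists F
  haveI := hp
  haveI : Fact p.Prime := ⟨CharP.char_is_prime F p⟩
  have h := S2475.result (F := F) p h4
  obtain ⟨y, hy⟩ : m ∈ Set.range (orderOf : Matrix.ProjectiveSpecialLinearGroup (Fin 2) F → ℕ) := by
    rw [h]; exact Or.inr hm
  exact ⟨e.symm y, by rw [MulEquiv.orderOf_eq, hy]⟩

/-- An element order divisible by two is a power of two. -/
theorem IsCIT.orderOf_of_even (h : IsCIT G) {g : G} (hg : 2 ∣ orderOf g) : ∃ k : ℕ, orderOf g = 2 ^ k :=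
  h.orderOf_two_pow (orderOf_pow_orderOf_div (orderOf_pos g).ne' hg) (Commute.self_pow g _)

theorem eq_one_of_pow_two {p n k : ℕ} (hp : p.Prime) (hp2 : p ≠ 2) (hn : n ≠ 0)
    (h : p ^ n = 2 ^ k + 1 ∨ p ^ n + 1 = 2 ^ k) : n = 1 ∨ p ^ n = 9 := by
  have hodd : Odd p := hp.odd_of_ne_two hp2
  rcases Nat.even_or_odd n with ⟨m, rfl⟩ | ho
  · rcases h with h | h
    · right
      rw [pow_add] at h ⊢
      obtain ⟨j, hj⟩ : ∃ j, p ^ m = 2 * j + 1 := hodd.pow
      rw [hj] at h ⊢
      have h2 : 2 ^ k = 4 * (j * (j + 1)) := by nlinarith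
      have hk : 2 ≤ k := by
        by_contra hk
        interval_cases k <;> omega
      obtain ⟨l, rfl⟩ : ∃ l, k = l + 2 := ⟨k - 2, by omega⟩
      rw [pow_add] at h2
      have h3 : j * (j + 1) = 2 ^ l := by omega
      obtain ⟨a, -, ha⟩ := (Nat.dvd_prime_pow Nat.prime_two).1 (Dvd.intro _ h3)
      obtain ⟨b, -, hb⟩ := (Nat.dvd_prime_pow Nat.prime_two).1 (Dvd.intro_left _ h3)
      rcases Nat.eq_zero_or_pos a with rfl | ha0
      · simp at ha; subst ha; norm_num
      · exfalso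
        have h2a : 2 ∣ 2 ^ a := dvd_pow_self 2 ha0.ne'
        rcases Nat.eq_zero_or_pos b with rfl | hb0
        · rw [pow_zero] at hb
          have := Nat.two_pow_pos a
          omega
        · have h2b : 2 ∣ 2 ^ b := dvd_pow_self 2 hb0.ne'
          omega
    · exfalso
      rw [pow_add] at h
      obtain ⟨j, hj⟩ : ∃ j, p ^ m = 2 * j + 1 := hodd.pow
      rw [hj] at h
      have h2 : 2 ^ k = 4 * (j * (j + 1)) + 2 := by nlinarith
      have hm : m ≠ 0 := by omega
      have hj0 : 1 ≤ j := by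
        by_contra hj0
        have := Nat.one_lt_pow hm hp.one_lt
        omega
      have hk : 2 ≤ k := by
        by_contra hk
        interval_cases k <;> nlinarith
      have h4 : 4 ∣ 2 ^ k := pow_dvd_pow 2 hk
      omega
  · left
    obtain ⟨l, rfl⟩ := ho
    by_contra hl
    have hp3 : 3 ≤ p := by have := hp.two_le; omega
    have hlt : p < p ^ (2 * l + 1) := by
      simpa using Nat.pow_lt_pow_right hp.one_lt (show 1 < 2 * l + 1 by omega)
    obtain ⟨i, hi⟩ := hodd
    rcases h with h | h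
    · have hd : p - 1 ∣ 2 ^ k := by
        have := Nat.sub_dvd_pow_sub_pow p 1 (2 * l + 1)
        rwa [one_pow, h, Nat.add_sub_cancel] at this
      obtain ⟨a, -, ha⟩ := (Nat.dvd_prime_pow Nat.prime_two).1 hd
      have hak : a < k := (Nat.pow_lt_pow_iff_right one_lt_two).1 (by omega)
      have hm : p ^ (2 * l + 1) ≡ p [MOD 2 * (p - 1)] := by
        have h2 : p ^ 2 ≡ 1 [MOD 2 * (p - 1)] := by
          refine ((Nat.modEq_iff_dvd' (Nat.one_le_pow _ _ hp.pos)).2 ⟨i + 1, ?_⟩).symm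
          subst hi
          rw [Nat.add_sub_cancel, Nat.sub_eq_iff_eq_add (Nat.one_le_pow _ _ (by omega))]
          ring
        rw [pow_succ, pow_mul]
        have := (h2.pow l).mul_right p
        rwa [one_pow, one_mul] at this
      have h1 : 2 ^ k + 1 ≡ 1 [MOD 2 * (p - 1)] := by
        rw [ha, ← pow_succ']
        exact ((Nat.modEq_iff_dvd' (by omega)).2 (by
          rw [Nat.add_sub_cancel]; exact pow_dvd_pow 2 hak)).symm
      have h3 := ((h ▸ hm).symm.trans h1).symm
      have h4 := Nat.le_of_dvd (by omega) ((Nat.modEq_iff_dvd' (by omega)).1 h3)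
      omega
    · have hd : p + 1 ∣ 2 ^ k := by
        have := Odd.nat_add_dvd_pow_add_pow (x := p) (y := 1) (odd_two_mul_add_one l)
        rwa [one_pow, h] at this
      obtain ⟨a, -, ha⟩ := (Nat.dvd_prime_pow Nat.prime_two).1 hd
      have hak : a < k := (Nat.pow_lt_pow_iff_right one_lt_two).1 (by omega)
      have hm : p ^ (2 * l + 1) ≡ p [MOD 2 * (p + 1)] := by
        have h2 : p ^ 2 ≡ 1 [MOD 2 * (p + 1)] := by
          refine ((Nat.modEq_iff_dvd' (Nat.one_le_pow _ _ hp.pos)).2 ⟨i, ?_⟩).symm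
          subst hi
          rw [Nat.sub_eq_iff_eq_add (Nat.one_le_pow _ _ (by omega))]
          ring
        rw [pow_succ, pow_mul]
        have := (h2.pow l).mul_right p
        rwa [one_pow, one_mul] at this
      have h1 : 2 * (p + 1) ∣ p ^ (2 * l + 1) + 1 := by
        rw [h, ha, ← pow_succ']
        exact pow_dvd_pow 2 hak
      have h3 : 2 * (p + 1) ∣ p + 1 := Nat.modEq_zero_iff_dvd.1
        (((hm.add_right 1).symm).trans (Nat.modEq_zero_iff_dvd.2 h1))
      have h4 := Nat.le_of_dvd (by omega) h3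
      omega

/-- The fields that occur. -/
theorem IsCIT.field_card (h : IsCIT G) [IsSimpleGroup G] (hG : ¬ IsMulCommutative G)
    (e : G ≃* Matrix.ProjectiveSpecialLinearGroup (Fin 2) F) :
    Fintype.card F = 9 ∨ (∃ n : ℕ, Fintype.card F = 2 ^ n) ∨
      ((Fintype.card F).Prime ∧ ∃ k : ℕ, Fintype.card F = 2 ^ k + 1 ∨ Fintype.card F + 1 = 2 ^ k) := by
  have h4 := four_le_card_field hG e
  obtain ⟨p, hp⟩ := CharP.exists F
  haveI := hp
  obtain ⟨n, hpp, hn⟩ := FiniteField.card F p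
  by_cases hp2 : p = 2
  · subst hp2; exact Or.inr (Or.inl ⟨n, hn⟩)
  set q := Fintype.card F with hq
  have hqo : Odd q := hn ▸ (hpp.odd_of_ne_two hp2).pow
  have hd : Nat.gcd 2 (q - 1) = 2 := Nat.gcd_eq_left (by obtain ⟨j, hj⟩ := hqo; omega)
  obtain ⟨j, hj⟩ := hqo
  have key : ∃ k : ℕ, q = 2 ^ k + 1 ∨ q + 1 = 2 ^ k := by
    rcases Nat.even_or_odd j with hje | hjo
    · obtain ⟨g, hg⟩ := exists_orderOf_half e h4 (m := j) (Or.inl (by rw [hd]; exact ⟨1, by omega⟩))
      obtain ⟨k, hk⟩ := h.orderOf_of_even (hg ▸ hje.two_dvd)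
      exact ⟨k + 1, Or.inl (by rw [pow_succ, ← hk, hg]; omega)⟩
    · obtain ⟨g, hg⟩ := exists_orderOf_half e h4 (m := j + 1) (Or.inr (by rw [hd]; exact ⟨1, by omega⟩))
      obtain ⟨k, hk⟩ := h.orderOf_of_even (hg ▸ hjo.add_one.two_dvd)
      exact ⟨k + 1, Or.inr (by rw [pow_succ, ← hk, hg]; omega)⟩
  obtain ⟨k, hk⟩ := key
  rw [hn] at hk
  rcases eq_one_of_pow_two hpp hp2 n.pos.ne' hk with h1 | h9
  · refine Or.inr (Or.inr ⟨?_, k, hn.symm ▸ hk⟩)
    rw [hn, h1, pow_one]
    exact hpp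
  · exact Or.inl (hn.trans h9)

end Cfsg.Agent.Transfer.CIT
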