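import Mathlib
import Cfsg.Agent.Lib.Transfer.CIT.Plane
import Cfsg.Agent.Lib.Transfer.CIT.PSLTwo

/-!
The classification of the finite simple groups in which involution centralisers are 2-groups.
-/

set_option autoImplicit false

universe u

namespace Cfsg.Agent.Transfer.CIT

variable {G : Type u} [Group G] [Finite G]

/-- The classification of simple CIT groups. -/
theorem IsCIT.classification (h : IsCIT G) [IsSimpleGroup G] (hG : ¬ IsMulCommutative G) :
    (∃ (F : Type) (_ : Field F) (_ : Fintype F),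
        (Fintype.card F = 9 ∨ (∃ n : ℕ, Fintype.card F = 2 ^ n) ∨
          ((Fintype.card F).Prime ∧ ∃ k : ℕ, Fintype.card F = 2 ^ k + 1 ∨ Fintype.card F + 1 = 2 ^ k)) ∧
        Nonempty (G ≃* Matrix.ProjectiveSpecialLinearGroup (Fin 2) F)) ∨
    (∃ (F : Type) (_ : Field F) (_ : Fintype F), Fintype.card F = 4 ∧
        Nonempty (G ≃* Matrix.ProjectiveSpecialLinearGroup (Fin 3) F)) ∨
    Cfsg.IsSuzuki G := by
  rcases h.trichotomy hG with (⟨F, i1, i2, ⟨e⟩⟩ | hS) | ⟨T, L, L', R, A, V, p, hr⟩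
  · exact Or.inl ⟨F, i1, i2, h.field_card hG e, ⟨e⟩⟩
  · exact Or.inr (Or.inr hS)
  · exact Or.inr (Or.inl (p.psl_three_four h hG hr))

end Cfsg.Agent.Transfer.CIT
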