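import Mathlib
import Cfsg.Agent.Lib.Transfer.CIT.Embedded
import Cfsg.Agent.Lib.Transfer.CIT.Dihedral
import Cfsg.Agent.Lib.Invol.JCompOddGen
import Cfsg.Agent.S2947
import Cfsg.Agent.S2949
import Cfsg.Agent.S0508

/-!
Simple groups whose involution centralisers are 2-groups and all whose 2-local subgroups are solvable.
-/

set_option autoImplicit false
set_option linter.style.haveILetI false

open scoped Pointwise commutatorElement

universe u

namespace Cfsg.Agent.Transfer.CIT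

open Cfsg.Agent Subgroup

variable {G : Type u} [Group G] [Finite G]

/-- Either a strongly embedded maximal 2-local subgroup, or two maximal 2-local subgroups isomorphic to `S₄`. -/
theorem dichotomy (hL : Cfsg.IsCharacteristicTwoType G) (hO : Cfsg.pCore 2 G = ⊥)
    (hN : ∀ N : Subgroup G, Cfsg.IsTwoLocal N → Group.IsSolvable N)
    (hZ : ∀ S : Sylow 2 G,
      Subgroup.centralizer {z : G | z ∈ (S : Subgroup G) ∧ z ^ 2 = 1 ∧ ∀ s ∈ (S : Subgroup G), s * z = z * s} ≤
        Subgroup.normalizer ((S : Subgroup G) : Set G))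
    (H : Subgroup G) (hH : H = Subgroup.closure {g : G | Odd (orderOf g)}) :
    (∃ M : Subgroup G, Cfsg.IsMaximalTwoLocal M ∧ Cfsg.IsStronglyEmbedded M) ∨
      ∃ M₁ M₂ : Subgroup H, M₁ ≠ M₂ ∧ Cfsg.IsMaximalTwoLocal M₁ ∧ Cfsg.IsMaximalTwoLocal M₂ ∧
        Nonempty (M₁ ≃* Equiv.Perm (Fin 4)) ∧ Nonempty (M₂ ≃* Equiv.Perm (Fin 4)) ∧ Nat.card ↥(M₁ ⊓ M₂) = 8 := by
  classical
  haveI := Fact.mk Nat.prime_two
  have hzn : ∀ S : Sylow 2 G, Subgroup.centralizer (Cfsg.omegaCenterOf (S : Subgroup G) : Set G) ≤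
      Subgroup.normalizer ((S : Subgroup G) : Set G) := by
    intro S
    have e : (Cfsg.omegaCenterOf (S : Subgroup G) : Set G) =
        {z : G | z ∈ (S : Subgroup G) ∧ z ^ 2 = 1 ∧ ∀ s ∈ (S : Subgroup G), s * z = z * s} := by
      ext x
      rw [SetLike.mem_coe, Cfsg.Agent.Invol.JComp.mem_omegaCenter, Set.mem_setOf_eq, pow_two]
      tauto
    rw [e]
    exact hZ S
  let S : Sylow 2 G := default
  have hS1 : (S : Subgroup G) ≠ ⊥ := S.ne_bot_of_dvd_card hL.1.two_dvd
  have hJ2 : Cfsg.IsTwoLocal (Subgroup.normalizer (Cfsg.thompsonSubgroupOf 2 (S : Subgroup G) : Set G)) :=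
    ⟨Cfsg.thompsonSubgroupOf 2 (S : Subgroup G), S.isPGroup'.to_le (Cfsg.Agent.Invol.thompsonEl_le _),
      Cfsg.Agent.Invol.JComp.thompson_ne_bot S.isPGroup' hS1, rfl⟩
  obtain ⟨M, hM, hMJ⟩ := Cfsg.Agent.Invol.JComp.exists_maximalTwoLocal hJ2
  by_cases hs : Cfsg.straddlingTwoSubgroups M = ∅
  · exact Or.inl ⟨M, hM, (Cfsg.Agent.S2947.result hL hN hzn hO S M hM.1 hMJ).2 hs⟩
  right
  obtain ⟨T, hT⟩ := Cfsg.Agent.Invol.JComp.exists_maxStraddling (Set.nonempty_iff_ne_empty.2 hs)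
  have c := Cfsg.Agent.Invol.JComp.Ctx.mk' hL hN hzn hO hMJ hT
  obtain ⟨K, hK⟩ := Cfsg.Agent.S2949.result hL hN hzn hO S M hM.1 hMJ T hT
  obtain ⟨L₁, K₂, L₂, -, g₁, g₂, h⟩ := Cfsg.Agent.Invol.JComp.exists_pair_of_outside c hK
  obtain ⟨z, p⟩ := g₁.exists_pairData g₂ h
  exact p.odd_conclusion hH

/-- A 2-local subgroup isomorphic to `S₄` gives dihedral Sylow 2-subgroups, hence `PSL(2, F)` with `|F|` odd. -/
theorem IsCIT.of_four (h : IsCIT G) [IsSimpleGroup G] (hG : ¬ IsMulCommutative G) {T : Subgroup G}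
    (hT : IsPGroup 2 T) (hT1 : T ≠ ⊥) (e : normalizer (T : Set G) ≃* Equiv.Perm (Fin 4)) :
    ∃ (F : Type) (_ : Field F) (_ : Fintype F),
      Nonempty (G ≃* Matrix.ProjectiveSpecialLinearGroup (Fin 2) F) := by
  classical
  haveI := Fact.mk Nat.prime_two
  obtain ⟨h4, hC, hsq⟩ := four_of_local hT hT1 e
  obtain ⟨S, hS⟩ := hT.exists_le_sylow
  have hne : Nat.card (S : Subgroup G) ≠ 4 := by
    intro hc
    have hN8 : 8 ∣ Nat.card G := by
      refine Dvd.dvd.trans ?_ (card_subgroup_dvd_card (normalizer (T : Set G)))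
      rw [Nat.card_congr e.toEquiv, Nat.card_eq_fintype_card, Fintype.card_perm, Fintype.card_fin]
      exact ⟨3, rfl⟩
    have := S.pow_dvd_card_of_pow_dvd_card (n := 3) (by simpa using hN8)
    rw [hc] at this
    norm_num at this
  obtain ⟨n, hn, hd⟩ := h.dihedral hG h4 hC hsq S hS hne
  haveI : Nontrivial (S : Subgroup G) := (nontrivial_iff_ne_bot _).2 (sylow_ne_bot hG S)
  haveI := S.isPGroup'.center_nontrivial
  obtain ⟨z, hzc, hz2⟩ := exists_involution_mem (G := (S : Subgroup G))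
    (S.isPGroup'.to_subgroup (center (S : Subgroup G))) ((nontrivial_iff_ne_bot _).1 inferInstance)
  have ht : orderOf (z : G) = 2 := by rw [orderOf_coe, hz2]
  have hzS : ∀ s ∈ (S : Subgroup G), s * (z : G) = z * s := fun s hs =>
    congrArg Subtype.val (mem_center_iff.1 hzc ⟨s, hs⟩)
  have hO : (Cfsg.oddCore (Subgroup.centralizer ({(z : G)} : Set G))).map
      (Subgroup.centralizer ({(z : G)} : Set G)).subtype = ⊥ := by
    rw [map_eq_bot_iff_of_injective _ (subtype_injective _)]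
    obtain ⟨k, hk⟩ := (h (z : G) ht).exists_card_eq
    refine Subgroup.card_eq_one.1 (Nat.eq_one_of_dvd_coprimes
      (Nat.Coprime.pow_right k (Grp.pPrimeCore_coprime (p := 2))) dvd_rfl ?_)
    rw [← hk]
    exact card_subgroup_dvd_card _
  obtain ⟨F, i1, i2, -, hiso⟩ := S0508.result S n hn hd (z : G) ht z.2 hzS ⊥ hO.symm (fun hne' => absurd rfl hne')
    (fun s _ hs => absurd (mem_centralizer_iff.2 fun y hy => by
      obtain rfl : y = 1 := mem_bot.1 hy
      rw [one_mul, mul_one]) hs)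
    (fun Y hY hY1 => absurd (le_bot_iff.1 hY) hY1)
  exact ⟨F, i1, i2, hiso⟩

/-- The classification when all 2-local subgroups are solvable. -/
theorem IsCIT.of_solvable_locals (h : IsCIT G) [IsSimpleGroup G] (hG : ¬ IsMulCommutative G)
    (hN : ∀ N : Subgroup G, Cfsg.IsTwoLocal N → Group.IsSolvable N) :
    (∃ (F : Type) (_ : Field F) (_ : Fintype F),
      Nonempty (G ≃* Matrix.ProjectiveSpecialLinearGroup (Fin 2) F)) ∨ Cfsg.IsSuzuki G := by
  classical
  haveI := Fact.mk Nat.prime_two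
  rcases dichotomy (h.charTwoType (even_card hG)) (pCore_eq_bot hG) hN
      (fun S => h.centralizer_omegaCenter_le S (sylow_ne_bot hG S)) _ rfl with
    ⟨M, hM, hSE⟩ | ⟨M₁, M₂, h12, hM₁, hM₂, ⟨e⟩, he2, hcard⟩
  · exact h.of_embedded hG hM hSE
  left
  set H := Subgroup.closure {g : G | Odd (orderOf g)}
  have hH : H = ⊤ := by
    haveI : H.Normal := ⟨fun x hx g => by
      induction hx using Subgroup.closure_induction with
      | mem y hy => exact subset_closure (show Odd (orderOf (g * y * g⁻¹)) by rwa [Invol.orderOf_conj_eq])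
      | one => simp
      | mul a b _ _ ha hb => rw [← conj_mul]; exact mul_mem ha hb
      | inv a _ ha => rw [← conj_inv]; exact inv_mem ha⟩
    refine (IsSimpleGroup.eq_bot_or_eq_top_of_normal H inferInstance).resolve_left fun hb => ?_
    have hp : IsPGroup 2 G := by
      refine IsPGroup.iff_orderOf.2 fun g => ?_
      obtain ⟨a, m, hm, ho⟩ : ∃ a m : ℕ, ¬ 2 ∣ m ∧ orderOf g = 2 ^ a * m :=
        Nat.exists_eq_pow_mul_and_not_dvd (orderOf_pos g).ne' 2 (by norm_num)
      have h1 : orderOf (g ^ 2 ^ a) = m := by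
        rw [orderOf_pow_of_dvd (by positivity) (ho ▸ dvd_mul_right _ _), ho,
          Nat.mul_div_cancel_left _ (by positivity)]
      have h2 : g ^ 2 ^ a ∈ H := subset_closure (show Odd (orderOf (g ^ 2 ^ a)) by
        rw [h1]; exact Nat.odd_iff.2 (by omega))
      rw [hb, mem_bot] at h2
      rw [h2, orderOf_one] at h1
      exact ⟨a, by rw [ho, ← h1, mul_one]⟩
    exact hG ⟨⟨IsSimpleGroup.comm_iff_isSolvable.2 (@IsNilpotent.to_isSolvable _ _ hp.isNilpotent)⟩⟩
  obtain ⟨⟨T₀, hT₀, hT₀1, rfl⟩, -⟩ := hM₁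
  let φ : H ≃* G := (MulEquiv.subgroupCongr hH).trans topEquiv
  have hmap := map_equiv_normalizer_eq T₀ φ
  refine h.of_four hG (T := T₀.map φ.toMonoidHom) (hT₀.map _)
    (by rwa [Ne, map_eq_bot_iff_of_injective _ φ.injective]) ?_
  exact (MulEquiv.subgroupCongr hmap.symm).trans
    ((((normalizer (T₀ : Set H)).equivMapOfInjective φ.toMonoidHom φ.injective).symm).trans e)

end Cfsg.Agent.Transfer.CIT
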