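import Mathlib
import Cfsg.Agent.Lib.Transfer.CIT.Solvable
import Cfsg.Agent.Lib.Transfer.CIT.PSLTwo
import Cfsg.Agent.Lib.Grp.PrimePowerOrders
import Cfsg.Agent.Lib.Grp.Solvable
import Cfsg.Agent.Lib.Grp.Basic
import Cfsg.Agent.S3331
import Cfsg.Agent.S0204

/-!
Groups in which every element has order a power of two or a prime other than five: a non-solvable one is
simple of order 168.
-/

set_option autoImplicit false
set_option linter.style.haveILetI false

open scoped Pointwise

universe u

namespace Cfsg.Agent.Transfer.CIT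

open Cfsg.Agent Subgroup

/-- Every element has order a power of two or a prime other than five. -/
def TwoOrPrime (G : Type u) [Group G] : Prop :=
  ∀ g : G, g ≠ 1 → (∃ k : ℕ, orderOf g = 2 ^ k) ∨ ((orderOf g).Prime ∧ orderOf g ≠ 5)

variable {G : Type u} [Group G]

theorem TwoOrPrime.of_dvd (h : TwoOrPrime G) {g : G} {d : ℕ} (hd : d ∣ orderOf g) (hd1 : d ≠ 1) :
    (∃ k : ℕ, d = 2 ^ k) ∨ (d.Prime ∧ d ≠ 5) := by
  rcases eq_or_ne g 1 with rfl | hg
  · rw [orderOf_one, Nat.dvd_one] at hd; exact absurd hd hd1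
  rcases h g hg with ⟨k, hk⟩ | ⟨hp, h5⟩
  · rw [hk] at hd
    obtain ⟨j, -, hj⟩ := (Nat.dvd_prime_pow Nat.prime_two).1 hd
    exact Or.inl ⟨j, hj⟩
  · rcases (Nat.dvd_prime hp).1 hd with e | e
    · exact absurd e hd1
    · exact Or.inr ⟨e.symm ▸ hp, e.symm ▸ h5⟩

theorem TwoOrPrime.subgroup (h : TwoOrPrime G) (H : Subgroup G) : TwoOrPrime H := fun g hg => by
  rw [← Subgroup.orderOf_coe]
  exact h g fun e => hg (Subtype.ext e)

theorem TwoOrPrime.quotient (h : TwoOrPrime G) (N : Subgroup G) [N.Normal] : TwoOrPrime (G ⧸ N) := by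
  intro x hx
  obtain ⟨g, rfl⟩ := QuotientGroup.mk_surjective x
  exact h.of_dvd (orderOf_map_dvd (QuotientGroup.mk' N) g) (fun e => hx (orderOf_eq_one_iff.1 e))

theorem TwoOrPrime.eppo (h : TwoOrPrime G) : Grp.EPPO.EPPO G := fun g hg => by
  rcases h g hg with ⟨k, hk⟩ | ⟨hp, -⟩
  · rw [hk]
    refine Nat.prime_two.isPrimePow.pow fun e => hg ?_
    rw [e, pow_zero] at hk
    exact orderOf_eq_one_iff.1 hk
  · exact hp.isPrimePow

/-- No element of order five. -/
theorem TwoOrPrime.not_five_dvd [Finite G] (h : TwoOrPrime G) : ¬ 5 ∣ Nat.card G := fun h5 => by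
  haveI : Fact (Nat.Prime 5) := ⟨by norm_num⟩
  obtain ⟨g, hg⟩ := exists_prime_orderOf_dvd_card' 5 h5
  rcases h.of_dvd hg.symm.dvd (by norm_num) with ⟨k, hk⟩ | ⟨-, h5'⟩
  · rcases Nat.eq_zero_or_pos k with rfl | hk0
    · norm_num at hk
    · have := dvd_pow_self 2 hk0.ne'; omega
  · exact h5' rfl

theorem TwoOrPrime.prime_of_odd (h : TwoOrPrime G) {g : G} (hg : g ≠ 1) (ho : Odd (orderOf g)) :
    (orderOf g).Prime := by
  rcases h g hg with ⟨k, hk⟩ | ⟨hp, -⟩
  · rw [hk] at ho
    rcases Nat.eq_zero_or_pos k with rfl | hk0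
    · exact absurd (orderOf_eq_one_iff.1 (by simpa using hk)) hg
    · exact absurd ho (Nat.not_odd_iff_even.2 (Nat.even_pow.2 ⟨even_two, hk0.ne'⟩))
  · exact hp

theorem eppo_cit (h : Grp.EPPO.EPPO G) : IsCIT G := by
  intro t ht x
  rcases eq_or_ne (x : G) 1 with hx | hx
  · exact ⟨0, Subtype.ext (by simpa using hx)⟩
  obtain ⟨p, k, hp, hk0, hk⟩ := (isPrimePow_nat_iff _).1 (h x hx)
  obtain rfl : p = 2 := by
    by_contra hp2
    obtain ⟨j, rfl⟩ : ∃ j, k = j + 1 := ⟨k - 1, by omega⟩
    refine h.not_commute (a := (x : G) ^ p ^ j) hp Nat.prime_two hp2 ?_ ht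
      ((show Commute (x : G) t from mem_centralizer_singleton_iff.1 x.2).pow_left _)
    rw [orderOf_pow_of_dvd (pow_ne_zero _ hp.ne_zero) (hk ▸ pow_dvd_pow p (Nat.le_succ j)), ← hk,
      Nat.pow_div (Nat.le_succ j) hp.pos, show j + 1 - j = 1 by omega, pow_one]
  exact ⟨k, Subtype.ext (by rw [SubmonoidClass.coe_pow, hk, pow_orderOf_eq_one]; rfl)⟩

/-- The field has seven elements. -/
theorem TwoOrPrime.card_field [Finite G] (h : TwoOrPrime G) [IsSimpleGroup G] (hG : ¬ IsMulCommutative G)
    {F : Type} [Field F] [Fintype F] (e : G ≃* Matrix.ProjectiveSpecialLinearGroup (Fin 2) F) :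
    Nat.card G = 168 := by
  have h4 := four_le_card_field hG e
  have hc := Dickson.card_psl (F := F)
  rw [← Nat.card_congr e.toEquiv, show Dickson.del F = Nat.gcd 2 (Fintype.card F - 1) from rfl] at hc
  set q := Fintype.card F with hq
  have h3 : ∀ m : ℕ, Odd m → 3 ∣ m → (m ∣ (q - 1) / Nat.gcd 2 (q - 1) ∨ m ∣ (q + 1) / Nat.gcd 2 (q - 1)) →
      m = 3 := by
    intro m hmo hm3 hm
    obtain ⟨g, hg⟩ := exists_orderOf_half e h4 hm
    have hg1 : g ≠ 1 := fun e1 => by rw [e1, orderOf_one] at hg; omega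
    have := h.prime_of_odd hg1 (hg ▸ hmo)
    rw [hg] at this
    exact ((Nat.prime_dvd_prime_iff_eq Nat.prime_three this).1 hm3).symm
  have h5 : ∀ m : ℕ, 5 ∣ m → ¬ (m ∣ q * ((q - 1) * (q + 1))) := by
    intro m hm hd
    refine h.not_five_dvd ?_
    have h2 : (5 : ℕ).Coprime (Nat.gcd 2 (q - 1)) :=
      Nat.Coprime.coprime_dvd_right (Nat.gcd_dvd_left 2 _) (by norm_num)
    exact h2.dvd_of_dvd_mul_right (hc ▸ hm.trans hd)
  rcases (eppo_cit h.eppo).field_card hG e with h9 | ⟨n, hn⟩ | ⟨hp, k, hk⟩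
  · exact absurd (by rw [← hq] at h9; rw [h9]; norm_num) (h5 5 dvd_rfl)
  · exfalso
    rw [← hq] at hn
    have hn0 : n ≠ 0 := fun e0 => by rw [e0, pow_zero] at hn; omega
    have hev : 2 ∣ q := hn ▸ dvd_pow_self 2 hn0
    have hd : Nat.gcd 2 (q - 1) = 1 := Nat.coprime_two_left.2 (Nat.odd_iff.2 (by omega))
    have hq3 : ¬ 3 ∣ q := fun h3' => by
      rw [hn] at h3'
      exact absurd (Nat.prime_three.dvd_of_dvd_pow h3') (by norm_num)
    rcases (show 3 ∣ q - 1 ∨ 3 ∣ q + 1 by
        rcases (show q % 3 = 1 ∨ q % 3 = 2 by omega) with hm | hm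
        · exact Or.inl (by omega)
        · exact Or.inr (by omega)) with h' | h'
    · have hh := h3 (q - 1) (Nat.odd_iff.2 (by omega)) h' (Or.inl (by rw [hd, Nat.div_one]))
      exact h5 5 dvd_rfl (by rw [show q = 4 by omega]; norm_num)
    · have := h3 (q + 1) (Nat.odd_iff.2 (by omega)) h' (Or.inr (by rw [hd, Nat.div_one]))
      omega
  · rw [← hq] at hp hk
    have hd : Nat.gcd 2 (q - 1) = 2 := Nat.gcd_eq_left (by
      have := hp.odd_of_ne_two (by omega); obtain ⟨j, hj⟩ := this; omega)
    have hmod : ∀ j : ℕ, 2 ^ j % 3 = if Even j then 1 else 2 := by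
      intro j
      induction j with
      | zero => simp
      | succ j ih =>
        rw [pow_succ, Nat.mul_mod, ih]
        by_cases hj : Even j
        · rw [if_pos hj, if_neg (Nat.not_even_iff_odd.2 hj.add_one)]
        · rw [if_neg hj, if_pos (Nat.not_even_iff_odd.1 hj).add_one]
    have hno3 : ¬ 3 ∣ q := fun h3' => by
      have := (Nat.prime_dvd_prime_iff_eq Nat.prime_three hp).1 h3'
      omega
    have hk3 : 2 ≤ k := by
      by_contra hk2
      interval_cases k <;> omega
    obtain ⟨j, rfl⟩ : ∃ j, k = j + 1 := ⟨k - 1, by omega⟩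
    have hj := hmod j
    have hj1 := hmod (j + 1)
    have hje : 2 ∣ 2 ^ j := dvd_pow_self 2 (by omega)
    rw [pow_succ] at hk hj1
    rcases hk with hk | hk
    · by_cases hej : Even j
      · exact absurd (Nat.dvd_of_mod_eq_zero (by rw [if_pos hej] at hj; omega)) hno3
      · have := h3 (2 ^ j + 1) (Nat.odd_iff.2 (by omega)) (by rw [if_neg hej] at hj; omega)
          (Or.inr (by rw [hd]; exact ⟨1, by omega⟩))
        exact absurd (by rw [show q = 5 by omega]; norm_num) (h5 5 dvd_rfl)
    · by_cases hej : Even j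
      · have := h3 (2 ^ j - 1) (Nat.odd_iff.2 (by omega)) (by rw [if_pos hej] at hj; omega)
          (Or.inl (by rw [hd]; exact ⟨1, by omega⟩))
        rw [hd, show q = 7 by omega] at hc
        omega
      · exact absurd (Nat.dvd_of_mod_eq_zero (by rw [if_neg hej] at hj; omega)) hno3

/-- An abelian group of odd order carries no fixed-point-free four group. -/
theorem exists_fixed_of_four {A : Subgroup G} [A.Normal] (hA : IsMulCommutative A)
    (hodd : ∀ x ∈ A, x * x = 1 → x = 1) {u v : G} (huv : Commute u v)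
    (hu : u * u = 1) (hv : v * v = 1) {x : G} (hx : x ∈ A) (hx1 : x ≠ 1) :
    ∃ w ∈ ({u, v, u * v} : Set G), ∃ y ∈ A, y ≠ 1 ∧ Commute w y := by
  by_contra hc
  push Not at hc
  have hinv : ∀ w ∈ ({u, v, u * v} : Set G), w * w = 1 → ∀ y ∈ A, w * y * w⁻¹ = y⁻¹ := by
    intro w hw hw2 y hy
    have hwi : w⁻¹ = w := inv_eq_of_mul_eq_one_right hw2
    have hy' : w * y * w⁻¹ ∈ A := Normal.conj_mem inferInstance y hy w
    have hcomm : w * y * w⁻¹ * y = y * (w * y * w⁻¹) :=
      congrArg Subtype.val (hA.is_comm.comm (⟨_, hy'⟩ : A) ⟨y, hy⟩)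
    refine eq_inv_of_mul_eq_one_left ?_
    by_contra hne
    refine hc w hw _ (mul_mem hy' hy) hne ?_
    show w * (w * y * w⁻¹ * y) = w * y * w⁻¹ * y * w
    conv_rhs => rw [hcomm]
    rw [hwi, show w * (w * y * w * y) = w * w * y * w * y by group, hw2,
      show y * (w * y * w) * w = y * w * y * (w * w) by group, hw2]
    group
  have h1 := hinv u (by simp) hu
  have h2 := hinv v (by simp) hv
  refine hc (u * v) (by simp) x hx hx1 ?_
  show u * v * x = x * (u * v)
  rw [← mul_inv_eq_iff_eq_mul]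
  calc u * v * x * (u * v)⁻¹ = u * (v * x * v⁻¹) * u⁻¹ := by group
    _ = x := by rw [h2 x hx, h1 _ (inv_mem hx), inv_inv]

variable [Finite G]

/-- The step with a non-simple group. -/
theorem TwoOrPrime.false_of_normal (h : TwoOrPrime G) (hns : ¬ Group.IsSolvable G)
    (ih : ∀ {H : Type u} [Group H] [Finite H], Nat.card H < Nat.card G → TwoOrPrime H →
      ¬ Group.IsSolvable H → IsSimpleGroup H ∧ Nat.card H = 168)
    (N : Subgroup G) [N.Normal] (hN1 : N ≠ ⊥) (hNt : N ≠ ⊤) : False := by
  classical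
  haveI := Fact.mk Nat.prime_three
  haveI := Fact.mk Nat.prime_two
  have hlt : ∀ H : Subgroup G, H ≠ ⊤ → Nat.card H < Nat.card G := fun H hH =>
    lt_of_le_of_ne (card_le_card_group H) fun e => hH (eq_top_of_card_eq H e)
  -- a self-centralising subgroup of order three is impossible
  have hthree : Nat.card G ≠ 168 → ∀ b : G, orderOf b = 3 → (∀ x : G, orderOf x = 3 → Commute x b → x ∈ zpowers b) → False := by
    intro h168 b hb hbc
    have hC : Subgroup.centralizer ((zpowers b : Subgroup G) : Set G) = zpowers b := by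
      refine le_antisymm (fun x hx => ?_) fun x hx => mem_centralizer_iff.2 fun y hy => ?_
      · rcases eq_or_ne x 1 with rfl | hx1
        · exact one_mem _
        have hcb : Commute x b := (mem_centralizer_iff.1 hx b (mem_zpowers b)).symm
        refine hbc x ?_ hcb
        obtain ⟨p, k, hp, hk0, hk⟩ := (isPrimePow_nat_iff _).1 (h.eppo x hx1)
        have hp3 : p = 3 := by
          by_contra hne
          exact h.eppo.not_commute (a := x ^ (orderOf x / p)) hp Nat.prime_three hne
            (orderOf_pow_orderOf_div (orderOf_pos x).ne' (hk ▸ dvd_pow_self p hk0.ne')) hb (hcb.pow_left _)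
        subst hp3
        have hpr := h.prime_of_odd hx1 (hk ▸ (by decide : Odd 3).pow)
        exact ((Nat.prime_dvd_prime_iff_eq Nat.prime_three hpr).1 (hk ▸ dvd_pow_self 3 hk0.ne')).symm
      · obtain ⟨i, rfl⟩ := mem_zpowers_iff.1 hx
        obtain ⟨j, rfl⟩ := mem_zpowers_iff.1 hy
        exact ((Commute.refl b).zpow_zpow i j).eq.symm
    rcases S3331.result (zpowers b) (by rw [Nat.card_zpowers, hb]) hC with
      ⟨K, hK, hKn, -, hq⟩ | ⟨K, hK, -, -, ⟨e⟩⟩ | he
    · refine hns ((Group.isSolvable_iff_subgroup_quotient K).2 ⟨@IsNilpotent.to_isSolvable _ _ hKn, ?_⟩)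
      rcases hq with hc | ⟨⟨e⟩⟩
      · haveI := isCyclic_of_prime_card (p := 3) hc
        exact Group.isSolvable_of_comm fun a b => (IsCyclic.commutative (α := G ⧸ K)).is_comm.comm a b
      · exact S0144.result 2 3 1 1 Nat.prime_two Nat.prime_three
          (by rw [Nat.card_congr e.toEquiv, Nat.card_eq_fintype_card, Fintype.card_perm, Fintype.card_fin]; rfl)
    · refine h.not_five_dvd (Dvd.dvd.trans ?_ (card_quotient_dvd_card K))
      rw [Nat.card_congr e.toEquiv, nat_card_alternatingGroup, Nat.card_fin]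
      exact ⟨12, rfl⟩
    · obtain ⟨e⟩ := he
      haveI : Fact (Nat.Prime 7) := ⟨by norm_num⟩
      have hc := Dickson.card_psl (F := ZMod 7)
      rw [← Nat.card_congr e.toEquiv, show Dickson.del (ZMod 7) = Nat.gcd 2 (Fintype.card (ZMod 7) - 1) from rfl,
        ZMod.card] at hc
      norm_num at hc
      omega
  by_cases hNs : Group.IsSolvable N
  · obtain ⟨A, hAn, hA1, hAN, hAmin⟩ := Grp.exists_minimal_normal_le hN1
    haveI := hAn
    obtain ⟨hAc, p, hp, hAp⟩ := Grp.minimal_normal_solvable (Grp.isSolvable_of_le hAN hNs) hA1 hAmin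
    haveI := Fact.mk hp
    have hQns : ¬ Group.IsSolvable (G ⧸ A) := fun hs => hns
      ((Group.isSolvable_iff_subgroup_quotient A).2 ⟨Grp.isSolvable_of_le hAN hNs, hs⟩)
    have hAc' := A.card_eq_card_quotient_mul_card_subgroup
    have hA2 : 2 ≤ Nat.card A := by
      have := Nat.card_pos (α := A)
      have : Nat.card A ≠ 1 := fun e => hA1 (Subgroup.eq_bot_of_card_eq A e)
      omega
    obtain ⟨hQs, hQc⟩ := ih (by
      rw [hAc']; exact lt_mul_right Nat.card_pos hA2) (h.quotient A) hQns
    haveI := hQs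
    have hApg : IsPGroup p A := fun x => ⟨1, Subtype.ext (by simpa using hAp x x.2)⟩
    obtain ⟨x₀, hx₀, hx₀1⟩ := A.bot_or_exists_ne_one.resolve_left hA1
    have hxo : ∀ x ∈ A, x ≠ 1 → orderOf x = p := fun x hx hx1 => orderOf_eq_prime (hAp x hx) hx1
    by_cases hp2 : p = 2
    · subst hp2
      obtain ⟨b, hb⟩ := exists_prime_orderOf_dvd_card' (G := G) 3 (by
        rw [hAc', hQc]; exact Dvd.dvd.mul_right ⟨56, rfl⟩ _)
      refine hthree (by rw [hAc', hQc]; omega) b hb fun x hx hxb => ?_
      by_contra hn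
      have h9 : 3 ^ 2 ∣ Nat.card G := by
        refine Dvd.dvd.trans ?_ (card_subgroup_dvd_card (zpowers b ⊔ zpowers x))
        have hnb : zpowers b ≤ normalizer ((zpowers x : Subgroup G) : Set G) := by
          refine zpowers_le.2 (centralizer_le_normalizer _ (mem_centralizer_iff.2 fun y hy => ?_))
          obtain ⟨i, rfl⟩ := mem_zpowers_iff.1 hy
          exact (hxb.zpow_left i).eq
        have hcs := Grp.card_sup_mul_card_inf hnb
        have hinf : zpowers b ⊓ zpowers x = ⊥ := by
          rw [eq_bot_iff]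
          rintro y ⟨hy1, hy2⟩
          by_contra hy0
          rw [mem_bot] at hy0
          refine hn (((eq_of_le_of_card_ge (zpowers_le.2 hy1) ?_).symm.trans
            (eq_of_le_of_card_ge (zpowers_le.2 hy2) ?_)).ge (mem_zpowers x))
          all_goals
            have hd := orderOf_dvd_of_mem_zpowers hy2
            rw [hx] at hd
            rcases (Nat.dvd_prime Nat.prime_three).1 hd with e | e
            · exact absurd (orderOf_eq_one_iff.1 e) hy0
            · simp [Nat.card_zpowers, e, hb, hx]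
        rw [hinf, card_bot, mul_one, Nat.card_zpowers, Nat.card_zpowers, hb, hx] at hcs
        rw [hcs, pow_two]
      obtain ⟨m, hm⟩ := hApg.exists_card_eq
      rw [hAc', hQc, hm] at h9
      have h9' := (Nat.Coprime.pow 2 m (by norm_num : Nat.Coprime 3 2)).dvd_of_dvd_mul_right h9
      norm_num at h9'
    · have hodd : ∀ x ∈ A, x * x = 1 → x = 1 := by
        intro x hx hxx
        by_contra hx1
        exact hp2 ((hxo x hx hx1).symm.trans (orderOf_eq_prime (by rw [pow_two]; exact hxx) hx1))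
      obtain ⟨E, hE⟩ := S0204.result (G := G ⧸ A) (fun hc => hQns (Group.isSolvable_of_comm fun a b =>
        (hc.commutative).is_comm.comm a b))
      set W := E.comap (QuotientGroup.mk' A) with hW
      obtain ⟨P⟩ : Nonempty (Sylow 2 W) := inferInstance
      have hAW : A ≤ W := fun x hx => by
        rw [hW, mem_comap, show QuotientGroup.mk' A x = 1 from (QuotientGroup.eq_one_iff x).2 hx]
        exact one_mem E
      let φ : (P : Subgroup W) →* E :=
        { toFun := fun y => ⟨QuotientGroup.mk' A ((y : W) : G), (y : W).2⟩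
          map_one' := Subtype.ext (by simp)
          map_mul' := fun y z => Subtype.ext (by simp) }
      have hφ : Function.Injective φ := (injective_iff_map_eq_one φ).2 fun y hy => by
        have h1 : ((y : W) : G) ∈ A := (QuotientGroup.eq_one_iff _).1 (congrArg Subtype.val hy)
        obtain ⟨k, hk⟩ := IsPGroup.iff_orderOf.1 P.isPGroup' y
        by_contra hy1
        have hy1' : ((y : W) : G) ≠ 1 := fun e => hy1 (Subtype.ext (Subtype.ext e))
        have h2 := hxo _ h1 hy1'
        rw [orderOf_coe, orderOf_coe, hk] at h2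
        rcases Nat.eq_zero_or_pos k with rfl | hk0
        · exact hp.ne_one (by simpa using h2.symm)
        · exact hp2 (((Nat.prime_dvd_prime_iff_eq Nat.prime_two hp).1 (h2 ▸ dvd_pow_self 2 hk0.ne'))).symm
      have hsq : ∀ y : (P : Subgroup W), y * y = 1 := fun y => hφ (by
        rw [map_mul, map_one]; exact IsKleinFour.mul_self (φ y))
      have hcard4 : 4 ∣ Nat.card (P : Subgroup W) := by
        refine P.pow_dvd_card_of_pow_dvd_card (n := 2) ?_
        show 2 ^ 2 ∣ Nat.card W
        have he : Nat.card E ∣ Nat.card W := by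
          have h1 : W.map (QuotientGroup.mk' A) = E :=
            map_comap_eq_self_of_surjective (QuotientGroup.mk'_surjective A) E
          conv_lhs => rw [← h1]
          exact card_map_dvd _ _
        rwa [IsKleinFour.card_four] at he
      haveI := Fintype.ofFinite (P : Subgroup W)
      obtain ⟨u, v, w, huv, huw, hvw⟩ := (Fintype.two_lt_card_iff (α := (P : Subgroup W))).1 (by
        rw [← Nat.card_eq_fintype_card]
        have := Nat.le_of_dvd Nat.card_pos hcard4
        omega)
      obtain ⟨u, v, hu1, hv1, huv⟩ : ∃ a b : (P : Subgroup W), a ≠ 1 ∧ b ≠ 1 ∧ a ≠ b := by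
        rcases eq_or_ne u 1 with rfl | hu
        · exact ⟨v, w, huv.symm, huw.symm, hvw⟩
        rcases eq_or_ne v 1 with rfl | hv
        · exact ⟨u, w, hu, hvw.symm, huw⟩
        exact ⟨u, v, hu, hv, huv⟩
      let ι : (P : Subgroup W) →* G := W.subtype.comp (P : Subgroup W).subtype
      have hι : Function.Injective ι := fun a b e => Subtype.ext (Subtype.ext e)
      have hinv : ∀ y : (P : Subgroup W), y⁻¹ = y := fun y => inv_eq_of_mul_eq_one_right (hsq y)
      have hcomm : Commute u v := by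
        show u * v = v * u
        rw [← hinv (u * v), mul_inv_rev, hinv, hinv]
      obtain ⟨w, hw, y, hy, hy1, hwy⟩ := exists_fixed_of_four hAc hodd (hcomm.map ι)
        (by rw [← map_mul, hsq, map_one]) (by rw [← map_mul, hsq, map_one]) hx₀ hx₀1
      have hw2 : orderOf w = 2 := by
        have key : ∀ z : (P : Subgroup W), z ≠ 1 → orderOf (ι z) = 2 := fun z hz => by
          rw [orderOf_injective ι hι, Invol.orderOf_two_iff]
          exact ⟨hsq z, hz⟩
        rcases hw with rfl | rfl | rfl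
        · exact key u hu1
        · exact key v hv1
        · rw [← map_mul]
          exact key _ fun e => huv (by rw [← hinv v]; exact mul_eq_one_iff_eq_inv.1 e)
      exact h.eppo.not_commute (a := y) hp Nat.prime_two hp2 (hxo y hy hy1) hw2 hwy.symm
  · obtain ⟨hNsimp, hNc⟩ := ih (hlt N hNt) (h.subgroup N) hNs
    haveI := hNsimp
    haveI : Fact (Nat.Prime 7) := ⟨by norm_num⟩
    obtain ⟨P⟩ : Nonempty (Sylow 7 N) := inferInstance
    have hP7 : Nat.card (P : Subgroup N) = 7 := by
      rw [P.card_eq_multiplicity, hNc, show (168 : ℕ) = 7 * 24 by norm_num,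
        Nat.factorization_mul (by norm_num) (by norm_num)]
      rw [Finsupp.add_apply, Nat.Prime.factorization_self (by norm_num),
        Nat.factorization_eq_zero_of_not_dvd (show ¬ 7 ∣ 24 by norm_num)]
      norm_num
    have hn7 : Nat.card (Sylow 7 N) = 8 := by
      have h1 := card_sylow_modEq_one 7 N
      have h2 := P.card_dvd_index
      have h3 : (P : Subgroup N).index = 24 := by
        have h4 := (P : Subgroup N).card_mul_index
        rw [hP7, hNc] at h4
        omega
      rw [h3] at h2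
      have hne : Nat.card (Sylow 7 N) ≠ 1 := fun e1 => by
        haveI : Subsingleton (Sylow 7 N) := (Nat.card_eq_one_iff_unique.1 e1).1
        haveI := Sylow.normal_of_subsingleton P
        rcases IsSimpleGroup.eq_bot_or_eq_top_of_normal (P : Subgroup N) inferInstance with e | e
        · rw [e, card_bot] at hP7; omega
        · rw [e, card_top, hNc] at hP7; omega
      have := Nat.le_of_dvd (by norm_num) h2
      rw [Nat.ModEq] at h1
      interval_cases hh : Nat.card (Sylow 7 N) <;> omega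
    obtain ⟨b, hbN, hb⟩ : ∃ b ∈ normalizer ((P : Subgroup N) : Set N), orderOf b = 3 := by
      have h1 : Nat.card (Sylow 7 N) = (normalizer ((P : Subgroup N) : Set N)).index :=
        Sylow.card_eq_index_normalizer P
      have h2 := (normalizer ((P : Subgroup N) : Set N)).card_mul_index
      rw [← h1, hn7, hNc] at h2
      obtain ⟨b, hb⟩ := exists_prime_orderOf_dvd_card' (G := normalizer ((P : Subgroup N) : Set N)) 3 (by omega)
      exact ⟨b, b.2, by rw [orderOf_coe, hb]⟩
    obtain ⟨a, ha⟩ := exists_prime_orderOf_dvd_card' (G := (P : Subgroup N)) 7 hP7.symm.dvd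
    have ha' : orderOf ((a : N) : G) = 7 := by rw [orderOf_coe, orderOf_coe, ha]
    have hb' : orderOf (b : G) = 3 := by rw [orderOf_coe, hb]
    refine hthree (fun e => by have := hlt N hNt; omega) (b : G) hb' fun x hx hxb => ?_
    by_contra hn
    have hxN : x ∉ N := by
      intro hxN
      have h9 : 3 ^ 2 ∣ Nat.card N := by
        haveI : Fact (Nat.Prime 3) := inferInstance
        obtain ⟨Q, hQ⟩ := (IsPGroup.of_card (p := 3) (n := 1) (G := zpowers b)
          (by rw [Nat.card_zpowers, hb, pow_one])).exists_le_sylow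
        by_contra hn9
        obtain ⟨k, hk⟩ := Q.isPGroup'.exists_card_eq
        have hk1 : k ≤ 1 := by
          by_contra hk2
          exact hn9 ((pow_dvd_pow 3 (show 2 ≤ k by omega)).trans (hk ▸ card_subgroup_dvd_card _))
        have hQeq : zpowers b = (Q : Subgroup N) := eq_of_le_of_card_ge hQ (by
          rw [hk, Nat.card_zpowers, hb]; exact (Nat.pow_le_pow_right (by norm_num) hk1).trans (by norm_num))
        have hbx : IsPGroup 3 (zpowers (⟨x, hxN⟩ : N)) := IsPGroup.of_card (n := 1)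
          (by rw [Nat.card_zpowers, orderOf_mk, hx, pow_one])
        have hle : zpowers (⟨x, hxN⟩ : N) ≤ normalizer ((zpowers b : Subgroup N) : Set N) := by
          refine zpowers_le.2 (centralizer_le_normalizer _ (mem_centralizer_iff.2 fun y hy => ?_))
          obtain ⟨i, rfl⟩ := mem_zpowers_iff.1 hy
          exact (Commute.zpow_left (show Commute b ⟨x, hxN⟩ from Subtype.ext hxb.eq.symm) i).eq
        rw [hQeq] at hle
        have h5 := (Q.is_maximal' (hbx.to_sup_of_normal_right' Q.isPGroup' hle) le_sup_right).le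
          (mem_sup_left (mem_zpowers (⟨x, hxN⟩ : N)))
        rw [← hQeq] at h5
        obtain ⟨i, hi⟩ := mem_zpowers_iff.1 h5
        exact hn (mem_zpowers_iff.2 ⟨i, by simpa using congrArg Subtype.val hi⟩)
      rw [hNc] at h9; norm_num at h9
    -- the element permutes the eight Sylow 7-subgroups and fixes one, on which it acts like `b`
    set A : Subgroup G := (P : Subgroup N).map N.subtype
    have hA : A = zpowers ((a : N) : G) :=
      (eq_of_le_of_card_ge (zpowers_le.2 (mem_map_of_mem _ a.2)) (by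
        rw [card_map_of_injective N.subtype_injective, hP7, Nat.card_zpowers]; exact ha'.ge)).symm
    obtain ⟨c, hcN, hcx⟩ : ∃ c ∈ N, (c * x) ∈ normalizer ((A : Subgroup G) : Set G) ∧ True := by
      have htop := Sylow.normalizer_sup_eq_top P
      have hmem : x ∈ N ⊔ normalizer ((A : Subgroup G) : Set G) := by rw [sup_comm, htop]; exact mem_top x
      obtain ⟨c, hc, d, hd, rfl⟩ := mem_sup_of_normal_left.1 hmem
      exact ⟨c⁻¹, inv_mem hc, by rw [inv_mul_cancel_left]; exact hd, trivial⟩
    set g := c * x with hg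
    have hgN : g ∉ N := fun hm => hxN ((mul_mem_cancel_left hcN).1 hm)
    have hgA := hcx.1
    have hbA : (b : G) ∈ normalizer ((A : Subgroup G) : Set G) :=
      le_normalizer_map N.subtype ⟨b, hbN, rfl⟩
    rw [hA] at hgA hbA
    have hpow : ∀ y ∈ normalizer ((zpowers ((a : N) : G) : Subgroup G) : Set G),
        ∃ m : ZMod 7, ∀ n : ℕ, (n : ZMod 7) = m → y * ((a : N) : G) * y⁻¹ = ((a : N) : G) ^ n := by
      intro y hy
      obtain ⟨n, hn'⟩ := mem_powers_iff_mem_zpowers.2 ((mem_normalizer_iff.1 hy _).1 (mem_zpowers _))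
      refine ⟨n, fun n' hn'' => ?_⟩
      rw [← show ((a : N) : G) ^ n = y * ((a : N) : G) * y⁻¹ from hn']
      refine pow_eq_pow_iff_modEq.2 ?_
      rw [ha']
      exact ((ZMod.natCast_eq_natCast_iff _ _ _).1 hn'').symm
    obtain ⟨mg, hmg⟩ := hpow g hgA
    obtain ⟨mb, hmb⟩ := hpow _ hbA
    -- powers of the action
    have hiter : ∀ (y : G) (m : ℕ), y * ((a : N) : G) * y⁻¹ = ((a : N) : G) ^ m → ∀ j : ℕ,
        y ^ j * ((a : N) : G) * (y ^ j)⁻¹ = ((a : N) : G) ^ (m ^ j) := by
      intro y m hy j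
      induction j with
      | zero => simp
      | succ j ihj =>
        calc y ^ (j + 1) * ((a : N) : G) * (y ^ (j + 1))⁻¹
            = y * (y ^ j * ((a : N) : G) * (y ^ j)⁻¹) * y⁻¹ := by rw [pow_succ']; group
          _ = (y * ((a : N) : G) * y⁻¹) ^ (m ^ j) := by rw [ihj, conj_pow]
          _ = ((a : N) : G) ^ (m ^ (j + 1)) := by rw [hy, ← pow_mul, pow_succ']
    have hcentral : ∀ y : G, y * ((a : N) : G) * y⁻¹ = ((a : N) : G) → y ≠ 1 → orderOf y = 7 := by
      intro y hy hy1
      have hc : Commute y ((a : N) : G) := mul_inv_eq_iff_eq_mul.1 hy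
      obtain ⟨p, k, hp, hk0, hk⟩ := (isPrimePow_nat_iff _).1 (h.eppo y hy1)
      obtain rfl : p = 7 := by
        by_contra hne
        exact h.eppo.not_commute (a := y ^ (orderOf y / p)) hp (by norm_num) hne
          (orderOf_pow_orderOf_div (orderOf_pos y).ne' (hk ▸ dvd_pow_self p hk0.ne')) ha' (hc.pow_left _)
      have hpr := h.prime_of_odd hy1 (hk ▸ (by decide : Odd 7).pow)
      exact ((Nat.prime_dvd_prime_iff_eq (by norm_num) hpr).1 (hk ▸ dvd_pow_self 7 hk0.ne')).symm
    have hb1 : mb.val ^ 1 % 7 ≠ 1 := by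
      intro e1
      have h2 := hmb mb.val (by simp)
      rw [pow_one] at e1
      have h3 : ((a : N) : G) ^ mb.val = (a : N) := by
        conv_rhs => rw [← pow_one ((a : N) : G)]
        exact pow_eq_pow_iff_modEq.2 (by rw [ha', Nat.ModEq, e1])
      have := hcentral _ (h2.trans h3) (fun e => by rw [e, orderOf_one] at hb'; omega)
      omega
    have hb3 : mb.val ^ 3 % 7 = 1 := by
      have h2 := hiter _ _ (hmb mb.val (by simp)) 3
      rw [orderOf_dvd_iff_pow_eq_one.1 hb'.dvd, one_mul, inv_one, mul_one] at h2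
      have h3 := (pow_eq_pow_iff_modEq (x := ((a : N) : G)) (n := 1) (m := mb.val ^ 3)).1 (by rw [pow_one]; exact h2)
      rw [ha'] at h3
      exact h3.symm
    -- the image of `g` has order three in the quotient
    have hgq : (QuotientGroup.mk g : G ⧸ N) = QuotientGroup.mk x := by
      rw [hg, QuotientGroup.mk_mul, (QuotientGroup.eq_one_iff c).2 hcN, one_mul]
    have hxq : orderOf (QuotientGroup.mk x : G ⧸ N) = 3 := orderOf_eq_prime
      (by rw [← QuotientGroup.mk_pow, orderOf_dvd_iff_pow_eq_one.1 hx.dvd, QuotientGroup.mk_one])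
      (fun e => hxN ((QuotientGroup.eq_one_iff x).1 e))
    have hg1 : g ≠ 1 := fun e => hgN (e ▸ one_mem N)
    have hg3 : orderOf g = 3 := by
      have hd : 3 ∣ orderOf g := by
        rw [← hxq, ← hgq]; exact orderOf_map_dvd (QuotientGroup.mk' N) g
      obtain ⟨p, k, hp, hk0, hk⟩ := (isPrimePow_nat_iff _).1 (h.eppo g hg1)
      obtain rfl : p = 3 :=
        ((Nat.prime_dvd_prime_iff_eq Nat.prime_three hp).1 (Nat.prime_three.dvd_of_dvd_pow (hk ▸ hd))).symm
      exact ((Nat.prime_dvd_prime_iff_eq Nat.prime_three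
        (h.prime_of_odd hg1 (hk ▸ (by decide : Odd 3).pow))).1 hd).symm
    have hmg3 : mg.val ^ 3 % 7 = 1 := by
      have h2 := hiter _ _ (hmg mg.val (by simp)) 3
      rw [orderOf_dvd_iff_pow_eq_one.1 hg3.dvd, one_mul, inv_one, mul_one] at h2
      have h3 := (pow_eq_pow_iff_modEq (x := ((a : N) : G)) (n := 1) (m := mg.val ^ 3)).1 (by rw [pow_one]; exact h2)
      rw [ha'] at h3
      exact h3.symm
    have hdec : ∀ m n : ZMod 7, m.val ^ 3 % 7 = 1 → n.val ^ 3 % 7 = 1 → n.val ^ 1 % 7 ≠ 1 →
        ∃ j : Fin 3, (m.val * n.val ^ (j : ℕ)) % 7 = 1 := by decide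
    obtain ⟨j, hj⟩ := hdec mg mb hmg3 hb3 hb1
    have hy : g * (b : G) ^ (j : ℕ) ∉ N := fun hm => hgN ((mul_mem_cancel_right (pow_mem b.2 _)).1 hm)
    have hycent : g * (b : G) ^ (j : ℕ) * ((a : N) : G) * (g * (b : G) ^ (j : ℕ))⁻¹ = ((a : N) : G) := by
      calc g * (b : G) ^ (j : ℕ) * ((a : N) : G) * (g * (b : G) ^ (j : ℕ))⁻¹
          = g * ((b : G) ^ (j : ℕ) * ((a : N) : G) * ((b : G) ^ (j : ℕ))⁻¹) * g⁻¹ := by group
        _ = (g * ((a : N) : G) * g⁻¹) ^ (mb.val ^ (j : ℕ)) := by
          rw [hiter _ _ (hmb mb.val (by simp)) j, conj_pow]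
        _ = ((a : N) : G) ^ (mg.val * mb.val ^ (j : ℕ)) := by rw [hmg mg.val (by simp), ← pow_mul]
        _ = ((a : N) : G) := by
          conv_rhs => rw [← pow_one ((a : N) : G)]
          exact pow_eq_pow_iff_modEq.2 (by rw [ha', Nat.ModEq, hj])
    have h7 := hcentral _ hycent fun e => hy (e ▸ one_mem N)
    have himg : (QuotientGroup.mk (g * (b : G) ^ (j : ℕ)) : G ⧸ N) = QuotientGroup.mk x := by
      rw [QuotientGroup.mk_mul, hgq, (QuotientGroup.eq_one_iff _).2 (pow_mem b.2 _), mul_one]
    have h37 := orderOf_map_dvd (QuotientGroup.mk' N) (g * (b : G) ^ (j : ℕ))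
    rw [QuotientGroup.mk'_apply, himg, hxq, h7] at h37
    norm_num at h37

/-- A non-solvable group of this kind is simple of order 168. -/
theorem TwoOrPrime.simple_168 : ∀ (n : ℕ) {G : Type u} [Group G] [Finite G], Nat.card G = n →
    TwoOrPrime G → ¬ Group.IsSolvable G → IsSimpleGroup G ∧ Nat.card G = 168 := by
  intro n
  induction n using Nat.strong_induction_on with
  | _ n ih =>
  intro G _ _ hn h hns
  have ih' : ∀ {H : Type u} [Group H] [Finite H], Nat.card H < Nat.card G → TwoOrPrime H →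
      ¬ Group.IsSolvable H → IsSimpleGroup H ∧ Nat.card H = 168 :=
    fun {H} _ _ hlt => ih _ (hn ▸ hlt) rfl
  haveI : Nontrivial G := by
    by_contra hno
    rw [not_nontrivial_iff_subsingleton] at hno
    exact hns (Group.isSolvable_of_comm fun a b => Subsingleton.elim _ _)
  by_cases hsimp : ∃ N : Subgroup G, N.Normal ∧ N ≠ ⊥ ∧ N ≠ ⊤
  · obtain ⟨N, hN, h1, ht⟩ := hsimp
    exact (h.false_of_normal hns ih' N h1 ht).elim
  push Not at hsimp
  haveI : IsSimpleGroup G := ⟨fun H hH => or_iff_not_imp_left.2 (hsimp H hH)⟩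
  refine ⟨inferInstance, ?_⟩
  have hG : ¬ IsMulCommutative G := fun hc => hns (Group.isSolvable_of_comm hc.is_comm.comm)
  have hloc : ∀ M : Subgroup G, Cfsg.IsTwoLocal M → Group.IsSolvable M := by
    rintro M ⟨T, hT, hT1, rfl⟩
    by_contra hMs
    set M := normalizer (T : Set G)
    have hMt : M ≠ ⊤ := fun e => by
      haveI : T.Normal := normalizer_eq_top_iff.1 e
      have := Grp.le_pCore inferInstance hT
      rw [pCore_eq_bot hG, le_bot_iff] at this
      exact hT1 this
    obtain ⟨hs, -⟩ := ih' (lt_of_le_of_ne (card_le_card_group M) fun e => hMt (eq_top_of_card_eq M e))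
      (h.subgroup M) hMs
    haveI := hs
    haveI : (T.subgroupOf M).Normal := normal_in_normalizer
    haveI := Fact.mk Nat.prime_two
    rcases IsSimpleGroup.eq_bot_or_eq_top_of_normal (T.subgroupOf M) inferInstance with e | e
    · rw [subgroupOf_eq_bot, disjoint_iff, inf_eq_left.2 le_normalizer] at e; exact hT1 e
    · have hp : IsPGroup 2 M := hT.to_le (subgroupOf_eq_top.1 e)
      exact hMs (@IsNilpotent.to_isSolvable _ _ hp.isNilpotent)
  rcases (eppo_cit h.eppo).of_solvable_locals hG hloc with ⟨F, i1, i2, ⟨e⟩⟩ | ⟨-, m, hm, hc⟩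
  · exact h.card_field hG e
  · exfalso
    refine h.not_five_dvd ?_
    rw [hc]
    refine Dvd.dvd.mul_right (Dvd.dvd.mul_left ?_ _) _
    rw [← pow_mul, Nat.dvd_iff_mod_eq_zero, show (2 * m + 1) * 2 = 4 * m + 2 by ring, pow_add, pow_mul,
      Nat.add_mod, Nat.mul_mod, Nat.pow_mod]
    norm_num

end Cfsg.Agent.Transfer.CIT
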