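import Mathlib
import Cfsg.Agent.Lib.Transfer.CIT.PSLTwo
import Cfsg.Agent.Lib.Transfer.CIT.TwoOrPrime
import Cfsg.Agent.Lib.Lie.Sz.LieEquiv
import Cfsg.Agent.S0333
import Cfsg.Agent.S0252
import Cfsg.Agent.S0253
import Cfsg.Agent.S0254

/-!
The groups `PSL(2, q)` and `Sz(q)` in which every element has prime-power order.
-/

set_option autoImplicit false
set_option linter.style.haveILetI false

universe u

namespace Cfsg.Agent.Transfer.CIT

open Cfsg.Agent Subgroup

theorem eq_pow_of_isPrimePow {a p : ℕ} (ha : IsPrimePow a) (hp : p.Prime) (hd : p ∣ a) :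
    ∃ j : ℕ, j ≠ 0 ∧ a = p ^ j := by
  obtain ⟨r, k, hr, hk, rfl⟩ := (isPrimePow_nat_iff _).mp ha
  obtain rfl := (Nat.prime_dvd_prime_iff_eq hp hr).mp (hp.dvd_of_dvd_pow hd)
  exact ⟨k, hk.ne', rfl⟩

theorem two_pow_add_one_eq_three_pow {n j : ℕ} (hj : j ≠ 0) (h : 2 ^ n + 1 = 3 ^ j) : n = 1 ∨ n = 3 := by
  rcases eq_one_of_pow_two Nat.prime_three (by norm_num) hj (Or.inl h.symm) with rfl | h9
  · exact Or.inl (Nat.pow_right_injective le_rfl (show 2 ^ n = 2 ^ 1 by omega))
  · exact Or.inr (Nat.pow_right_injective le_rfl (show 2 ^ n = 2 ^ 3 by omega))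

theorem two_pow_eq_three_pow_add_one {n j : ℕ} (hj : j ≠ 0) (h : 2 ^ n = 3 ^ j + 1) : n = 2 := by
  rcases eq_one_of_pow_two Nat.prime_three (by norm_num) hj (Or.inr h.symm) with rfl | h9
  · exact Nat.pow_right_injective le_rfl (show 2 ^ n = 2 ^ 2 by omega)
  · exfalso
    rcases Nat.lt_or_ge n 4 with hn | hn
    · interval_cases n <;> omega
    · have : 2 ^ 4 ≤ 2 ^ n := Nat.pow_le_pow_right (by norm_num) hn
      omega

theorem two_pow_mod_three (n : ℕ) : 2 ^ (2 * n) % 3 = 1 ∧ 2 ^ (2 * n + 1) % 3 = 2 := by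
  constructor <;> simp [pow_succ, pow_mul, Nat.mul_mod, Nat.pow_mod]

variable {G : Type u} [Group G] [Finite G]

/-- The fields whose `PSL(2)` has only elements of prime-power order. -/
theorem psl_two_prime_power (h : Grp.EPPO.EPPO G) [IsSimpleGroup G] (hG : ¬ IsMulCommutative G)
    {F : Type} [Field F] [Fintype F] (e : G ≃* Matrix.ProjectiveSpecialLinearGroup (Fin 2) F) :
    Fintype.card F ∈ ({4, 5, 7, 8, 9, 17} : Finset ℕ) := by
  have h4 := four_le_card_field hG e
  have hpp : ∀ m, (m ∣ (Fintype.card F - 1) / Nat.gcd 2 (Fintype.card F - 1) ∨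
      m ∣ (Fintype.card F + 1) / Nat.gcd 2 (Fintype.card F - 1)) → 1 < m → IsPrimePow m := by
    intro m hm h1
    obtain ⟨g, rfl⟩ := exists_orderOf_half e h4 hm
    exact h g fun hg => by rw [hg, orderOf_one] at h1; exact lt_irrefl 1 h1
  simp only [Finset.mem_insert, Finset.mem_singleton]
  rcases (eppo_cit h).field_card hG e with hq | ⟨n, hq⟩ | ⟨hpr, k, hq⟩
  · omega
  · -- even characteristic
    rw [hq] at hpp h4 ⊢
    have hn2 : 2 ≤ n := by
      by_contra hn
      interval_cases n <;> omega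
    have heven : 2 ∣ 2 ^ n := dvd_pow_self 2 (by omega)
    have hg : Nat.gcd 2 (2 ^ n - 1) = 1 := (Nat.Prime.coprime_iff_not_dvd Nat.prime_two).2 (by omega)
    rw [hg, Nat.div_one, Nat.div_one] at hpp
    obtain ⟨l, rfl | rfl⟩ := Nat.even_or_odd' n
    · have hm := (two_pow_mod_three l).1
      obtain ⟨j, hj, hej⟩ := eq_pow_of_isPrimePow (hpp _ (Or.inl dvd_rfl) (by omega)) Nat.prime_three
        (show 3 ∣ 2 ^ (2 * l) - 1 by omega)
      obtain rfl : l = 1 := by
        have := two_pow_eq_three_pow_add_one hj (show 2 ^ (2 * l) = 3 ^ j + 1 by omega)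
        omega
      norm_num
    · have hm := (two_pow_mod_three l).2
      obtain ⟨j, hj, hej⟩ := eq_pow_of_isPrimePow (hpp _ (Or.inr dvd_rfl) (by omega)) Nat.prime_three
        (show 3 ∣ 2 ^ (2 * l + 1) + 1 by omega)
      obtain rfl : l = 1 := by
        have := two_pow_add_one_eq_three_pow hj hej
        omega
      norm_num
  · -- odd prime
    have hodd : Fintype.card F % 2 = 1 := Nat.odd_iff.mp (hpr.odd_of_ne_two (by omega))
    have hg : Nat.gcd 2 (Fintype.card F - 1) = 2 := Nat.gcd_eq_left (by omega)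
    rw [hg] at hpp
    have h3 : ¬ 3 ∣ Fintype.card F := fun hd => by
      have := (Nat.prime_dvd_prime_iff_eq Nat.prime_three hpr).mp hd
      omega
    rcases hq with hq | hq
    · obtain ⟨i, rfl⟩ : ∃ i, k = i + 1 := ⟨k - 1, by
        rcases k with _ | k <;> simp_all⟩
      rw [pow_succ] at hq
      obtain ⟨l, rfl | rfl⟩ := Nat.even_or_odd' i
      · exfalso
        have hm := (two_pow_mod_three l).1
        omega
      · have hm := (two_pow_mod_three l).2
        obtain ⟨j, hj, hej⟩ := eq_pow_of_isPrimePow (hpp ((Fintype.card F + 1) / 2) (Or.inr dvd_rfl) (by omega))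
          Nat.prime_three (by omega)
        have := two_pow_add_one_eq_three_pow hj (show 2 ^ (2 * l + 1) + 1 = 3 ^ j by omega)
        rcases this with e1 | e1 <;> rw [e1] at hq <;> norm_num at hq <;> omega
    · obtain ⟨i, rfl⟩ : ∃ i, k = i + 1 := ⟨k - 1, by
        rcases k with _ | k <;> simp_all⟩
      rw [pow_succ] at hq
      obtain ⟨l, rfl | rfl⟩ := Nat.even_or_odd' i
      · have hm := (two_pow_mod_three l).1
        obtain ⟨j, hj, hej⟩ := eq_pow_of_isPrimePow (hpp ((Fintype.card F - 1) / 2) (Or.inl dvd_rfl) (by omega))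
          Nat.prime_three (by omega)
        have e1 := two_pow_eq_three_pow_add_one hj (show 2 ^ (2 * l) = 3 ^ j + 1 by omega)
        rw [e1] at hq
        norm_num at hq
        omega
      · exfalso
        have hm := (two_pow_mod_three l).2
        omega

/-- The Suzuki groups with only elements of prime-power order. -/
theorem suzuki_prime_power (h : Grp.EPPO.EPPO G) (hS : Cfsg.Lie.IsoSuzuki G) :
    ∃ (F : Type) (_ : Field F) (_ : Fintype F),
      (Fintype.card F = 8 ∧ Nonempty (G ≃* ↥(Cfsg.Lie.Sz F 4))) ∨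
        (Fintype.card F = 32 ∧ Nonempty (G ≃* ↥(Cfsg.Lie.Sz F 8))) := by
  obtain ⟨F, i1, i2, m, hm, hF, ⟨e⟩⟩ := hS
  refine ⟨F, i1, i2, ?_⟩
  suffices hm2 : m ≤ 2 by
    rcases (show m = 1 ∨ m = 2 by omega) with rfl | rfl
    · exact Or.inl ⟨by rw [hF]; norm_num, ⟨e⟩⟩
    · exact Or.inr ⟨by rw [hF]; norm_num, ⟨e⟩⟩
  by_contra hm3
  have hr1 : 1 ≤ 2 ^ m := Nat.one_le_two_pow
  have hr2 : 2 ^ 3 ≤ 2 ^ m := Nat.pow_le_pow_right (by norm_num) (by omega)
  set q := 2 ^ (2 * m + 1) with hqdef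
  set r := 2 ^ (m + 1) with hrdef
  have hq : q = r * 2 ^ m := by rw [hqdef, hrdef, ← pow_add]; congr 1; omega
  have hr : r = 2 * 2 ^ m := by rw [hrdef, pow_succ']
  have hrq : r ≤ q := by rw [hq]; exact Nat.le_mul_of_pos_right _ (by omega)
  have hord : ∀ c ∈ ({q + r + 1, q - r + 1} : Set ℕ), IsPrimePow c := by
    intro c hc
    obtain ⟨U, hUc, hU, -, -⟩ := S0333.result (F := F) hm hF c hc
    obtain ⟨u, hu⟩ := IsCyclic.exists_ofOrder_eq_natCard (α := U)
    rw [hU] at hu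
    set g := e.symm (Suz.szEquiv (F := F) (m := m) ⟨hm, hF⟩ (u : ↥(Cfsg.Sz F m))) with hgdef
    have hgo : orderOf g = c := by
      rw [hgdef, MulEquiv.orderOf_eq, MulEquiv.orderOf_eq, orderOf_coe, hu]
    rw [← hgo]
    refine h g fun hg => ?_
    rw [hg, orderOf_one] at hgo
    simp only [Set.mem_insert_iff, Set.mem_singleton_iff] at hc
    rcases hc with hc | hc
    · omega
    · have : r < q := by rw [hq]; exact lt_mul_of_one_lt_right (by omega) (by omega)
      omega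
  -- five divides one of the two numbers, and then it is a power of five
  haveI := Fact.mk (show Nat.Prime 5 by norm_num)
  have hprod : (q + r + 1) * (q - r + 1) = q ^ 2 + 1 := by
    obtain ⟨a, ha⟩ := Nat.exists_eq_add_of_le hrq
    rw [show q - r + 1 = a + 1 by omega, ha]
    have h2 : r * r = 2 * q := by rw [hq, hr]; ring
    nlinarith
  have h5 : 5 ∣ (q + r + 1) * (q - r + 1) := by
    rw [hprod]
    apply Nat.dvd_of_mod_eq_zero
    have : q ^ 2 + 1 = 4 * 16 ^ m + 1 := by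
      rw [hqdef, ← pow_mul, show (16 : ℕ) = 2 ^ 4 by norm_num, ← pow_mul, show (4 : ℕ) = 2 ^ 2 by norm_num, ← pow_add]
      ring_nf
    rw [this]
    simp [Nat.add_mod, Nat.mul_mod, Nat.pow_mod]
  obtain ⟨c, hc, hc5, hdiv, hcle⟩ : ∃ c ∈ ({q + r + 1, q - r + 1} : Set ℕ), 5 ∣ c ∧ r ∣ c - 1 ∧ c ≤ 2 ^ (2 * m + 2) := by
    have hb : q + r + 1 ≤ 2 ^ (2 * m + 2) := by
      rw [show 2 * m + 2 = (2 * m + 1) + 1 by rfl, pow_succ, ← hqdef]
      have : r < q := by rw [hq]; exact lt_mul_of_one_lt_right (by omega) (by omega)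
      omega
    have hrdq : r ∣ q := Dvd.intro _ hq.symm
    rcases (Nat.Prime.dvd_mul (by norm_num)).mp h5 with h5 | h5
    · exact ⟨_, Or.inl rfl, h5, by rw [Nat.add_sub_cancel]; exact dvd_add hrdq dvd_rfl, hb⟩
    · exact ⟨_, Or.inr rfl, h5, by rw [Nat.add_sub_cancel]; exact Nat.dvd_sub hrdq dvd_rfl, by omega⟩
  obtain ⟨j, hj, rfl⟩ := eq_pow_of_isPrimePow (hord c hc) (by norm_num) hc5
  have hj' : 2 ^ (m - 1) ∣ j := by
    rw [← ZMod.orderOf_five (m - 1), show m - 1 + 2 = m + 1 by omega, ← hrdef]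
    apply orderOf_dvd_of_pow_eq_one
    have h0 : ((5 ^ j - 1 : ℕ) : ZMod r) = 0 := (ZMod.natCast_eq_zero_iff _ _).2 hdiv
    rw [Nat.cast_sub (Nat.one_le_pow _ _ (by norm_num)), Nat.cast_pow] at h0
    simpa [sub_eq_zero] using h0
  have hm1 : m + 1 ≤ 2 ^ (m - 1) := by
    obtain ⟨i, rfl⟩ : ∃ i, m = i + 3 := ⟨m - 3, by omega⟩
    clear * -
    induction i with
    | zero => norm_num
    | succ i ih =>
      rw [show i + 1 + 3 - 1 = (i + 3 - 1) + 1 by omega, pow_succ]
      omega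
  have : 4 ^ (m + 1) < 5 ^ j := by
    calc 4 ^ (m + 1) < 5 ^ (m + 1) := Nat.pow_lt_pow_left (by norm_num) (by omega)
      _ ≤ 5 ^ j := Nat.pow_le_pow_right (by norm_num) (hm1.trans (Nat.le_of_dvd (by omega) hj'))
  rw [show (4 : ℕ) = 2 ^ 2 by norm_num, ← pow_mul, show 2 * (m + 1) = 2 * m + 2 by ring] at this
  omega

end Cfsg.Agent.Transfer.CIT

namespace Cfsg.Agent.Transfer.CIT

open Cfsg.Agent

variable {G : Type u} [Group G] [Finite G]

/-- A `PSL(2, q)` with elements of prime-power order only, in the form of the list. -/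
theorem psl_two_listed (h : Grp.EPPO.EPPO G) [IsSimpleGroup G] (hG : ¬ IsMulCommutative G)
    {F : Type} [Field F] [Fintype F] (e : G ≃* Matrix.ProjectiveSpecialLinearGroup (Fin 2) F) :
    Nonempty (G ≃* alternatingGroup (Fin 6)) ∨
    (∃ (F : Type) (_ : Field F) (_ : Fintype F), Fintype.card F ∈ ({4, 7, 8, 17} : Finset ℕ) ∧
      Nonempty (G ≃* Matrix.ProjectiveSpecialLinearGroup (Fin 2) F)) := by
  have hq := psl_two_prime_power h hG e
  simp only [Finset.mem_insert, Finset.mem_singleton] at hq ⊢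
  rcases hq with hq | hq | hq | hq | hq | hq
  · exact Or.inr ⟨F, inferInstance, inferInstance, Or.inl hq, ⟨e⟩⟩
  · right
    haveI := Fact.mk Nat.prime_two
    letI : Fintype (GaloisField 2 2) := Fintype.ofFinite _
    have h4 : Fintype.card (GaloisField 2 2) = 4 := by
      rw [← Nat.card_eq_fintype_card, GaloisField.card 2 2 (by norm_num)]; norm_num
    obtain ⟨a⟩ := S0253.result hq
    obtain ⟨b⟩ := S0252.result h4
    exact ⟨GaloisField 2 2, inferInstance, inferInstance, Or.inl h4, ⟨e.trans (a.trans b.symm)⟩⟩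
  · exact Or.inr ⟨F, inferInstance, inferInstance, Or.inr (Or.inl hq), ⟨e⟩⟩
  · exact Or.inr ⟨F, inferInstance, inferInstance, Or.inr (Or.inr (Or.inl hq)), ⟨e⟩⟩
  · obtain ⟨a⟩ := S0254.result hq
    exact Or.inl ⟨e.trans a⟩
  · exact Or.inr ⟨F, inferInstance, inferInstance, Or.inr (Or.inr (Or.inr hq)), ⟨e⟩⟩

end Cfsg.Agent.Transfer.CIT
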