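import Mathlib
import Cfsg.Agent.Lib.Transfer.CIT.Basic
import Cfsg.Agent.Lib.Transfer.CN.MaxNilpotent
import Cfsg.Agent.Lib.Transfer.TICent.Config
import Cfsg.Agent.Lib.Transfer.TICent.Final
import Cfsg.Agent.S0346
import Cfsg.Agent.S0204

/-!
A finite simple CN-group is a CIT group.
-/

set_option autoImplicit false
set_option linter.style.haveILetI false

open scoped Pointwise

universe u

namespace Cfsg.Agent.Transfer.CIT

open Cfsg.Agent Subgroup
open Cfsg.Agent.Fus.CTSimple (A M mem_A A_le_M)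

variable {G : Type u} [Group G] [Finite G]

/-- A maximal nilpotent subgroup of even order has odd index. -/
theorem exists_sylow_le_maxNil {H : Subgroup G} (hH : CN.MaxNil H) (hCN : Cfsg.IsCNGroup G)
    (h2 : 2 ∣ Nat.card H) : ∃ S : Sylow 2 G, (S : Subgroup G) ≤ H := by
  haveI := Fact.mk Nat.prime_two
  obtain ⟨Q⟩ : Nonempty (Sylow 2 H) := inferInstance
  obtain ⟨S, hS⟩ := (Q.isPGroup'.map H.subtype).exists_le_sylow
  refine ⟨S, ?_⟩
  have hidx : H.index.factorization 2 = 0 := Nat.factorization_eq_zero_of_not_dvd fun hd =>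
    Nat.prime_two.not_dvd_one ((hH.hall hCN) ▸ Nat.dvd_gcd h2 hd)
  have hc : Nat.card ((Q : Subgroup H).map H.subtype) = Nat.card S := by
    rw [card_map_of_injective H.subtype_injective, Sylow.card_eq_multiplicity, Sylow.card_eq_multiplicity,
      ← H.card_mul_index, Nat.factorization_mul Nat.card_pos.ne' index_ne_zero_of_finite, Finsupp.add_apply,
      hidx, add_zero]
  rw [← eq_of_le_of_card_ge hS hc.ge]
  exact map_subtype_le _

/-- A finite non-abelian simple CN-group is a CIT group. -/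
theorem isCIT_of_cn [IsSimpleGroup G] (hG : ¬ IsMulCommutative G) (hCN : Cfsg.IsCNGroup G) : IsCIT G := by
  classical
  haveI := Fact.mk Nat.prime_two
  intro u hu
  by_contra hnp
  have hu1 := Invol.ne_one_of_orderOf_two hu
  obtain ⟨H, hH, hCH⟩ := CN.exists_maxNil (hCN u hu1)
  have huH : u ∈ H := hCH (mem_centralizer_singleton_iff.2 rfl)
  have h2H : 2 ∣ Nat.card H := hu ▸ H.orderOf_dvd_natCard huH
  have hne : ¬ IsPrimePow (Nat.card H) := by
    intro hpp
    obtain ⟨p, k, hp, -, hk⟩ := (isPrimePow_nat_iff _).mp hpp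
    rw [← hk] at h2H
    obtain rfl := ((Nat.prime_dvd_prime_iff_eq Nat.prime_two hp).mp (Nat.prime_two.dvd_of_dvd_pow h2H)).symm
    exact hnp ((IsPGroup.of_card (n := k) hk.symm : IsPGroup 2 H).to_le hCH)
  have hTI : ∀ g : G, H.map (MulAut.conj g).toMonoidHom ≠ H →
      H ⊓ H.map (MulAut.conj g).toMonoidHom = ⊥ := by
    intro g hg
    rw [eq_bot_iff_forall]
    intro x hx
    by_contra hx1
    exact hg (hH.ti hCN hne (hH.map_conj g) hx.1 hx.2 hx1)
  obtain ⟨t, htH, ht, htc⟩ := hH.exists_central h2H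
  have ht1 := Invol.ne_one_of_orderOf_two ht
  have hA : A t = H := hH.centralizer_eq hCN ht1 htc
  obtain ⟨S, hSH⟩ := exists_sylow_le_maxNil hH hCN h2H
  have sle : (S : Subgroup G) ≤ A t := hA ▸ hSH
  have nilA : Group.IsNilpotent (A t) := hCN t ht1
  have hnA : ∀ a ∈ A t, a ∈ normalizer ((S : Subgroup G) : Set G) := by
    intro a ha
    haveI := nilA
    haveI hn : ((S.subtype sle : Sylow 2 (A t)) : Subgroup (A t)).Normal := inferInstance
    rw [Sylow.coe_subtype] at hn
    exact mem_normalizer_fintype fun x hx => hn.conj_mem ⟨x, sle hx⟩ hx ⟨a, ha⟩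
  have hmemS : ∀ y, y ∈ normalizer ((S : Subgroup G) : Set G) → IsPGroup 2 (zpowers y) → y ∈ (S : Subgroup G) :=
    fun y hy h2 => (S.is_maximal' (h2.to_sup_of_normal_right' S.isPGroup' (zpowers_le.mpr hy)) le_sup_right).le
      (mem_sup_left (mem_zpowers y))
  have tiA : ∀ g a, a ∈ A t → a ≠ 1 → g * a * g⁻¹ ∈ A t → g ∈ M t := by
    intro g a ha ha1 hg
    show g ∈ normalizer ((A t : Subgroup G) : Set G)
    rw [hA] at ha hg ⊢
    exact hH.mem_normalizer_of_ti hTI ha ha1 hg
  have cent : ∀ a x, a ∈ A t → a ≠ 1 → Commute x a → x ∈ A t := by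
    intro a x ha ha1 hxa
    rw [hA] at ha ⊢
    exact hH.cc hCN hTI ha ha1 (mem_centralizer_singleton_iff.2 hxa.eq)
  have conjA : ∀ {m x : G}, m ∈ M t → x ∈ A t → m * x * m⁻¹ ∈ A t := fun hm hx =>
    (mem_normalizer_iff.mp hm _).mp hx
  have htwoS : ∀ m, m ∈ M t → IsPGroup 2 (zpowers m) → m ∈ (S : Subgroup G) := by
    intro m hm h2
    refine hmemS m (mem_normalizer_fintype fun x hx => hmemS _ (hnA _ (conjA hm (sle hx))) ?_) h2
    have h' := (S.isPGroup'.to_le (zpowers_le.mpr hx)).map (MulAut.conj m).toMonoidHom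
    rwa [MonoidHom.map_zpowers] at h'
  have hAtop : M t ≠ ⊤ := by
    intro e
    have hn : (A t).Normal := normalizer_eq_top_iff.mp e
    rcases IsSimpleGroup.eq_bot_or_eq_top_of_normal (A t) hn with h | h
    · exact ht1 (mem_bot.mp (h ▸ mem_A.mpr (Commute.refl t)))
    · rw [h] at nilA
      haveI := Group.nilpotent_of_mulEquiv (Subgroup.topEquiv (G := G))
      exact hG ⟨⟨fun p q => IsSimpleGroup.comm_iff_isSolvable.mpr inferInstance p q⟩⟩
  have heven : Even (Nat.card (M t)) :=
    Invol.even_card_of_mem ht (A_le_M (mem_A.mpr (Commute.refl t)))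
  have hinA : ∀ i ∈ M t, orderOf i = 2 → i ∈ A t := fun i hi hi2 =>
    sle (htwoS i hi (IsPGroup.of_card (n := 1) (by rw [Nat.card_zpowers, hi2, pow_one])))
  have se : Cfsg.IsStronglyEmbedded (M t) := by
    rw [Invol.isStronglyEmbedded_iff hAtop heven]
    intro i hi hi2 g hg
    have h2 : orderOf (g⁻¹ * i * g) = 2 := by
      rw [← hi2, ← Invol.orderOf_conj_eq g⁻¹ i, inv_inv]
    exact inv_mem_iff.mp (tiA g⁻¹ i (hinA i hi hi2) (Invol.ne_one_of_orderOf_two hi2)
      (by rw [inv_inv]; exact hinA _ hg h2))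
  have hclass : ∀ k, k ∈ A t → orderOf k = 2 → ∃ m ∈ M t, m * t * m⁻¹ = k := by
    intro k hk hk2
    obtain ⟨g, hg⟩ := isConj_iff.mp (Invol.isConj_involutions se ht hk2)
    exact ⟨g, tiA g t (mem_A.mpr (Commute.refl t)) ht1 (hg ▸ hk), hg⟩
  have invZ : ∀ k, k ∈ A t → orderOf k = 2 → ∀ x, x ∈ A t → Commute x k := by
    intro k hk hk2 x hx
    obtain ⟨m, hm, rfl⟩ := hclass k hk hk2
    have h1 := (mem_A.mp (conjA (inv_mem hm) hx)).map (MulAut.conj m)
    simpa [mul_assoc] using h1
  have one_lt : 1 < ((A t).subgroupOf (M t)).index := by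
    by_contra hcon
    have h1 : ((A t).subgroupOf (M t)).index = 1 :=
      le_antisymm (not_lt.mp hcon) (Nat.one_le_iff_ne_zero.mpr index_ne_zero_of_finite)
    have hone : ∀ k, k ∈ A t → orderOf k = 2 → k = t := by
      intro k hk hk2
      obtain ⟨m, hm, rfl⟩ := hclass k hk hk2
      have hmA : m ∈ A t := (index_eq_one.mp h1).ge (mem_top ⟨m, hm⟩)
      rw [(mem_A.mp hmA).eq, mul_inv_cancel_right]
    obtain ⟨E, hE⟩ := S0204.result (G := G) fun hc => hG hc.isMulCommutative
    haveI := hE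
    have hE2 : ∀ a : E, a ≠ 1 → orderOf (a : G) = 2 := fun a ha => by
      rw [orderOf_coe]
      exact orderOf_eq_prime (by rw [← IsKleinFour.exponent_two (G := E)]; exact Monoid.pow_exponent_eq_one a) ha
    haveI : Nontrivial E := Finite.one_lt_card_iff_nontrivial.mp (by rw [IsKleinFour.card_four]; norm_num)
    obtain ⟨a, ha⟩ := exists_ne (1 : E)
    haveI := Fintype.ofFinite E
    obtain ⟨b, -, hb⟩ := Finset.exists_mem_notMem_of_card_lt_card (s := ({1, a} : Finset E)) (t := Finset.univ)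
      (by rw [Finset.card_pair ha.symm, Finset.card_univ, ← Nat.card_eq_fintype_card, IsKleinFour.card_four]; norm_num)
    simp only [Finset.mem_insert, Finset.mem_singleton, not_or] at hb
    have hab : Commute (a : G) (b : G) :=
      (show Commute a b from (IsKleinFour.isMulCommutative (G := E)).is_comm.comm a b).map E.subtype
    obtain ⟨g, hg⟩ := isConj_iff.mp (Invol.isConj_involutions se (hE2 a ha) ht)
    refine hb.2 (Subtype.ext ?_)
    have hc : Commute (g * b * g⁻¹) t := by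
      rw [← hg]
      simpa using hab.symm.map (MulAut.conj g)
    have h2 := hone _ (mem_A.mpr hc) (by rw [Invol.orderOf_conj_eq, hE2 b hb.1])
    exact (mul_right_inj g).mp ((mul_left_inj g⁻¹).mp (h2.trans hg.symm))
  have c : TICent.Cfg t S := ⟨ht, sle, nilA, tiA, cent, invZ, hAtop, one_lt⟩
  haveI := Fintype.ofFinite (G ⧸ M t)
  have hpp := S0346.result (G := G) (Ω := G ⧸ M t) c.zassenhaus
  rw [← Nat.card_eq_fintype_card, c.card_points, Nat.add_sub_cancel, hA] at hpp
  exact hne hpp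

end Cfsg.Agent.Transfer.CIT
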