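import Mathlib
import Cfsg.Agent.Lib.Grp.PrimePowerOrders
import Cfsg.Agent.Lib.Grp.FpfPrime
import Cfsg.Agent.Lib.Spor.PSLThreeFour

/-!
Groups with elements of prime-power order having a simple normal subgroup modulo a normal `p`-subgroup.
-/

set_option autoImplicit false
set_option linter.style.haveILetI false

universe u

namespace Cfsg.Agent.Transfer.CIT

open Cfsg.Agent Subgroup

variable {G : Type u} [Group G] [Finite G]

/-- An elementary group of order `q²` cannot act freely on a nontrivial `p`-group. -/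
theorem no_free_rank_two (h : Grp.EPPO.EPPO G) {R : Subgroup G} [R.Normal] {p q : ℕ} (hp : p.Prime)
    (hq : q.Prime) (hqp : q ≠ p) (hR : IsPGroup p R) (hR1 : R ≠ ⊥) {w z : G} (hw : orderOf w = q)
    (hz : orderOf z = q) (hwz : Commute z w) (hne : w ∉ zpowers z) : False := by
  haveI := Fact.mk hp
  haveI : Nontrivial R := (nontrivial_iff_ne_bot R).mpr hR1
  haveI := hR.center_nontrivial
  set A := (center R).map R.subtype with hAdef
  haveI : A.Normal := ConjAct.normal_of_characteristic_of_normal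
  have hA : A ≠ ⊥ := fun e => (nontrivial_iff_ne_bot (center R)).mp hR.center_nontrivial
    ((map_eq_bot_iff_of_injective _ R.subtype_injective).mp e)
  have hAp : IsPGroup p A := (hR.to_subgroup _).map _
  have hfix : ∀ e : G, orderOf e = q → ∀ x ∈ A, e * x = x * e → x = 1 := by
    intro e he x hx hcomm
    by_contra hx1
    obtain ⟨k, hk⟩ := IsPGroup.iff_orderOf.mp hAp ⟨x, hx⟩
    rw [Subgroup.orderOf_mk] at hk
    have hk0 : k ≠ 0 := fun e => hx1 (orderOf_eq_one_iff.mp (by simpa [e] using hk))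
    refine h.no_mixed (g := e * x) hq hp hqp ?_ ?_ <;>
      rw [(show Commute e x from hcomm).orderOf_mul_eq_mul_orderOf_of_coprime
        (by rw [he, hk]; exact ((Nat.coprime_primes hq hp).mpr hqp).pow_right k), he, hk]
    · exact dvd_mul_right q _
    · exact (dvd_pow_self p hk0).mul_left _
  have hcomm : ∀ a b : A, a * b = b * a := fun a b => by
    obtain ⟨a', ha', hae⟩ := a.2
    obtain ⟨b', -, hbe⟩ := b.2
    apply Subtype.ext
    show (a : G) * b = b * a
    rw [← hae, ← hbe, ← map_mul, ← map_mul, mem_center_iff.mp ha' b']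
  letI : CommGroup A := { (inferInstance : Group A) with mul_comm := hcomm }
  let ψ : G →* MulAut A := MulAut.conjNormal
  have hnorm : ∀ e : G, orderOf e = q → ∀ x : A, ∏ i ∈ Finset.range q, ψ (e ^ i) x = 1 := by
    intro e he x
    have h1 : ψ e (∏ i ∈ Finset.range q, ψ (e ^ i) x) = ∏ i ∈ Finset.range q, ψ (e ^ i) x := by
      rw [map_prod]
      have hshift : ∏ i ∈ Finset.range q, ψ e (ψ (e ^ i) x) = ∏ i ∈ Finset.range q, ψ (e ^ (i + 1)) x :=
        Finset.prod_congr rfl fun i _ => by rw [pow_succ' e i, map_mul]; rfl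
      rw [hshift]
      have h2 := Finset.prod_range_succ' (fun i => ψ (e ^ i) x) q
      rw [Finset.prod_range_succ, ← he, pow_orderOf_eq_one, pow_zero, he] at h2
      exact (mul_right_cancel h2).symm
    exact Subtype.ext (hfix e he _ (Subtype.prop _) (mul_inv_eq_iff_eq_mul.mp (congrArg Subtype.val h1)))
  have hzq : z ^ q = 1 := hz ▸ pow_orderOf_eq_one z
  have hwq : w ^ q = 1 := hw ▸ pow_orderOf_eq_one w
  haveI := Fact.mk hq
  have hord : ∀ j : ℕ, orderOf (w * z ^ j) = q := fun j => orderOf_eq_prime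
    (by rw [(hwz.symm.pow_right j).mul_pow, hwq, ← pow_mul, mul_comm j, pow_mul, hzq, one_pow, one_mul])
    fun e => hne (by
      rw [mul_eq_one_iff_eq_inv] at e
      rw [e]; exact inv_mem (pow_mem (mem_zpowers z) j))
  obtain ⟨a, ha, ha1⟩ := (bot_or_exists_ne_one A).resolve_left hA
  have hsum : ∏ j ∈ Finset.range q, ∏ i ∈ Finset.range q, ψ ((w * z ^ j) ^ i) (⟨a, ha⟩ : A) = 1 :=
    Finset.prod_eq_one fun j _ => hnorm _ (hord j) _
  rw [Finset.prod_comm, Finset.prod_eq_single_of_mem 0 (Finset.mem_range.mpr hq.pos)] at hsum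
  · simp only [pow_zero, map_one, MulAut.one_apply, Finset.prod_const, Finset.card_range] at hsum
    obtain ⟨k, hk⟩ := hAp ⟨a, ha⟩
    exact ha1 (congrArg Subtype.val (orderOf_eq_one_iff.mp (Nat.eq_one_of_dvd_coprimes
      (((Nat.coprime_primes hp hq).mpr hqp.symm).pow_left k) (orderOf_dvd_of_pow_eq_one hk)
      (orderOf_dvd_of_pow_eq_one hsum))))
  · intro i hi hi0
    have hord' : orderOf (z ^ i) = q := by
      rw [Nat.Coprime.orderOf_pow, hz]
      rw [hz]
      exact hq.coprime_iff_not_dvd.mpr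
        (Nat.not_dvd_of_pos_of_lt (Nat.pos_of_ne_zero hi0) (Finset.mem_range.mp hi))
    have he : ∀ j, ψ ((w * z ^ j) ^ i) (⟨a, ha⟩ : A) = ψ (w ^ i) (ψ ((z ^ i) ^ j) ⟨a, ha⟩) := fun j => by
      rw [(hwz.symm.pow_right j).mul_pow, ← pow_mul, mul_comm j, pow_mul, map_mul]; rfl
    rw [Finset.prod_congr rfl (fun j _ => he j), ← map_prod, hnorm _ hord', map_one]

/-- If the quotient by a normal `p`-subgroup has an elementary subgroup of order `q²`, the subgroup is trivial. -/
theorem eq_bot_of_quotient_rank_two (h : Grp.EPPO.EPPO G) (R : Subgroup G) [R.Normal] {p q : ℕ} (hp : p.Prime)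
    (hq : q.Prime) (hqp : q ≠ p) (hR : IsPGroup p R) {w z : G ⧸ R} (hw : orderOf w = q) (hz : orderOf z = q)
    (hwz : Commute z w) (hne : w ∉ zpowers z) : R = ⊥ := by
  haveI := Fact.mk hq
  haveI := Fact.mk hp
  by_contra hR1
  set E := closure ({z, w} : Set (G ⧸ R)) with hEdef
  have hEc : zpowers z ≤ E ∧ zpowers w ≤ E :=
    ⟨zpowers_le.mpr (subset_closure (Or.inl rfl)), zpowers_le.mpr (subset_closure (Or.inr rfl))⟩
  have hE : IsPGroup q E := by
    have hle : E ≤ zpowers z ⊔ zpowers w := by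
      rw [hEdef, closure_le]
      rintro x (rfl | rfl)
      · exact mem_sup_left (mem_zpowers _)
      · exact mem_sup_right (mem_zpowers _)
    refine IsPGroup.to_le ?_ hle
    refine IsPGroup.to_sup_of_normal_left' (IsPGroup.of_card (n := 1) (by rw [Nat.card_zpowers, hz, pow_one]))
      (IsPGroup.of_card (n := 1) (by rw [Nat.card_zpowers, hw, pow_one])) ?_
    rw [zpowers_le]
    refine mem_normalizer_fintype fun x hx => ?_
    obtain ⟨n, rfl⟩ := mem_zpowers_iff.mp hx
    rw [show w * z ^ n * w⁻¹ = z ^ n by rw [(hwz.symm.zpow_right n).eq, mul_inv_cancel_right]]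
    exact hx
  let π := QuotientGroup.mk' R
  let f : E.comap π →* E := π.subgroupComap E
  have hf : Function.Surjective f := π.subgroupComap_surjective_of_surjective E (QuotientGroup.mk'_surjective R)
  obtain ⟨Q⟩ : Nonempty (Sylow q (E.comap π)) := inferInstance
  have hmap : (Q : Subgroup (E.comap π)).map f = ⊤ := by
    have h1 := (Q.mapSurjective hf).is_maximal' (hE.to_subgroup ⊤) le_top
    rw [← Sylow.coe_mapSurjective hf Q]
    exact h1.symm
  have hinj : ∀ y ∈ (Q : Subgroup (E.comap π)), π (y : G) = 1 → y = 1 := by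
    intro y hy hy1
    obtain ⟨i, hi⟩ := IsPGroup.iff_orderOf.mp Q.isPGroup' ⟨y, hy⟩
    obtain ⟨j, hj⟩ := IsPGroup.iff_orderOf.mp hR ⟨(y : G), (QuotientGroup.eq_one_iff _).mp hy1⟩
    rw [Subgroup.orderOf_mk] at hi hj
    rw [Subgroup.orderOf_coe] at hj
    have hc : Nat.Coprime (q ^ i) (p ^ j) := ((Nat.coprime_primes hq hp).mpr hqp).pow i j
    exact orderOf_eq_one_iff.mp (Nat.eq_one_of_dvd_coprimes hc hi.dvd hj.dvd)
  obtain ⟨w', hw', hwe⟩ := hmap.ge (mem_top (⟨w, hEc.2 (mem_zpowers w)⟩ : E))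
  obtain ⟨z', hz', hze⟩ := hmap.ge (mem_top (⟨z, hEc.1 (mem_zpowers z)⟩ : E))
  have hwπ : π (w' : G) = w := congrArg Subtype.val hwe
  have hzπ : π (z' : G) = z := congrArg Subtype.val hze
  have hord : ∀ y ∈ (Q : Subgroup (E.comap π)), orderOf (π (y : G)) = q → orderOf (y : G) = q := by
    intro y hy ho
    refine orderOf_eq_prime ?_ fun e => hq.ne_one (by rw [← ho, e, map_one, orderOf_one])
    have h1 := hinj (y ^ q) (pow_mem hy q) (by rw [SubmonoidClass.coe_pow, map_pow, ← ho, pow_orderOf_eq_one])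
    simpa using congrArg Subtype.val h1
  refine no_free_rank_two h hp hq hqp hR hR1 (hord w' hw' (hwπ.symm ▸ hw)) (hord z' hz' (hzπ.symm ▸ hz)) ?_ ?_
  · have h1 := hinj (z' * w' * z'⁻¹ * w'⁻¹) (mul_mem (mul_mem (mul_mem hz' hw') (inv_mem hz')) (inv_mem hw')) (by
      simp [hwπ, hzπ, hwz.eq])
    exact (congrArg Subtype.val (mul_inv_eq_iff_eq_mul.mp (mul_inv_eq_one.mp h1)) :)
  · intro hmem
    obtain ⟨n, hn⟩ := mem_zpowers_iff.mp hmem
    exact hne (mem_zpowers_iff.mpr ⟨n, by rw [← hwπ, ← hzπ, ← map_zpow, hn]⟩)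

/-- The primes of a group with a simple normal subgroup are primes of that subgroup. -/
theorem prime_dvd_normal_simple (h : Grp.EPPO.EPPO G) (M : Subgroup G) [M.Normal] [IsSimpleGroup M]
    (hM : ¬ IsMulCommutative M) {p : ℕ} (hp : p.Prime) (hd : p ∣ Nat.card G) : p ∣ Nat.card M := by
  by_contra hpM
  haveI := Fact.mk hp
  obtain ⟨x, hx⟩ := exists_prime_orderOf_dvd_card' p hd
  haveI := Grp.isNilpotent_of_fpf_aut (p := p) (MulAut.conjNormal (H := M) x)
    (by rw [← map_pow, ← hx, pow_orderOf_eq_one, map_one]) (fun g hg => by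
      by_contra hg1
      have hc : Commute x (g : G) := mul_inv_eq_iff_eq_mul.mp (congrArg Subtype.val hg)
      obtain ⟨s, hs, hsd⟩ := Nat.exists_prime_and_dvd (fun e => hg1 (orderOf_eq_one_iff.mp e))
      have hne : s ≠ p := fun e => hpM (e ▸ hsd.trans (orderOf_dvd_natCard g))
      refine h.not_commute hs hp hne (a := (g : G) ^ (orderOf (g : G) / s)) ?_ hx (hc.symm.pow_left _)
      exact orderOf_pow_orderOf_div (orderOf_pos _).ne' (by rwa [orderOf_coe]))
  exact hM ⟨⟨fun a b => IsSimpleGroup.comm_iff_isSolvable.mpr inferInstance a b⟩⟩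

/-- The primes of the index of a normal simple subgroup with a Sylow subgroup of order `q`. -/
theorem prime_dvd_index (h : Grp.EPPO.EPPO G) (M : Subgroup G) [M.Normal] {q n d : ℕ} [hq : Fact q.Prime]
    (hcard : Nat.card M = q * n) (hqn : ¬ q ∣ n) (hd : n % q = d) (hd1 : 1 < d) {s : ℕ} (hs : s.Prime)
    (hsk : s ∣ M.index) : s = q ∨ (s ∣ d ∧ d * s ∣ q - 1) := by
  by_cases hsq : s = q
  · exact Or.inl hsq
  right
  obtain ⟨P0⟩ : Nonempty (Sylow q M) := inferInstance
  have hn0 : n ≠ 0 := fun e => hqn (e ▸ dvd_zero q)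
  have hP0 : Nat.card P0 = q := by
    rw [Sylow.card_eq_multiplicity, hcard, Nat.factorization_mul hq.out.ne_zero hn0, Finsupp.add_apply,
      hq.out.factorization_self, Nat.factorization_eq_zero_of_not_dvd hqn, add_zero, pow_one]
  set P := (P0 : Subgroup M).map M.subtype with hPdef
  have hP : Nat.card P = q := by rw [hPdef, card_map_of_injective M.subtype_injective, hP0]
  have hPM : P ≤ M := map_subtype_le _
  set N := normalizer (P : Set G) with hNdef
  have hfr : N ⊔ M = ⊤ := Sylow.normalizer_sup_eq_top P0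
  set L := M.subgroupOf N
  haveI : L.Normal := by infer_instance
  have hk : L.index = M.index := by
    show M.relIndex N = M.index
    rw [← relIndex_top_right, ← hfr]
    exact (relIndex_sup_right N M).symm
  haveI : IsCyclic P := isCyclic_of_prime_card hP
  let φ : N →* MulAut P := normalizerMonoidHom P
  have hker : IsPGroup q φ.ker := by
    intro x
    refine ⟨(orderOf x).primeFactorsList.length, ?_⟩
    rw [← Nat.eq_prime_pow_of_unique_prime_dvd (orderOf_pos x).ne' (fun {r} hr hrd => ?_)]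
    · exact pow_orderOf_eq_one x
    by_contra hrq
    obtain ⟨a, ha⟩ := exists_prime_orderOf_dvd_card' (G := P) q hP.symm.dvd
    have hc : Commute ((x : N) : G) (a : G) := mul_inv_eq_iff_eq_mul.mp (congrArg
      (fun e : MulAut P => ((e a : P) : G)) (MonoidHom.mem_ker.mp x.2))
    refine h.not_commute hr hq.out hrq (a := ((x : N) : G) ^ (orderOf ((x : N) : G) / r)) ?_
      (by rw [orderOf_coe, ha]) (hc.pow_left _)
    exact orderOf_pow_orderOf_div (orderOf_pos _).ne' (by rwa [orderOf_coe, orderOf_coe])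
  have hrd : Nat.card φ.range ∣ q - 1 := by
    refine (card_subgroup_dvd_card _).trans ?_
    rw [Nat.card_congr (IsCyclic.mulAutMulEquiv P).toEquiv, hP, Nat.card_eq_fintype_card,
      ZMod.card_units_eq_totient, Nat.totient_prime hq.out]
  have hrpp : Nat.card φ.range = 1 ∨ IsPrimePow (Nat.card φ.range) := by
    haveI : IsCyclic (MulAut P) := by
      haveI : IsCyclic (ZMod (Nat.card P))ˣ := by rw [hP]; infer_instance
      exact isCyclic_of_surjective (IsCyclic.mulAutMulEquiv P).symm.toMonoidHom (MulEquiv.surjective _)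
    obtain ⟨y, hy⟩ := IsCyclic.exists_ofOrder_eq_natCard (α := φ.range)
    obtain ⟨x, hx⟩ := y.2
    rw [← hy, ← orderOf_coe, ← hx]
    by_cases h1 : orderOf (φ x) = 1
    · exact Or.inl h1
    · refine Or.inr ((h (x : G) fun e => h1 ?_).dvd (by rw [orderOf_coe]; exact orderOf_map_dvd φ x) h1)
      rw [show x = 1 from Subtype.ext e, map_one, orderOf_one]
  obtain ⟨a, ha⟩ := hker.exists_card_eq
  have hNcard : Nat.card N = q ^ a * Nat.card φ.range := by
    rw [← ha, ← index_ker, card_mul_index]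
  -- the normaliser inside `M`
  set K := normalizer ((P0 : Subgroup M) : Set M)
  have hLK : Nat.card L = Nat.card K := by
    have e1 : N ⊓ M = K.map M.subtype := by
      ext x
      constructor
      · rintro ⟨hxN, hxM⟩
        refine ⟨⟨x, hxM⟩, mem_normalizer_iff.mpr fun y => ?_, rfl⟩
        have h1 : ∀ y : M, ((y : G) ∈ P ↔ y ∈ (P0 : Subgroup M)) := fun y => mem_map_iff_mem M.subtype_injective
        exact ((h1 y).symm.trans (mem_normalizer_iff.mp hxN (y : G))).trans (h1 (⟨x, hxM⟩ * y * ⟨x, hxM⟩⁻¹))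
      · rintro ⟨y, hy, rfl⟩
        refine ⟨mem_normalizer_fintype fun b hb => ?_, y.2⟩
        obtain ⟨c, hc, rfl⟩ := hb
        exact ⟨y * c * y⁻¹, (mem_normalizer_iff.mp hy c).mp hc, rfl⟩
    rw [← card_map_of_injective N.subtype_injective (K := L), subgroupOf_map_subtype, inf_comm, e1,
      card_map_of_injective M.subtype_injective]
  have hsyl : Nat.card (Sylow q M) ≡ 1 [MOD q] := card_sylow_modEq_one q M
  rw [P0.card_eq_index_normalizer] at hsyl
  have hPK : (P0 : Subgroup M) ≤ K := le_normalizer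
  obtain ⟨e, he⟩ := card_dvd_of_le hPK
  rw [hP0] at he
  have hne : n = K.index * e := by
    have h1 := K.card_mul_index
    rw [hcard, he] at h1
    exact Nat.eq_of_mul_eq_mul_left hq.out.pos (by rw [← h1]; ring)
  have hmod : n ≡ e [MOD q] := by
    rw [hne]
    exact (hsyl.mul_right e).trans (by rw [one_mul])
  have hN2 : Nat.card N = q * e * M.index := by
    rw [← L.card_mul_index, hLK, he, hk]
  have heN : e ∣ Nat.card φ.range := by
    have : e ∣ q ^ a * Nat.card φ.range := hNcard ▸ hN2 ▸ ((Dvd.intro_left q rfl).mul_right _)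
    exact (Nat.Coprime.pow_right a ((hq.out.coprime_iff_not_dvd.mpr fun hqe =>
      hqn (hne ▸ hqe.mul_left _)).symm)).dvd_of_dvd_mul_left this
  have hq2 := hq.out.two_le
  have hle : Nat.card φ.range < q := lt_of_le_of_lt (Nat.le_of_dvd (by omega) hrd) (by omega)
  obtain rfl : e = d := by
    rw [← hd, hmod, Nat.mod_eq_of_lt (lt_of_le_of_lt (Nat.le_of_dvd Nat.card_pos heN) hle)]
  have hcop : Nat.Coprime (e * s) (q ^ a) := Nat.Coprime.pow_right a (Nat.Coprime.mul_left
    ((hq.out.coprime_iff_not_dvd.mpr fun hqe => hqn (hne ▸ hqe.mul_left _)).symm)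
    ((Nat.coprime_primes hs hq.out).mpr hsq))
  have hes : e * s ∣ Nat.card φ.range := by
    refine hcop.dvd_of_dvd_mul_left (hNcard ▸ hN2 ▸ ?_)
    rw [mul_assoc]
    exact (mul_dvd_mul_left e hsk).mul_left q
  refine ⟨?_, hes.trans hrd⟩
  rcases hrpp with h1 | hpp
  · rw [h1, Nat.dvd_one] at heN; omega
  obtain ⟨r, c, hr, -, hrc⟩ := (isPrimePow_nat_iff _).mp hpp
  rw [← hrc] at hes heN
  obtain rfl : s = r := (Nat.prime_dvd_prime_iff_eq hs hr).mp (hs.dvd_of_dvd_pow ((Dvd.intro_left e rfl).trans hes))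
  obtain ⟨j, -, rfl⟩ := (Nat.dvd_prime_pow hr).mp heN
  refine dvd_pow_self s ?_
  rintro rfl
  simp at hd1

section L34

open Cfsg.Agent.Spor Cfsg.Agent.Spor.SU32

local notation "S34" => Matrix.SpecialLinearGroup (Fin 3) F4

/-- A cyclic permutation matrix. -/
def cycS : S34 := ⟨!![0, 0, 1; 1, 0, 0; 0, 1, 0], by decide +kernel⟩

/-- `PSL(3, 4)` contains an elementary subgroup of order nine. -/
theorem psl34_rank_two {F : Type} [Field F] [Fintype F] (hF : Fintype.card F = 4) {M : Type u} [Group M]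
    (φ : M ≃* Matrix.ProjectiveSpecialLinearGroup (Fin 3) F) :
    ∃ w z : M, orderOf w = 3 ∧ orderOf z = 3 ∧ Commute z w ∧ w ∉ zpowers z := by
  haveI := Fact.mk Nat.prime_three
  obtain ⟨e⟩ := L34Elem.model hF
  set θ := φ.trans e
  have hcube : L34Elem.dS ^ 3 = 1 ∧ cycS ^ 3 = 1 := by decide +kernel
  have hscal : ∀ i : Fin 3, ∀ c : F4, (((cycS * (L34Elem.dS ^ (i : ℕ))) : S34) : Matrix (Fin 3) (Fin 3) F4) ≠
      c • (1 : Matrix (Fin 3) (Fin 3) F4) := by decide +kernel
  have hcom : ∃ c : F4, ((L34Elem.dS * cycS * (L34Elem.dS ^ 2) * (cycS ^ 2) : S34) : Matrix (Fin 3) (Fin 3) F4) =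
      c • (1 : Matrix (Fin 3) (Fin 3) F4) := by decide +kernel
  set d := L34Elem.π L34Elem.dS with hd
  set c := L34Elem.π cycS with hc
  have hd3 : d ^ 3 = 1 := by rw [hd, ← map_pow, hcube.1, map_one]
  have hc3 : c ^ 3 = 1 := by rw [hc, ← map_pow, hcube.2, map_one]
  have hnot : c ∉ zpowers d := by
    intro hm
    obtain ⟨n, hn⟩ := (isOfFinOrder_of_finite d).mem_zpowers_iff_mem_range_orderOf.mp hm |> Finset.mem_image.mp
    have hn3 : n < 3 := lt_of_lt_of_le (Finset.mem_range.mp hn.1) (Nat.le_of_dvd (by norm_num) (orderOf_dvd_of_pow_eq_one hd3))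
    have h1 : L34Elem.π (cycS * L34Elem.dS ^ ((3 - n) % 3)) = 1 := by
      rw [map_mul, map_pow, ← hc, ← hd, ← hn.2]
      rcases (show n = 0 ∨ n = 1 ∨ n = 2 by omega) with rfl | rfl | rfl <;> simp [← pow_succ', ← pow_succ, hd3]
    obtain ⟨s, -, hs⟩ := L34Elem.center_scalar (L34Elem.π_eq_one.mp h1)
    exact hscal ⟨(3 - n) % 3, Nat.mod_lt _ (by norm_num)⟩ s hs
  have hdc : Commute d c := by
    obtain ⟨s, hs⟩ := hcom
    have h1 := L34Elem.π_eq_one.mpr (L34Elem.center_mem hs)
    rw [map_mul, map_mul, map_mul, map_pow, map_pow, ← hd, ← hc] at h1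
    have e1 : d ^ 2 = d⁻¹ := eq_inv_of_mul_eq_one_left (by rw [← pow_succ, hd3])
    have e2 : c ^ 2 = c⁻¹ := eq_inv_of_mul_eq_one_left (by rw [← pow_succ, hc3])
    rw [e1, e2] at h1
    exact mul_inv_eq_iff_eq_mul.mp (mul_inv_eq_one.mp h1)
  have hd1 : d ≠ 1 := fun e => by
    obtain ⟨s, -, hs⟩ := L34Elem.center_scalar (L34Elem.π_eq_one.mp (hd ▸ e))
    revert hs; revert s; decide +kernel
  refine ⟨θ.symm c, θ.symm d, ?_, ?_, hdc.map θ.symm, fun hm => hnot ?_⟩
  · rw [MulEquiv.orderOf_eq]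
    exact orderOf_eq_prime hc3 fun e => hnot (e ▸ one_mem _)
  · rw [MulEquiv.orderOf_eq]
    exact orderOf_eq_prime hd3 hd1
  · obtain ⟨n, hn⟩ := mem_zpowers_iff.mp hm
    exact mem_zpowers_iff.mpr ⟨n, θ.symm.injective (by rw [map_zpow, hn])⟩

end L34

end Cfsg.Agent.Transfer.CIT
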