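import Mathlib
import Cfsg.Agent.Lib.Transfer.CIT.EPPOExtension
import Cfsg.Agent.Lib.Grp.SolvableThreePrimes
import Cfsg.Agent.Lib.Spor.M21Psl
import Cfsg.Agent.Lib.Classical.DicksonTorus
import Cfsg.Agent.S3992
import Cfsg.Agent.S0204
import Cfsg.Agent.S1163

/-!
The prime divisors of a group whose elements have prime-power order.
-/

set_option autoImplicit false
set_option linter.style.haveILetI false

universe u

namespace Cfsg.Agent.Transfer.CIT

open Cfsg.Agent Subgroup

/-- The simple groups with elements of prime-power order. -/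
def EPPOList (G : Type u) [Group G] : Prop :=
  Nonempty (G ≃* alternatingGroup (Fin 6)) ∨
    (∃ (F : Type) (_ : Field F) (_ : Fintype F), Fintype.card F ∈ ({4, 7, 8, 17} : Finset ℕ) ∧
      Nonempty (G ≃* Matrix.ProjectiveSpecialLinearGroup (Fin 2) F)) ∨
    (∃ (F : Type) (_ : Field F) (_ : Fintype F), Fintype.card F = 4 ∧
      Nonempty (G ≃* Matrix.ProjectiveSpecialLinearGroup (Fin 3) F)) ∨
    (∃ (F : Type) (_ : Field F) (_ : Fintype F),
      (Fintype.card F = 8 ∧ Nonempty (G ≃* ↥(Cfsg.Lie.Sz F 4))) ∨ (Fintype.card F = 32 ∧ Nonempty (G ≃* ↥(Cfsg.Lie.Sz F 8))))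

theorem prime_of_dvd_three {p a b c i j k : ℕ} (hp : p.Prime) (ha : a.Prime) (hb : b.Prime) (hc : c.Prime)
    (h : p ∣ a ^ i * b ^ j * c ^ k) : p = a ∨ p = b ∨ p = c := by
  rcases hp.dvd_mul.mp h with h | h
  · rcases hp.dvd_mul.mp h with h | h
    · exact Or.inl ((Nat.prime_dvd_prime_iff_eq hp ha).mp (hp.dvd_of_dvd_pow h))
    · exact Or.inr (Or.inl ((Nat.prime_dvd_prime_iff_eq hp hb).mp (hp.dvd_of_dvd_pow h)))
  · exact Or.inr (Or.inr ((Nat.prime_dvd_prime_iff_eq hp hc).mp (hp.dvd_of_dvd_pow h)))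

theorem card_primeFactors_le_three {n a b c i j k : ℕ} (ha : a.Prime) (hb : b.Prime) (hc : c.Prime)
    (h : n = a ^ i * b ^ j * c ^ k) : n.primeFactors.card ≤ 3 := by
  refine le_trans (Finset.card_le_card (t := {a, b, c}) fun p hp => ?_) Finset.card_le_three
  rw [Finset.mem_insert, Finset.mem_insert, Finset.mem_singleton]
  exact prime_of_dvd_three (Nat.prime_of_mem_primeFactors hp) ha hb hc (h ▸ Nat.dvd_of_mem_primeFactors hp)

theorem card_primeFactors_le_four {n a b c e i j k l : ℕ} (ha : a.Prime) (hb : b.Prime) (hc : c.Prime)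
    (he : e.Prime) (h : n = a ^ i * b ^ j * c ^ k * e ^ l) : n.primeFactors.card ≤ 4 := by
  refine le_trans (Finset.card_le_card (t := {a, b, c, e}) fun p hp => ?_) Finset.card_le_four
  have hd := Nat.dvd_of_mem_primeFactors hp
  have hp' := Nat.prime_of_mem_primeFactors hp
  simp only [Finset.mem_insert, Finset.mem_singleton]
  rcases hp'.dvd_mul.mp (h ▸ hd) with h' | h'
  · rcases prime_of_dvd_three hp' ha hb hc h' with r | r | r <;> simp [r]
  · simp [(Nat.prime_dvd_prime_iff_eq hp' he).mp (hp'.dvd_of_dvd_pow h')]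

variable {G : Type u} [Group G] [Finite G]

/-- A solvable group has at most two primes. -/
theorem card_primeFactors_of_solvable (h : Grp.EPPO.EPPO G) [Group.IsSolvable G] :
    (Nat.card G).primeFactors.card ≤ 2 := by
  by_contra hc
  push Not at hc
  obtain ⟨a, ha, b, hb, c, hc', hab, hac, hbc⟩ := Finset.two_lt_card.mp hc
  obtain ⟨pa, pb, pc⟩ := And.intro (Nat.prime_of_mem_primeFactors ha)
    (And.intro (Nat.prime_of_mem_primeFactors hb) (Nat.prime_of_mem_primeFactors hc'))
  rcases Grp.ThreePrimes.exists_edge pa pb pc hab hac hbc (Nat.dvd_of_mem_primeFactors ha)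
    (Nat.dvd_of_mem_primeFactors hb) (Nat.dvd_of_mem_primeFactors hc') with ⟨g, hg⟩ | ⟨g, hg⟩ | ⟨g, hg⟩
  · exact h.no_mixed pa pb hab (hg ▸ dvd_mul_right a b) (hg ▸ dvd_mul_left b a)
  · exact h.no_mixed pa pc hac (hg ▸ dvd_mul_right a c) (hg ▸ dvd_mul_left c a)
  · exact h.no_mixed pb pc hbc (hg ▸ dvd_mul_right b c) (hg ▸ dvd_mul_left c b)

/-- The largest solvable normal subgroup. -/
theorem exists_radical (G : Type u) [Group G] [Finite G] : ∃ (R : Subgroup G) (_ : R.Normal), Group.IsSolvable R ∧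
    ∀ N : Subgroup G, N.Normal → Group.IsSolvable N → N ≤ R := by
  obtain ⟨R, -, hR⟩ := (Set.toFinite {N : Subgroup G | N.Normal ∧ Group.IsSolvable N}).exists_le_maximal
    (a := ⊥) ⟨inferInstance, inferInstance⟩
  obtain ⟨hRn, hRs⟩ := hR.1
  refine ⟨R, hRn, hRs, fun N hN hNs => ?_⟩
  haveI := hRn
  haveI := hN
  haveI : Group.IsSolvable (N.map (QuotientGroup.mk' R)) := Grp.isSolvable_map hNs _
  haveI := hRs
  let π := QuotientGroup.mk' R
  have hle : R ≤ (N.map π).comap π := fun x hx => by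
    show π x ∈ N.map π
    rw [show π x = 1 from (QuotientGroup.eq_one_iff x).mpr hx]
    exact one_mem _
  have h1 : Group.IsSolvable ((N.map π).comap π) := Group.isSolvable_of_ker_le_range
    (Subgroup.inclusion hle) (π.subgroupComap (N.map π))
    (fun x hx => ⟨⟨x, (QuotientGroup.eq_one_iff (x : G)).mp (congrArg Subtype.val (MonoidHom.mem_ker.mp hx))⟩, rfl⟩)
  exact (le_comap_map π N).trans (hR.2 ⟨inferInstance, h1⟩ hle)

/-- The structure theorem. -/
theorem eppo_four (hlist : ∀ (S : Type u) [Group S] [Finite S] [IsSimpleGroup S],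
      ¬ IsMulCommutative S → Grp.EPPO.EPPO S → EPPOList S)
    (h : Grp.EPPO.EPPO G) :
    (Nat.card G).primeFactors.card ≤ 4 ∧
    ((Nat.card G).primeFactors.card = 4 →
      (∃ (F : Type) (_ : Field F) (_ : Fintype F), Fintype.card F = 4 ∧
        Nonempty (G ≃* Matrix.ProjectiveSpecialLinearGroup (Fin 3) F)) ∨
      (∃ (N : Subgroup G) (_ : N.Normal), IsPGroup 2 ↥N ∧
        ∃ (F : Type) (_ : Field F) (_ : Fintype F),
          (Fintype.card F = 8 ∧ Nonempty (G ⧸ N ≃* ↥(Cfsg.Lie.Sz F 4))) ∨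
          (Fintype.card F = 32 ∧ Nonempty (G ⧸ N ≃* ↥(Cfsg.Lie.Sz F 8))))) := by
  classical
  haveI := Fact.mk Nat.prime_two
  haveI := Fact.mk Nat.prime_three
  by_cases hsol : Group.IsSolvable G
  · have := card_primeFactors_of_solvable h
    exact ⟨by omega, fun h4 => by omega⟩
  obtain ⟨R, hRn, hRs, hRmax⟩ := exists_radical G
  haveI := hRn
  obtain ⟨⟨r, hr, hRr⟩, ⟨M, hMn, hMs, hMnc, hMmin⟩, -⟩ := S3992.result hsol h R hRs hRmax
  haveI := hMn
  haveI := hMs
  have hX : Grp.EPPO.EPPO (G ⧸ R) := h.quotient R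
  have hMe : Grp.EPPO.EPPO M := fun g hg => by
    rw [← orderOf_coe]; exact hX _ fun e => hg (Subtype.ext e)
  -- `R` is a 2-group
  obtain ⟨E, hE⟩ := S0204.result (G := M) fun hc => hMnc hc.isMulCommutative
  haveI := hE
  have hE2 : ∀ a : E, a ≠ 1 → orderOf ((a : M) : G ⧸ R) = 2 := fun a ha => by
    rw [orderOf_coe, orderOf_coe]
    exact orderOf_eq_prime (by rw [← IsKleinFour.exponent_two (G := E)]; exact Monoid.pow_exponent_eq_one a) ha
  haveI : Nontrivial E := Finite.one_lt_card_iff_nontrivial.mp (by rw [IsKleinFour.card_four]; norm_num)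
  obtain ⟨a, ha⟩ := exists_ne (1 : E)
  haveI := Fintype.ofFinite E
  obtain ⟨b, -, hb⟩ := Finset.exists_mem_notMem_of_card_lt_card (s := ({1, a} : Finset E)) (t := Finset.univ)
    (by rw [Finset.card_pair ha.symm, Finset.card_univ, ← Nat.card_eq_fintype_card, IsKleinFour.card_four]; norm_num)
  simp only [Finset.mem_insert, Finset.mem_singleton, not_or] at hb
  have hR2 : IsPGroup 2 R := by
    by_cases hr2 : r = 2
    · exact hr2 ▸ hRr
    rw [eq_bot_of_quotient_rank_two h R hr Nat.prime_two (Ne.symm hr2) hRr (hE2 b hb.1) (hE2 a ha)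
      (((show Commute a b from (IsKleinFour.isMulCommutative (G := E)).is_comm.comm a b).map E.subtype).map M.subtype)
      (fun hm => by
        obtain ⟨n, hn⟩ := mem_zpowers_iff.mp hm
        have hn' : a ^ n = b := Subtype.ext (Subtype.ext (by simpa using hn))
        have h2 : a ^ 2 = 1 := by rw [← IsKleinFour.exponent_two (G := E)]; exact Monoid.pow_exponent_eq_one a
        rcases Int.even_or_odd n with ⟨l, hl⟩ | ⟨l, hl⟩
        · rw [hl, ← two_mul, zpow_mul, show a ^ (2 : ℤ) = 1 by exact_mod_cast h2, one_zpow] at hn'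
          exact hb.1 hn'.symm
        · rw [hl, zpow_add, zpow_mul, show a ^ (2 : ℤ) = 1 by exact_mod_cast h2, one_zpow, one_mul, zpow_one] at hn'
          exact hb.2 hn'.symm)]
    exact IsPGroup.of_bot
  -- the primes
  have hMeven : 2 ∣ Nat.card M := by
    rw [← hE2 a ha, orderOf_coe]; exact orderOf_dvd_natCard _
  have hpf : (Nat.card G).primeFactors.card ≤ (Nat.card M).primeFactors.card := by
    refine Finset.card_le_card fun p hp => ?_
    obtain ⟨hp, hd, -⟩ := Nat.mem_primeFactors.mp hp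
    refine Nat.mem_primeFactors.mpr ⟨hp, ?_, Nat.card_pos.ne'⟩
    rw [card_eq_card_quotient_mul_card_subgroup R] at hd
    rcases hp.dvd_mul.mp hd with hd | hd
    · exact prime_dvd_normal_simple hX M hMnc hp hd
    · obtain ⟨k, hk⟩ := hR2.exists_card_eq
      rw [hk] at hd
      rwa [(Nat.prime_dvd_prime_iff_eq hp Nat.prime_two).mp (hp.dvd_of_dvd_pow hd)]
  have hthree : ∀ {a b c i j k : ℕ}, a.Prime → b.Prime → c.Prime → Nat.card M = a ^ i * b ^ j * c ^ k →
      (Nat.card G).primeFactors.card ≤ 3 := fun ha hb hc e => hpf.trans (card_primeFactors_le_three ha hb hc e)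
  have p5 : Nat.Prime 5 := by norm_num
  have p7 : Nat.Prime 7 := by norm_num
  have hidx : ∀ {q n d : ℕ}, q.Prime → Nat.card M = q * n → ¬ q ∣ n → n % q = d → 1 < d →
      ∀ s : ℕ, s.Prime → s ∣ M.index → s = q ∨ (s ∣ d ∧ d * s ∣ q - 1) := fun hq h1 h2 h3 h4 s hs hsk => by
    haveI := Fact.mk hq
    exact prime_dvd_index hX M h1 h2 h3 h4 hs hsk
  have hMtop : (∀ s : ℕ, s.Prime → ¬ s ∣ M.index) → M = ⊤ := fun hno => by
    by_contra hne
    obtain ⟨s, hs, hsd⟩ := Nat.exists_prime_and_dvd (fun e => hne (index_eq_one.mp e))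
    exact hno s hs hsd
  have topEq : M = ⊤ → Nonempty (G ⧸ R ≃* M) := fun e =>
    ⟨(Subgroup.topEquiv.symm).trans (MulEquiv.subgroupCongr e.symm)⟩
  rcases hlist M hMnc hMe with ⟨⟨e⟩⟩ | ⟨F, i1, i2, hF, ⟨e⟩⟩ | ⟨F, i1, i2, hF, ⟨e⟩⟩ | ⟨F, i1, i2, hFe⟩
  · have hc : Nat.card M = 360 := by
      rw [Nat.card_congr e.toEquiv, nat_card_alternatingGroup, Nat.card_fin]
      rfl
    have := hthree Nat.prime_two Nat.prime_three p5 (i := 3) (j := 2) (k := 1) (by rw [hc]; norm_num)
    exact ⟨by omega, fun h4 => by omega⟩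
  · have hc := Dickson.card_psl (F := F)
    rw [← Nat.card_congr e.toEquiv, show Dickson.del F = Nat.gcd 2 (Fintype.card F - 1) from rfl] at hc
    simp only [Finset.mem_insert, Finset.mem_singleton] at hF
    have : (Nat.card G).primeFactors.card ≤ 3 := by
      rcases hF with hq | hq | hq | hq <;> rw [hq] at hc <;> norm_num at hc
      · exact hthree Nat.prime_two Nat.prime_three p5 (i := 2) (j := 1) (k := 1) (by rw [hc]; norm_num)
      · exact hthree Nat.prime_two Nat.prime_three p7 (i := 3) (j := 1) (k := 1) (by omega)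
      · exact hthree Nat.prime_two Nat.prime_three p7 (i := 3) (j := 2) (k := 1) (by rw [hc]; norm_num)
      · exact hthree Nat.prime_two Nat.prime_three (show Nat.Prime 17 by norm_num) (i := 4) (j := 2) (k := 1) (by omega)
    exact ⟨by omega, fun h4 => by omega⟩
  · have hc : Nat.card M = 20160 := by rw [Nat.card_congr e.toEquiv, Spor.M21.natCard_psl hF]
    refine ⟨hpf.trans (card_primeFactors_le_four Nat.prime_two Nat.prime_three p5 p7 (i := 6) (j := 2) (k := 1)
      (l := 1) (by rw [hc]; norm_num)), fun _ => Or.inl ⟨F, i1, i2, hF, ?_⟩⟩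
    have hM : M = ⊤ := hMtop fun s hs hsk => by
      rcases hidx p5 (n := 4032) (d := 2) (by omega) (by norm_num) (by norm_num) (by norm_num) s hs hsk with e5 | ⟨e5, -⟩
      · rcases hidx p7 (n := 2880) (d := 3) (by omega) (by norm_num) (by norm_num) (by norm_num) s hs hsk with e7 | ⟨e7, -⟩
        · omega
        · subst e5; norm_num at e7
      · have hs2 : s = 2 := (Nat.prime_dvd_prime_iff_eq hs Nat.prime_two).mp e5
        rcases hidx p7 (n := 2880) (d := 3) (by omega) (by norm_num) (by norm_num) (by norm_num) s hs hsk with e7 | ⟨e7, -⟩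
        · omega
        · subst hs2; norm_num at e7
    obtain ⟨w, z, hw, hz, hwz, hne⟩ := psl34_rank_two hF e
    have hR : R = ⊥ := eq_bot_of_quotient_rank_two h R Nat.prime_two Nat.prime_three (by norm_num) hR2
      (w := (w : G ⧸ R)) (z := (z : G ⧸ R)) (by rw [orderOf_coe, hw]) (by rw [orderOf_coe, hz]) (hwz.map M.subtype)
      (fun hm => hne (by
        obtain ⟨n, hn⟩ := mem_zpowers_iff.mp hm
        exact mem_zpowers_iff.mpr ⟨n, Subtype.ext (by simpa using hn)⟩))
    obtain ⟨f⟩ := topEq hM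
    exact ⟨((QuotientGroup.quotientMulEquivOfEq hR).trans QuotientGroup.quotientBot).symm.trans (f.trans e)⟩
  · have hs : ∀ {m : ℕ}, 1 ≤ m → Fintype.card F = 2 ^ (2 * m + 1) → Nonempty (M ≃* ↥(Cfsg.Lie.Sz F (2 ^ (m + 1)))) →
        Nat.card M = (2 ^ (2 * m + 1)) ^ 2 * (2 ^ (2 * m + 1) - 1) * ((2 ^ (2 * m + 1)) ^ 2 + 1) := fun hm hF ⟨e⟩ => by
      rw [Nat.card_congr e.toEquiv]
      exact (S1163.result (F := F) hm hF).1
    rcases hFe with ⟨hF, ⟨e⟩⟩ | ⟨hF, ⟨e⟩⟩
    · have hc : Nat.card M = 29120 := by rw [hs (m := 1) le_rfl (by rw [hF]; norm_num) ⟨e⟩]; norm_num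
      refine ⟨hpf.trans (card_primeFactors_le_four Nat.prime_two p5 p7 (show Nat.Prime 13 by norm_num) (i := 6) (j := 1)
        (k := 1) (l := 1) (by rw [hc]; norm_num)), fun _ => Or.inr ⟨R, hRn, hR2, F, i1, i2, Or.inl ⟨hF, ?_⟩⟩⟩
      have hM : M = ⊤ := hMtop fun s hs hsk => by
        rcases hidx p7 (n := 4160) (d := 2) (by omega) (by norm_num) (by norm_num) (by norm_num) s hs hsk with e7 | ⟨e7, e7'⟩
        · rcases hidx p5 (n := 5824) (d := 4) (by omega) (by norm_num) (by norm_num) (by norm_num) s hs hsk with e5 | ⟨e5, -⟩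
          · omega
          · subst e7; norm_num at e5
        · obtain rfl : s = 2 := (Nat.prime_dvd_prime_iff_eq hs Nat.prime_two).mp e7
          norm_num at e7'
      obtain ⟨f⟩ := topEq hM
      exact ⟨f.trans e⟩
    · have hc : Nat.card M = 32537600 := by rw [hs (m := 2) (by norm_num) (by rw [hF]; norm_num) ⟨e⟩]; norm_num
      refine ⟨hpf.trans (card_primeFactors_le_four Nat.prime_two p5 (show Nat.Prime 31 by norm_num)
        (show Nat.Prime 41 by norm_num) (i := 10) (j := 2) (k := 1) (l := 1) (by rw [hc]; norm_num)),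
        fun _ => Or.inr ⟨R, hRn, hR2, F, i1, i2, Or.inr ⟨hF, ?_⟩⟩⟩
      have hM : M = ⊤ := hMtop fun s hs hsk => by
        rcases hidx (show Nat.Prime 31 by norm_num) (n := 1049600) (d := 2) (by omega) (by norm_num) (by norm_num) (by norm_num) s hs hsk with e31 | ⟨e31, e31'⟩
        · rcases hidx (show Nat.Prime 41 by norm_num) (n := 793600) (d := 4) (by omega) (by norm_num) (by norm_num) (by norm_num) s hs hsk with e41 | ⟨e41, -⟩
          · omega
          · subst e31; norm_num at e41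
        · obtain rfl : s = 2 := (Nat.prime_dvd_prime_iff_eq hs Nat.prime_two).mp e31
          norm_num at e31'
      obtain ⟨f⟩ := topEq hM
      exact ⟨f.trans e⟩

end Cfsg.Agent.Transfer.CIT
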